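import Mathlib

set_option autoImplicit false
open LinearMap

namespace Groth.Agent.Lib.Helper2.Tate

variable {k : Type*} [Field k] {V : Type*} [AddCommGroup V] [Module k V]

/-- finite potent endomorphisms -/
def IsFinPot (θ : Module.End k V) : Prop := ∃ n : ℕ, FiniteDimensional k (range (θ ^ n))

theorem range_pow_stable (θ : Module.End k V) (n : ℕ) :
    ∀ x ∈ range (θ ^ n), θ x ∈ range (θ ^ n) := by
  rintro x ⟨y, rfl⟩
  refine ⟨θ y, ?_⟩
  rw [← Module.End.mul_apply, ← Module.End.mul_apply, ← pow_succ, ← pow_succ']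

open Classical in
/-- Tate's trace of a finite potent endomorphism -/
noncomputable def fpTrace (θ : Module.End k V) : k :=
  if h : IsFinPot θ then
    haveI := Nat.find_spec h
    LinearMap.trace k _ (θ.restrict (range_pow_stable θ (Nat.find h)))
  else 0

theorem trace_restrict_eq_of_map_le (θ : Module.End k V) (W₁ W₂ : Submodule k V)
    [FiniteDimensional k W₁] [FiniteDimensional k W₂]
    (h₁ : ∀ x ∈ W₁, θ x ∈ W₁) (h₂ : ∀ x ∈ W₂, θ x ∈ W₂) (hle : W₁ ≤ W₂)
    (h21 : ∀ x ∈ W₂, θ x ∈ W₁) :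
    trace k W₁ (θ.restrict h₁) = trace k W₂ (θ.restrict h₂) := by
  have := trace_comp_comm' (R := k) (Submodule.inclusion hle) (θ.restrict h21)
  have e1 : (θ.restrict h21) ∘ₗ (Submodule.inclusion hle) = θ.restrict h₁ := by
    ext x; rfl
  have e2 : (Submodule.inclusion hle) ∘ₗ (θ.restrict h21) = θ.restrict h₂ := by
    ext x; rfl
  rw [e1, e2] at this
  exact this

theorem pow_mem_of_stable (θ : Module.End k V) (W : Submodule k V) (h : ∀ x ∈ W, θ x ∈ W)
    (m : ℕ) {x : V} (hx : x ∈ W) : (θ ^ m) x ∈ W := by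
  induction m with
  | zero => simpa using hx
  | succ m ihm =>
    rw [pow_succ', Module.End.mul_apply]
    exact h _ ihm

theorem trace_restrict_eq_of_pow_le (θ : Module.End k V) (m : ℕ) :
    ∀ (W₁ W₂ : Submodule k V) [FiniteDimensional k W₁] [FiniteDimensional k W₂]
    (h₁ : ∀ x ∈ W₁, θ x ∈ W₁) (h₂ : ∀ x ∈ W₂, θ x ∈ W₂) (_ : W₁ ≤ W₂)
    (_ : ∀ x ∈ W₂, (θ ^ m) x ∈ W₁),
    trace k W₁ (θ.restrict h₁) = trace k W₂ (θ.restrict h₂) := by
  induction m with
  | zero =>
    intro W₁ W₂ _ _ h₁ h₂ hle hm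
    have : W₁ = W₂ := le_antisymm hle (fun x hx => by simpa using hm x hx)
    subst this
    rfl
  | succ m ih =>
    intro W₁ W₂ _ _ h₁ h₂ hle hm
    set X : Submodule k V := W₁ ⊔ W₂.map θ with hX
    have hXle : X ≤ W₂ := by
      apply sup_le hle
      rintro _ ⟨w, hw, rfl⟩
      exact h₂ w hw
    have hXst : ∀ x ∈ X, θ x ∈ X := by
      intro x hx
      exact Submodule.mem_sup_right (Submodule.mem_map_of_mem (hXle hx))
    have hXm : ∀ x ∈ X, (θ ^ m) x ∈ W₁ := by
      intro x hx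
      obtain ⟨w₁, hw₁, y, hy, rfl⟩ := Submodule.mem_sup.1 hx
      obtain ⟨w₂, hw₂, rfl⟩ := hy
      rw [map_add]
      refine add_mem ?_ ?_
      · exact pow_mem_of_stable θ W₁ h₁ m hw₁
      · have := hm w₂ hw₂
        rwa [pow_succ, Module.End.mul_apply] at this
    rw [ih W₁ X h₁ hXst le_sup_left hXm]
    exact trace_restrict_eq_of_map_le θ X W₂ hXst h₂ hXle
      (fun x hx => Submodule.mem_sup_right (Submodule.mem_map_of_mem hx))

/-- (T0) the trace can be computed on any finite dimensional stable subspace containing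
the image of a power -/
theorem fpTrace_eq_trace_restrict (θ : Module.End k V) (W : Submodule k V)
    [FiniteDimensional k W] (hW : ∀ x ∈ W, θ x ∈ W) (n : ℕ) (hn : range (θ ^ n) ≤ W) :
    fpTrace θ = trace k W (θ.restrict hW) := by
  classical
  have hfp : IsFinPot θ := ⟨n, Submodule.finiteDimensional_of_le hn⟩
  unfold fpTrace
  rw [dif_pos hfp]
  set n₀ := Nat.find hfp with hn₀
  haveI hU : FiniteDimensional k (range (θ ^ n₀)) := Nat.find_spec hfp
  set U : Submodule k V := range (θ ^ n₀) with hUdef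
  have hUst := range_pow_stable θ n₀
  set W' : Submodule k V := W ⊔ U with hW'
  have hW'st : ∀ x ∈ W', θ x ∈ W' := by
    intro x hx
    obtain ⟨w, hw, u, hu, rfl⟩ := Submodule.mem_sup.1 hx
    rw [map_add]
    exact add_mem (Submodule.mem_sup_left (hW w hw)) (Submodule.mem_sup_right (hUst u hu))
  have e1 := trace_restrict_eq_of_pow_le θ n₀ U W' hUst hW'st le_sup_right
    (fun x _ => ⟨x, rfl⟩)
  have e2 := trace_restrict_eq_of_pow_le θ n W W' hW hW'st le_sup_left
    (fun x _ => hn ⟨x, rfl⟩)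
  rw [e2]
  exact e1

theorem isFinPot_of_range_pow_le (θ : Module.End k V) (W : Submodule k V)
    [FiniteDimensional k W] (n : ℕ) (hn : range (θ ^ n) ≤ W) : IsFinPot θ :=
  ⟨n, Submodule.finiteDimensional_of_le hn⟩

/-- (T3) nilpotent endomorphisms have trace zero -/
theorem fpTrace_eq_zero_of_pow_eq_zero (θ : Module.End k V) (n : ℕ) (h : θ ^ n = 0) :
    fpTrace θ = 0 := by
  have hn : range (θ ^ n) ≤ (⊥ : Submodule k V) := by
    rw [h, range_zero]
  rw [fpTrace_eq_trace_restrict θ ⊥ (fun x hx => by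
    rw [Submodule.mem_bot] at hx ⊢; rw [hx, map_zero]) n hn]
  have : (θ.restrict (p := (⊥ : Submodule k V)) (q := ⊥) (fun x hx => by
      rw [Submodule.mem_bot] at hx ⊢; rw [hx, map_zero])) = 0 := by
    ext x
  rw [this, map_zero]

theorem comp_pow_succ {V' : Type*} [AddCommGroup V'] [Module k V']
    (f : V →ₗ[k] V') (g : V' →ₗ[k] V) (n : ℕ) :
    ((g ∘ₗ f : Module.End k V)) ^ (n + 1) = g ∘ₗ ((f ∘ₗ g : Module.End k V') ^ n) ∘ₗ f := by
  induction n with
  | zero =>
    rw [pow_zero, zero_add, pow_one]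
    rfl
  | succ n ih =>
    rw [pow_succ, ih, pow_succ]
    rfl

/-- (T5) `Tr(gf) = Tr(fg)` -/
theorem fpTrace_comp_comm {V' : Type*} [AddCommGroup V'] [Module k V']
    (f : V →ₗ[k] V') (g : V' →ₗ[k] V) (h : IsFinPot (f ∘ₗ g : Module.End k V')) :
    IsFinPot (g ∘ₗ f : Module.End k V) ∧
      fpTrace (g ∘ₗ f : Module.End k V) = fpTrace (f ∘ₗ g : Module.End k V') := by
  obtain ⟨n, hn⟩ := h
  haveI := hn
  set W' : Submodule k V' := range ((f ∘ₗ g : Module.End k V') ^ n) with hW'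
  have hW'st := range_pow_stable (f ∘ₗ g : Module.End k V') n
  set W : Submodule k V := W'.map g with hW
  have hWst : ∀ x ∈ W, (g ∘ₗ f : Module.End k V) x ∈ W := by
    rintro _ ⟨w, hw, rfl⟩
    exact Submodule.mem_map_of_mem (hW'st w hw)
  have hrange : range ((g ∘ₗ f : Module.End k V) ^ (n + 1)) ≤ W := by
    rw [comp_pow_succ]
    rintro _ ⟨x, rfl⟩
    exact Submodule.mem_map_of_mem ⟨f x, rfl⟩
  refine ⟨isFinPot_of_range_pow_le _ W (n + 1) hrange, ?_⟩
  rw [fpTrace_eq_trace_restrict _ W hWst (n + 1) hrange,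
    fpTrace_eq_trace_restrict _ W' hW'st n le_rfl]
  have hg : ∀ x ∈ W', g x ∈ W := fun x hx => Submodule.mem_map_of_mem hx
  have hf : ∀ x ∈ W, f x ∈ W' := by
    rintro _ ⟨w, hw, rfl⟩
    exact hW'st w hw
  have := trace_comp_comm' (R := k) (f.restrict hf) (g.restrict hg)
  have e1 : (g.restrict hg) ∘ₗ (f.restrict hf) = (g ∘ₗ f : Module.End k V).restrict hWst := by
    ext x; rfl
  have e2 : (f.restrict hf) ∘ₗ (g.restrict hg) =
      (f ∘ₗ g : Module.End k V').restrict hW'st := by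
    ext x; rfl
  rw [e1, e2] at this
  exact this

end Groth.Agent.Lib.Helper2.Tate
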