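import Mathlib
import Groth.Agent.Lib.Helper2.Tate.T1

set_option autoImplicit false
open LinearMap

namespace Groth.Agent.Lib.Helper2.Tate

variable {k : Type*} [Field k] {V : Type*} [AddCommGroup V] [Module k V]

/-- `X ≺ Y`: `X` is not much bigger than `Y` -/
def AlmostLE (X Y : Submodule k V) : Prop :=
  ∃ W : Submodule k V, FiniteDimensional k W ∧ X ≤ Y ⊔ W

theorem AlmostLE.of_le {X Y : Submodule k V} (h : X ≤ Y) : AlmostLE X Y :=
  ⟨⊥, inferInstance, h.trans le_sup_left⟩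

theorem AlmostLE.refl (X : Submodule k V) : AlmostLE X X := AlmostLE.of_le le_rfl

theorem AlmostLE.of_finiteDimensional (X Y : Submodule k V) [FiniteDimensional k X] :
    AlmostLE X Y := ⟨X, inferInstance, le_sup_right⟩

theorem AlmostLE.trans {X Y Z : Submodule k V} (h1 : AlmostLE X Y) (h2 : AlmostLE Y Z) :
    AlmostLE X Z := by
  obtain ⟨W1, hW1, h1⟩ := h1
  obtain ⟨W2, hW2, h2⟩ := h2
  haveI := hW1
  haveI := hW2
  refine ⟨W2 ⊔ W1, inferInstance, h1.trans ?_⟩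
  rw [← sup_assoc]
  exact sup_le_sup_right h2 W1

theorem AlmostLE.mono_left {X X' Y : Submodule k V} (h : X' ≤ X) (h1 : AlmostLE X Y) :
    AlmostLE X' Y := (AlmostLE.of_le h).trans h1

theorem AlmostLE.mono_right {X Y Y' : Submodule k V} (h : Y ≤ Y') (h1 : AlmostLE X Y) :
    AlmostLE X Y' := h1.trans (AlmostLE.of_le h)

theorem AlmostLE.sup {X Y Z : Submodule k V} (h1 : AlmostLE X Z) (h2 : AlmostLE Y Z) :
    AlmostLE (X ⊔ Y) Z := by
  obtain ⟨W1, hW1, h1⟩ := h1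
  obtain ⟨W2, hW2, h2⟩ := h2
  haveI := hW1
  haveI := hW2
  refine ⟨W1 ⊔ W2, inferInstance, sup_le (h1.trans ?_) (h2.trans ?_)⟩
  · exact sup_le_sup_left le_sup_left Z
  · exact sup_le_sup_left le_sup_right Z

theorem AlmostLE.map {X Y : Submodule k V} {V' : Type*} [AddCommGroup V'] [Module k V']
    (θ : V →ₗ[k] V') (h : AlmostLE X Y) : AlmostLE (X.map θ) (Y.map θ) := by
  obtain ⟨W, hW, h⟩ := h
  haveI := hW
  refine ⟨W.map θ, inferInstance, ?_⟩
  rw [← Submodule.map_sup]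
  exact Submodule.map_mono h

theorem almostLE_bot_iff {X : Submodule k V} : AlmostLE X ⊥ ↔ FiniteDimensional k X := by
  constructor
  · rintro ⟨W, hW, h⟩
    haveI := hW
    rw [bot_sup_eq] at h
    exact Submodule.finiteDimensional_of_le h
  · intro h
    haveI := h
    exact AlmostLE.of_finiteDimensional X ⊥

variable (A : Submodule k V)

/-- `E`: endomorphisms with `θ A ≺ A` -/
def EE : Submodule k (Module.End k V) where
  carrier := {θ | AlmostLE (A.map θ) A}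
  add_mem' := by
    intro θ θ' h h'
    exact ((h.sup h').mono_left (Submodule.map_add_le A θ θ'))
  zero_mem' := by
    change AlmostLE (A.map (0 : V →ₗ[k] V)) A
    rw [Submodule.map_zero]
    exact AlmostLE.of_le bot_le
  smul_mem' := by
    intro c θ h
    refine h.mono_left ?_
    rintro _ ⟨a, ha, rfl⟩
    exact ⟨c • a, A.smul_mem c ha, by simp⟩

/-- `E₁`: endomorphisms with `θ V ≺ A` -/
def E1 : Submodule k (Module.End k V) where
  carrier := {θ | AlmostLE (range θ) A}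
  add_mem' := by
    intro θ θ' h h'
    refine (h.sup h').mono_left ?_
    rintro _ ⟨x, rfl⟩
    exact Submodule.add_mem_sup ⟨x, rfl⟩ ⟨x, rfl⟩
  zero_mem' := by
    change AlmostLE (range (0 : V →ₗ[k] V)) A
    rw [range_zero]
    exact AlmostLE.of_le bot_le
  smul_mem' := by
    intro c θ h
    refine h.mono_left ?_
    rintro _ ⟨x, rfl⟩
    exact ⟨c • x, by simp⟩

/-- `E₂`: endomorphisms with `θ A` finite dimensional -/
def E2 : Submodule k (Module.End k V) where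
  carrier := {θ | AlmostLE (A.map θ) ⊥}
  add_mem' := by
    intro θ θ' h h'
    exact ((h.sup h').mono_left (Submodule.map_add_le A θ θ'))
  zero_mem' := by
    change AlmostLE (A.map (0 : V →ₗ[k] V)) ⊥
    rw [Submodule.map_zero]
    exact AlmostLE.of_le bot_le
  smul_mem' := by
    intro c θ h
    refine h.mono_left ?_
    rintro _ ⟨a, ha, rfl⟩
    exact ⟨c • a, A.smul_mem c ha, by simp⟩

/-- `E₀ = E₁ ∩ E₂` -/
def E0 : Submodule k (Module.End k V) := E1 A ⊓ E2 A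

theorem mem_EE {θ : Module.End k V} : θ ∈ EE A ↔ AlmostLE (A.map θ) A := Iff.rfl
theorem mem_E1 {θ : Module.End k V} : θ ∈ E1 A ↔ AlmostLE (range θ) A := Iff.rfl
theorem mem_E2 {θ : Module.End k V} : θ ∈ E2 A ↔ AlmostLE (A.map θ) ⊥ := Iff.rfl
theorem mem_E0 {θ : Module.End k V} : θ ∈ E0 A ↔ θ ∈ E1 A ∧ θ ∈ E2 A := Iff.rfl

theorem E1_le_EE : E1 A ≤ EE A := fun θ h =>
  AlmostLE.mono_left (LinearMap.map_le_range) h

theorem E2_le_EE : E2 A ≤ EE A := fun θ h =>
  AlmostLE.mono_right bot_le h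

variable {A}

theorem E1_mul_left {ψ : Module.End k V} (hψ : ψ ∈ E1 A) (θ : Module.End k V) :
    ψ * θ ∈ E1 A := by
  refine AlmostLE.mono_left ?_ hψ
  rintro _ ⟨x, rfl⟩
  exact ⟨θ x, rfl⟩

theorem E1_mul_right {θ ψ : Module.End k V} (hθ : θ ∈ EE A) (hψ : ψ ∈ E1 A) :
    θ * ψ ∈ E1 A := by
  have h1 : AlmostLE ((range ψ).map θ) (A.map θ) := AlmostLE.map θ hψ
  have h2 : range (θ * ψ) = (range ψ).map θ := by
    rw [Module.End.mul_eq_comp, LinearMap.range_comp]
  rw [mem_E1, h2]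
  exact h1.trans hθ

theorem E2_mul_left {ψ : Module.End k V} (hψ : ψ ∈ E2 A) (θ : Module.End k V) :
    θ * ψ ∈ E2 A := by
  have h1 : AlmostLE ((A.map ψ).map θ) ((⊥ : Submodule k V).map θ) := AlmostLE.map θ hψ
  rw [Submodule.map_bot] at h1
  rw [mem_E2, Module.End.mul_eq_comp, Submodule.map_comp]
  exact h1

theorem E2_mul_right {θ ψ : Module.End k V} (hθ : θ ∈ EE A) (hψ : ψ ∈ E2 A) :
    ψ * θ ∈ E2 A := by
  have h1 : AlmostLE ((A.map θ).map ψ) (A.map ψ) := AlmostLE.map ψ hθ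
  rw [mem_E2, Module.End.mul_eq_comp, Submodule.map_comp]
  exact h1.trans hψ

theorem EE_mul {θ ψ : Module.End k V} (hθ : θ ∈ EE A) (hψ : ψ ∈ EE A) : θ * ψ ∈ EE A := by
  have h1 : AlmostLE ((A.map ψ).map θ) (A.map θ) := AlmostLE.map θ hψ
  rw [mem_EE, Module.End.mul_eq_comp, Submodule.map_comp]
  exact h1.trans hθ

theorem one_mem_EE : (1 : Module.End k V) ∈ EE A := by
  rw [mem_EE]
  refine AlmostLE.of_le ?_
  rintro _ ⟨a, ha, rfl⟩
  exact ha

/-- the product of an element of `E₂` and an element of `E₁` has finite dimensional range -/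
theorem finiteDimensional_range_mul {θ ψ : Module.End k V} (hθ : θ ∈ E2 A) (hψ : ψ ∈ E1 A) :
    FiniteDimensional k (range (θ * ψ)) := by
  have h1 : AlmostLE ((range ψ).map θ) (A.map θ) := AlmostLE.map θ hψ
  have h2 : range (θ * ψ) = (range ψ).map θ := by
    rw [Module.End.mul_eq_comp, LinearMap.range_comp]
  rw [h2]
  exact almostLE_bot_iff.1 (h1.trans hθ)

theorem finiteDimensional_range_mul_E0 {θ ψ : Module.End k V} (hθ : θ ∈ E0 A) (hψ : ψ ∈ E0 A) :
    FiniteDimensional k (range (θ * ψ)) :=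
  finiteDimensional_range_mul hθ.2 hψ.1

theorem isFinPot_of_mem_E0 {θ : Module.End k V} (hθ : θ ∈ E0 A) : IsFinPot θ := by
  refine ⟨2, ?_⟩
  rw [pow_two]
  exact finiteDimensional_range_mul_E0 hθ hθ

theorem apply_mem_range_mul (a b c : Module.End k V) {x : V} (hx : x ∈ range (a * b)) :
    c x ∈ range (c * a) := by
  obtain ⟨y, rfl⟩ := hx
  exact ⟨b y, rfl⟩

/-- a common finite dimensional stable subspace for two elements of `E₀` -/
theorem exists_common_stable {θ θ' : Module.End k V} (hθ : θ ∈ E0 A) (hθ' : θ' ∈ E0 A) :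
    ∃ W : Submodule k V, FiniteDimensional k W ∧ (∀ x ∈ W, θ x ∈ W) ∧ (∀ x ∈ W, θ' x ∈ W) ∧
      range (θ * θ) ≤ W ∧ range (θ * θ') ≤ W ∧ range (θ' * θ) ≤ W ∧ range (θ' * θ') ≤ W := by
  haveI := finiteDimensional_range_mul_E0 hθ hθ
  haveI := finiteDimensional_range_mul_E0 hθ hθ'
  haveI := finiteDimensional_range_mul_E0 hθ' hθ
  haveI := finiteDimensional_range_mul_E0 hθ' hθ'
  have h1 : range (θ * θ) ≤ range (θ * θ) ⊔ range (θ * θ') ⊔ range (θ' * θ) ⊔ range (θ' * θ') :=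
    le_sup_of_le_left (le_sup_of_le_left le_sup_left)
  have h2 : range (θ * θ') ≤ range (θ * θ) ⊔ range (θ * θ') ⊔ range (θ' * θ) ⊔ range (θ' * θ') :=
    le_sup_of_le_left (le_sup_of_le_left le_sup_right)
  have h3 : range (θ' * θ) ≤ range (θ * θ) ⊔ range (θ * θ') ⊔ range (θ' * θ) ⊔ range (θ' * θ') :=
    le_sup_of_le_left le_sup_right
  have h4 : range (θ' * θ') ≤ range (θ * θ) ⊔ range (θ * θ') ⊔ range (θ' * θ) ⊔ range (θ' * θ') :=
    le_sup_right
  have key : ∀ c : Module.End k V, (c = θ ∨ c = θ') →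
      ∀ x ∈ range (θ * θ) ⊔ range (θ * θ') ⊔ range (θ' * θ) ⊔ range (θ' * θ'),
      c x ∈ range (θ * θ) ⊔ range (θ * θ') ⊔ range (θ' * θ) ⊔ range (θ' * θ') := by
    intro c hc x hx
    obtain ⟨x123, hx123, x4, hx4, rfl⟩ := Submodule.mem_sup.1 hx
    obtain ⟨x12, hx12, x3, hx3, rfl⟩ := Submodule.mem_sup.1 hx123
    obtain ⟨x1, hx1, x2, hx2, rfl⟩ := Submodule.mem_sup.1 hx12
    rw [map_add, map_add, map_add]
    have e1 := apply_mem_range_mul θ θ c hx1
    have e2 := apply_mem_range_mul θ θ' c hx2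
    have e3 := apply_mem_range_mul θ' θ c hx3
    have e4 := apply_mem_range_mul θ' θ' c hx4
    rcases hc with rfl | rfl
    · exact add_mem (add_mem (add_mem (h1 e1) (h1 e2)) (h2 e3)) (h2 e4)
    · exact add_mem (add_mem (add_mem (h3 e1) (h3 e2)) (h4 e3)) (h4 e4)
  exact ⟨_, inferInstance, key θ (Or.inl rfl), key θ' (Or.inr rfl), h1, h2, h3, h4⟩

theorem fpTrace_add {θ θ' : Module.End k V} (hθ : θ ∈ E0 A) (hθ' : θ' ∈ E0 A) :
    fpTrace (θ + θ') = fpTrace θ + fpTrace θ' := by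
  obtain ⟨W, hW, hs, hs', h1, h2, h3, h4⟩ := exists_common_stable hθ hθ'
  haveI := hW
  have hs'' : ∀ x ∈ W, (θ + θ') x ∈ W := fun x hx => by
    rw [LinearMap.add_apply]; exact add_mem (hs x hx) (hs' x hx)
  have hr : range ((θ + θ') ^ 2) ≤ W := by
    rw [pow_two]
    rintro _ ⟨x, rfl⟩
    have : ((θ + θ') * (θ + θ')) x = (θ * θ) x + (θ * θ') x + (θ' * θ) x + (θ' * θ') x := by
      simp only [Module.End.mul_apply, LinearMap.add_apply, map_add]
      abel
    rw [this]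
    exact add_mem (add_mem (add_mem (h1 ⟨x, rfl⟩) (h2 ⟨x, rfl⟩)) (h3 ⟨x, rfl⟩)) (h4 ⟨x, rfl⟩)
  rw [fpTrace_eq_trace_restrict (θ + θ') W hs'' 2 hr,
    fpTrace_eq_trace_restrict θ W hs 2 (by rw [pow_two]; exact h1),
    fpTrace_eq_trace_restrict θ' W hs' 2 (by rw [pow_two]; exact h4), ← map_add]
  congr 1

theorem fpTrace_smul {θ : Module.End k V} (hθ : θ ∈ E0 A) (c : k) :
    fpTrace (c • θ) = c * fpTrace θ := by
  obtain ⟨W, hW, hs, -, h1, -, -, -⟩ := exists_common_stable hθ hθ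
  haveI := hW
  have hs' : ∀ x ∈ W, (c • θ) x ∈ W := fun x hx => by
    rw [LinearMap.smul_apply]; exact Submodule.smul_mem _ c (hs x hx)
  have hr : range ((c • θ) ^ 2) ≤ W := by
    rw [pow_two]
    rintro _ ⟨x, rfl⟩
    have : ((c • θ) * (c • θ)) x = (c * c) • (θ * θ) x := by
      simp only [Module.End.mul_apply, LinearMap.smul_apply, map_smul, smul_smul]
    rw [this]
    exact Submodule.smul_mem _ _ (h1 ⟨x, rfl⟩)
  have hr' : range (θ ^ 2) ≤ W := by rw [pow_two]; exact h1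
  rw [fpTrace_eq_trace_restrict (c • θ) W hs' 2 hr,
    fpTrace_eq_trace_restrict θ W hs 2 hr', ← smul_eq_mul, ← map_smul]
  congr 1

/-- Tate's trace as a linear form on `E₀` -/
noncomputable def trE0 (A : Submodule k V) : E0 A →ₗ[k] k where
  toFun θ := fpTrace θ.1
  map_add' θ θ' := fpTrace_add θ.2 θ'.2
  map_smul' c θ := by
    simp only [RingHom.id_apply, smul_eq_mul]
    exact fpTrace_smul θ.2 c

theorem fpTrace_neg {θ : Module.End k V} (hθ : θ ∈ E0 A) : fpTrace (-θ) = -fpTrace θ := by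
  have := fpTrace_smul hθ (-1)
  simpa using this

theorem fpTrace_sub {θ θ' : Module.End k V} (hθ : θ ∈ E0 A) (hθ' : θ' ∈ E0 A) :
    fpTrace (θ - θ') = fpTrace θ - fpTrace θ' := by
  rw [sub_eq_add_neg, fpTrace_add hθ ((E0 A).neg_mem hθ'), fpTrace_neg hθ', sub_eq_add_neg]

theorem fpTrace_sum {ι : Type*} (s : Finset ι) (θ : ι → Module.End k V)
    (hθ : ∀ i ∈ s, θ i ∈ E0 A) : fpTrace (∑ i ∈ s, θ i) = ∑ i ∈ s, fpTrace (θ i) := by
  classical
  induction s using Finset.induction_on with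
  | empty =>
    simp only [Finset.sum_empty]
    exact fpTrace_eq_zero_of_pow_eq_zero 0 1 (by simp)
  | insert a s ha ih =>
    rw [Finset.sum_insert ha, Finset.sum_insert ha,
      fpTrace_add (hθ a (Finset.mem_insert_self a s))
        ((E0 A).sum_mem fun i hi => hθ i (Finset.mem_insert_of_mem hi)),
      ih fun i hi => hθ i (Finset.mem_insert_of_mem hi)]

/-- `Tr(φψ) = Tr(ψφ)` for `φ ∈ E₂`, `ψ ∈ E₁`, both in `E` -/
theorem fpTrace_mul_comm {φ ψ : Module.End k V} (hφ : φ ∈ E2 A) (hψ : ψ ∈ E1 A) :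
    fpTrace (φ * ψ) = fpTrace (ψ * φ) := by
  have h : IsFinPot (φ * ψ) := by
    refine ⟨1, ?_⟩
    rw [pow_one]
    exact finiteDimensional_range_mul hφ hψ
  exact ((fpTrace_comp_comm (f := φ) (g := ψ) h).2).symm

end Groth.Agent.Lib.Helper2.Tate
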