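import Mathlib
import Groth.Agent.Lib.Helper2.Tate.T2

set_option autoImplicit false
open LinearMap

namespace Groth.Agent.Lib.Helper2.Tate

variable {k : Type*} [Field k] {V : Type*} [AddCommGroup V] [Module k V]
variable {A : Submodule k V}

theorem exists_isProj (A : Submodule k V) : ∃ π : Module.End k V, IsProj A π := by
  obtain ⟨C, hC⟩ := Submodule.exists_isCompl A
  exact ⟨A.projection C hC, ⟨fun x => Submodule.projection_apply_mem hC x,
    fun x hx => Submodule.projection_apply_of_mem_left hC hx⟩⟩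

theorem isProj_mem_E1 {π : Module.End k V} (hπ : IsProj A π) : π ∈ E1 A := by
  refine AlmostLE.of_le ?_
  rintro _ ⟨x, rfl⟩
  exact hπ.map_mem x

theorem one_sub_isProj_mem_E2 {π : Module.End k V} (hπ : IsProj A π) : 1 - π ∈ E2 A := by
  refine AlmostLE.of_le ?_
  rintro _ ⟨a, ha, rfl⟩
  rw [LinearMap.sub_apply, Module.End.one_apply, hπ.map_id a ha, sub_self]
  exact Submodule.zero_mem _

theorem proj_mul_mem_E1 {π : Module.End k V} (hπ : IsProj A π) (θ : Module.End k V) :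
    π * θ ∈ E1 A := E1_mul_left (isProj_mem_E1 hπ) θ

theorem sub_proj_mul_mem_E2 {π θ : Module.End k V} (hπ : IsProj A π) (hθ : θ ∈ EE A) :
    θ - π * θ ∈ E2 A := by
  have : θ - π * θ = (1 - π) * θ := by rw [sub_mul, one_mul]
  rw [this]
  exact E2_mul_right hθ (one_sub_isProj_mem_E2 hπ)

theorem proj_mul_mem_EE {π : Module.End k V} (hπ : IsProj A π) (θ : Module.End k V) :
    π * θ ∈ EE A := E1_le_EE A (proj_mul_mem_E1 hπ θ)

/-- admissible pairs in Tate's theorem 1 -/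
structure Adm (A : Submodule k V) (f g f₁ g₁ : Module.End k V) : Prop where
  hf₁ : f₁ ∈ EE A
  hg₁ : g₁ ∈ EE A
  hf : f - f₁ ∈ E2 A
  hg : g - g₁ ∈ E2 A
  h1 : f₁ ∈ E1 A ∨ g₁ ∈ E1 A

theorem adm_proj {π f g : Module.End k V} (hπ : IsProj A π) (hf : f ∈ EE A) (hg : g ∈ EE A) :
    Adm A f g (π * f) (π * g) :=
  ⟨proj_mul_mem_EE hπ f, proj_mul_mem_EE hπ g, sub_proj_mul_mem_E2 hπ hf,
    sub_proj_mul_mem_E2 hπ hg, Or.inl (proj_mul_mem_E1 hπ f)⟩

/-- the commutator of an admissible pair lies in `E₀` -/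
theorem comm_mem_E0 {f g f₁ g₁ : Module.End k V} (hf : f ∈ EE A) (hg : g ∈ EE A)
    (hfg : f * g = g * f) (h : Adm A f g f₁ g₁) : f₁ * g₁ - g₁ * f₁ ∈ E0 A := by
  constructor
  · rcases h.h1 with h1 | h1
    · exact (E1 A).sub_mem (E1_mul_left h1 _) (E1_mul_right h.hg₁ h1)
    · exact (E1 A).sub_mem (E1_mul_right h.hf₁ h1) (E1_mul_left h1 _)
  · set φ := f - f₁ with hφ
    set γ := g - g₁ with hγ
    have e : f₁ * g₁ - g₁ * f₁ =
        (γ * f - f * γ) + (g * φ - φ * g) + (φ * γ - γ * φ) := by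
      have e1 : f₁ = f - φ := by rw [hφ]; abel
      have e2 : g₁ = g - γ := by rw [hγ]; abel
      rw [e1, e2]
      have : (f - φ) * (g - γ) - (g - γ) * (f - φ) =
          (f * g - g * f) + (γ * f - f * γ) + (g * φ - φ * g) + (φ * γ - γ * φ) := by
        noncomm_ring
      rw [this, hfg, sub_self, zero_add]
    rw [e]
    have hφ2 : φ ∈ E2 A := h.hf
    have hγ2 : γ ∈ E2 A := h.hg
    refine (E2 A).add_mem ((E2 A).add_mem ((E2 A).sub_mem ?_ ?_) ((E2 A).sub_mem ?_ ?_))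
      ((E2 A).sub_mem ?_ ?_)
    · exact E2_mul_right hf hγ2
    · exact E2_mul_left hγ2 f
    · exact E2_mul_left hφ2 g
    · exact E2_mul_right hg hφ2
    · exact E2_mul_left hγ2 φ
    · exact E2_mul_left hφ2 γ

/-- changing the second entry, the first lying in `E₁` -/
theorem fpTrace_comm_indep_right {f₁ g₁ g₁' : Module.End k V} (hf₁ : f₁ ∈ E1 A)
    (hg₁ : g₁ ∈ EE A) (hg₁' : g₁' ∈ EE A) (hγ : g₁ - g₁' ∈ E2 A)
    (h0 : f₁ * g₁ - g₁ * f₁ ∈ E0 A) (h0' : f₁ * g₁' - g₁' * f₁ ∈ E0 A) :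
    fpTrace (f₁ * g₁ - g₁ * f₁) = fpTrace (f₁ * g₁' - g₁' * f₁) := by
  set γ := g₁ - g₁' with hγdef
  have hγE : γ ∈ EE A := (EE A).sub_mem hg₁ hg₁'
  have e : f₁ * g₁ - g₁ * f₁ = (f₁ * g₁' - g₁' * f₁) + (f₁ * γ - γ * f₁) := by
    rw [hγdef]; noncomm_ring
  have h1 : f₁ * γ ∈ E0 A := ⟨E1_mul_left hf₁ _, E2_mul_left hγ _⟩
  have h2 : γ * f₁ ∈ E0 A := ⟨E1_mul_right hγE hf₁, E2_mul_right (E1_le_EE A hf₁) hγ⟩
  rw [e, fpTrace_add h0' ((E0 A).sub_mem h1 h2), fpTrace_sub h1 h2,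
    fpTrace_mul_comm hγ hf₁, sub_self, add_zero]

theorem fpTrace_comm_indep_left {f₁ f₁' g₁ : Module.End k V} (hg₁ : g₁ ∈ E1 A)
    (hf₁ : f₁ ∈ EE A) (hf₁' : f₁' ∈ EE A) (hφ : f₁ - f₁' ∈ E2 A)
    (h0 : f₁ * g₁ - g₁ * f₁ ∈ E0 A) (h0' : f₁' * g₁ - g₁ * f₁' ∈ E0 A) :
    fpTrace (f₁ * g₁ - g₁ * f₁) = fpTrace (f₁' * g₁ - g₁ * f₁') := by
  have h0n : g₁ * f₁ - f₁ * g₁ ∈ E0 A := by
    have := (E0 A).neg_mem h0; rwa [neg_sub] at this
  have h0n' : g₁ * f₁' - f₁' * g₁ ∈ E0 A := by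
    have := (E0 A).neg_mem h0'; rwa [neg_sub] at this
  have := fpTrace_comm_indep_right hg₁ hf₁ hf₁' hφ h0n h0n'
  have e1 : f₁ * g₁ - g₁ * f₁ = -(g₁ * f₁ - f₁ * g₁) := by rw [neg_sub]
  have e2 : f₁' * g₁ - g₁ * f₁' = -(g₁ * f₁' - f₁' * g₁) := by rw [neg_sub]
  rw [e1, e2, fpTrace_neg h0n, fpTrace_neg h0n', this]

/-- Tate's theorem 1: the trace of the commutator of an admissible pair does not depend on
the pair -/
theorem fpTrace_comm_eq_of_adm {f g f₁ g₁ f₂ g₂ : Module.End k V} (hf : f ∈ EE A)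
    (hg : g ∈ EE A) (hfg : f * g = g * f) (h : Adm A f g f₁ g₁) (h' : Adm A f g f₂ g₂) :
    fpTrace (f₁ * g₁ - g₁ * f₁) = fpTrace (f₂ * g₂ - g₂ * f₂) := by
  obtain ⟨π, hπ⟩ := exists_isProj A
  have hπadm := adm_proj hπ hf hg
  -- reduce both to the canonical pair
  have key : ∀ {f₁ g₁ : Module.End k V}, Adm A f g f₁ g₁ →
      fpTrace (f₁ * g₁ - g₁ * f₁) = fpTrace ((π * f) * (π * g) - (π * g) * (π * f)) := by
    intro f₁ g₁ h
    have hE2g : g₁ - π * g ∈ E2 A := by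
      have := (E2 A).sub_mem (sub_proj_mul_mem_E2 hπ hg) h.hg
      have e : g - π * g - (g - g₁) = g₁ - π * g := by abel
      rwa [e] at this
    have hE2f : f₁ - π * f ∈ E2 A := by
      have := (E2 A).sub_mem (sub_proj_mul_mem_E2 hπ hf) h.hf
      have e : f - π * f - (f - f₁) = f₁ - π * f := by abel
      rwa [e] at this
    rcases h.h1 with h1 | h1
    · -- f₁ ∈ E₁
      have hmid : Adm A f g f₁ (π * g) :=
        ⟨h.hf₁, proj_mul_mem_EE hπ g, h.hf, sub_proj_mul_mem_E2 hπ hg, Or.inl h1⟩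
      rw [fpTrace_comm_indep_right h1 h.hg₁ (proj_mul_mem_EE hπ g) hE2g
        (comm_mem_E0 hf hg hfg h) (comm_mem_E0 hf hg hfg hmid)]
      exact fpTrace_comm_indep_left (proj_mul_mem_E1 hπ g) h.hf₁ (proj_mul_mem_EE hπ f) hE2f
        (comm_mem_E0 hf hg hfg hmid) (comm_mem_E0 hf hg hfg hπadm)
    · -- g₁ ∈ E₁
      have hmid : Adm A f g (π * f) g₁ :=
        ⟨proj_mul_mem_EE hπ f, h.hg₁, sub_proj_mul_mem_E2 hπ hf, h.hg, Or.inr h1⟩
      rw [fpTrace_comm_indep_left h1 h.hf₁ (proj_mul_mem_EE hπ f) hE2f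
        (comm_mem_E0 hf hg hfg h) (comm_mem_E0 hf hg hfg hmid)]
      exact fpTrace_comm_indep_right (proj_mul_mem_E1 hπ f) h.hg₁ (proj_mul_mem_EE hπ g) hE2g
        (comm_mem_E0 hf hg hfg hmid) (comm_mem_E0 hf hg hfg hπadm)
  rw [key h, key h']

/-- Tate's abstract residue `res_A^V(f dg)` (for commuting `f, g ∈ E`) -/
noncomputable def res (A : Submodule k V) (f g : Module.End k V) : k :=
  fpTrace ((Classical.choose (exists_isProj A) * f) * (Classical.choose (exists_isProj A) * g) -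
    (Classical.choose (exists_isProj A) * g) * (Classical.choose (exists_isProj A) * f))

theorem res_eq_of_adm {f g f₁ g₁ : Module.End k V} (hf : f ∈ EE A)
    (hg : g ∈ EE A) (hfg : f * g = g * f) (h : Adm A f g f₁ g₁) :
    res A f g = fpTrace (f₁ * g₁ - g₁ * f₁) :=
  fpTrace_comm_eq_of_adm hf hg hfg
    (adm_proj (Classical.choose_spec (exists_isProj A)) hf hg) h

theorem res_eq_of_isProj {π f g : Module.End k V} (hπ : IsProj A π) (hf : f ∈ EE A)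
    (hg : g ∈ EE A) (hfg : f * g = g * f) :
    res A f g = fpTrace ((π * f) * (π * g) - (π * g) * (π * f)) :=
  res_eq_of_adm hf hg hfg (adm_proj hπ hf hg)

end Groth.Agent.Lib.Helper2.Tate
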