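import Mathlib
import Groth.Agent.Lib.Helper2.Tate.T3

set_option autoImplicit false
open LinearMap

namespace Groth.Agent.Lib.Helper2.Tate

variable {k : Type*} [Field k] {V : Type*} [AddCommGroup V] [Module k V]
variable {A : Submodule k V}

theorem res_add_left {f f' g : Module.End k V} (hf : f ∈ EE A) (hf' : f' ∈ EE A)
    (hg : g ∈ EE A) (hfg : f * g = g * f) (hfg' : f' * g = g * f') :
    res A (f + f') g = res A f g + res A f' g := by
  obtain ⟨π, hπ⟩ := exists_isProj A
  have hsum : (f + f') * g = g * (f + f') := by rw [add_mul, mul_add, hfg, hfg']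
  rw [res_eq_of_isProj hπ ((EE A).add_mem hf hf') hg hsum, res_eq_of_isProj hπ hf hg hfg,
    res_eq_of_isProj hπ hf' hg hfg',
    ← fpTrace_add (comm_mem_E0 hf hg hfg (adm_proj hπ hf hg))
      (comm_mem_E0 hf' hg hfg' (adm_proj hπ hf' hg))]
  congr 1
  noncomm_ring

theorem res_antisymm {f g : Module.End k V} (hf : f ∈ EE A) (hg : g ∈ EE A)
    (hfg : f * g = g * f) : res A f g = -res A g f := by
  obtain ⟨π, hπ⟩ := exists_isProj A
  rw [res_eq_of_isProj hπ hf hg hfg, res_eq_of_isProj hπ hg hf hfg.symm,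
    ← fpTrace_neg (comm_mem_E0 hg hf hfg.symm (adm_proj hπ hg hf)), neg_sub]

theorem res_add_right {f g g' : Module.End k V} (hf : f ∈ EE A) (hg : g ∈ EE A)
    (hg' : g' ∈ EE A) (hfg : f * g = g * f) (hfg' : f * g' = g' * f) :
    res A f (g + g') = res A f g + res A f g' := by
  have hsum : f * (g + g') = (g + g') * f := by rw [add_mul, mul_add, hfg, hfg']
  rw [res_antisymm hf ((EE A).add_mem hg hg') hsum,
    res_add_left hg hg' hf hfg.symm hfg'.symm, res_antisymm hf hg hfg,
    res_antisymm hf hg' hfg', neg_add]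

theorem res_smul_left {f g : Module.End k V} (c : k) (hf : f ∈ EE A)
    (hg : g ∈ EE A) (hfg : f * g = g * f) :
    res A (c • f) g = c * res A f g := by
  obtain ⟨π, hπ⟩ := exists_isProj A
  have hc : (c • f) * g = g * (c • f) := by rw [smul_mul_assoc, mul_smul_comm, hfg]
  rw [res_eq_of_isProj hπ ((EE A).smul_mem c hf) hg hc, res_eq_of_isProj hπ hf hg hfg,
    ← fpTrace_smul (comm_mem_E0 hf hg hfg (adm_proj hπ hf hg))]
  congr 1
  simp only [mul_smul_comm, smul_mul_assoc, smul_sub]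

theorem res_smul_right {f g : Module.End k V} (c : k) (hf : f ∈ EE A)
    (hg : g ∈ EE A) (hfg : f * g = g * f) :
    res A f (c • g) = c * res A f g := by
  have hc : f * (c • g) = (c • g) * f := by rw [smul_mul_assoc, mul_smul_comm, hfg]
  rw [res_antisymm hf ((EE A).smul_mem c hg) hc, res_smul_left c hg hf hfg.symm,
    res_antisymm hf hg hfg, mul_neg]

theorem res_zero_left {g : Module.End k V} (hg : g ∈ EE A) : res A 0 g = 0 := by
  have := res_smul_left (A := A) (f := 0) (g := g) 0 (EE A).zero_mem hg (by simp)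
  simpa using this

theorem res_zero_right {f : Module.End k V} (hf : f ∈ EE A) : res A f 0 = 0 := by
  have := res_smul_right (A := A) (f := f) (g := 0) 0 hf (EE A).zero_mem (by simp)
  simpa using this

theorem res_sum_left {ι : Type*} (s : Finset ι) (f : ι → Module.End k V) {g : Module.End k V}
    (hf : ∀ i ∈ s, f i ∈ EE A) (hg : g ∈ EE A) (hfg : ∀ i ∈ s, f i * g = g * f i) :
    res A (∑ i ∈ s, f i) g = ∑ i ∈ s, res A (f i) g := by
  classical
  induction s using Finset.induction_on with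
  | empty => simpa using res_zero_left hg
  | insert a s ha ih =>
    rw [Finset.sum_insert ha, Finset.sum_insert ha,
      res_add_left (hf a (Finset.mem_insert_self a s))
        ((EE A).sum_mem fun i hi => hf i (Finset.mem_insert_of_mem hi)) hg
        (hfg a (Finset.mem_insert_self a s)) (by
          rw [Finset.sum_mul, Finset.mul_sum]
          exact Finset.sum_congr rfl fun i hi => hfg i (Finset.mem_insert_of_mem hi)),
      ih (fun i hi => hf i (Finset.mem_insert_of_mem hi))
        (fun i hi => hfg i (Finset.mem_insert_of_mem hi))]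

theorem res_sum_right {ι : Type*} (s : Finset ι) (g : ι → Module.End k V) {f : Module.End k V}
    (hg : ∀ i ∈ s, g i ∈ EE A) (hf : f ∈ EE A) (hfg : ∀ i ∈ s, f * g i = g i * f) :
    res A f (∑ i ∈ s, g i) = ∑ i ∈ s, res A f (g i) := by
  have hsum : f * (∑ i ∈ s, g i) = (∑ i ∈ s, g i) * f := by
    rw [Finset.sum_mul, Finset.mul_sum]
    exact Finset.sum_congr rfl hfg
  rw [res_antisymm hf ((EE A).sum_mem hg) hsum,
    res_sum_left s g hg hf (fun i hi => (hfg i hi).symm), ← Finset.sum_neg_distrib]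
  exact Finset.sum_congr rfl fun i hi => (res_antisymm hf (hg i hi) (hfg i hi)).symm

/-- Leibniz rule -/
theorem res_mul_right {f g h : Module.End k V} (hf : f ∈ EE A) (hg : g ∈ EE A)
    (hh : h ∈ EE A) (hfg : f * g = g * f) (hfh : f * h = h * f) (hgh : g * h = h * g) :
    res A f (g * h) = res A (f * g) h + res A (f * h) g := by
  obtain ⟨π, hπ⟩ := exists_isProj A
  have c1 : f * (g * h) = (g * h) * f := by
    rw [← mul_assoc, hfg, mul_assoc, hfh, ← mul_assoc]
  have c2 : (f * g) * h = h * (f * g) := by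
    rw [mul_assoc, hgh, ← mul_assoc, hfh, mul_assoc]
  have c3 : (f * h) * g = g * (f * h) := by
    rw [mul_assoc, ← hgh, ← mul_assoc, hfg, mul_assoc]
  have hπf := proj_mul_mem_EE hπ f
  have hπg := proj_mul_mem_EE hπ g
  have hπh := proj_mul_mem_EE hπ h
  have a1 : Adm A f (g * h) (π * f) ((π * g) * (π * h)) := by
    refine ⟨hπf, EE_mul hπg hπh, sub_proj_mul_mem_E2 hπ hf, ?_, Or.inl (proj_mul_mem_E1 hπ f)⟩
    have e : g * h - (π * g) * (π * h) = (g - π * g) * h + (π * g) * (h - π * h) := by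
      noncomm_ring
    rw [e]
    exact (E2 A).add_mem (E2_mul_right hh (sub_proj_mul_mem_E2 hπ hg))
      (E2_mul_left (sub_proj_mul_mem_E2 hπ hh) _)
  have a2 : Adm A (f * g) h ((π * f) * (π * g)) (π * h) := by
    refine ⟨EE_mul hπf hπg, hπh, ?_, sub_proj_mul_mem_E2 hπ hh, Or.inr (proj_mul_mem_E1 hπ h)⟩
    have e : f * g - (π * f) * (π * g) = (f - π * f) * g + (π * f) * (g - π * g) := by
      noncomm_ring
    rw [e]
    exact (E2 A).add_mem (E2_mul_right hg (sub_proj_mul_mem_E2 hπ hf))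
      (E2_mul_left (sub_proj_mul_mem_E2 hπ hg) _)
  have a3 : Adm A (f * h) g ((π * h) * (π * f)) (π * g) := by
    refine ⟨EE_mul hπh hπf, hπg, ?_, sub_proj_mul_mem_E2 hπ hg, Or.inr (proj_mul_mem_E1 hπ g)⟩
    have e : f * h - (π * h) * (π * f) = (h - π * h) * f + (π * h) * (f - π * f) := by
      rw [hfh]; noncomm_ring
    rw [e]
    exact (E2 A).add_mem (E2_mul_right hf (sub_proj_mul_mem_E2 hπ hh))
      (E2_mul_left (sub_proj_mul_mem_E2 hπ hf) _)
  rw [res_eq_of_adm hf (EE_mul hg hh) c1 a1, res_eq_of_adm (EE_mul hf hg) hh c2 a2,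
    res_eq_of_adm (EE_mul hf hh) hg c3 a3,
    ← fpTrace_add (comm_mem_E0 (EE_mul hf hg) hh c2 a2) (comm_mem_E0 (EE_mul hf hh) hg c3 a3)]
  congr 1
  noncomm_ring

theorem mem_EE_of_stable {f : Module.End k V} (hfA : ∀ a ∈ A, f a ∈ A) : f ∈ EE A := by
  refine AlmostLE.of_le ?_
  rintro _ ⟨a, ha, rfl⟩
  exact hfA a ha

/-- (R1) -/
theorem res_eq_zero_of_stable {f g : Module.End k V} (hfA : ∀ a ∈ A, f a ∈ A)
    (hgA : ∀ a ∈ A, g a ∈ A) (hfg : f * g = g * f) : res A f g = 0 := by
  obtain ⟨π, hπ⟩ := exists_isProj A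
  rw [res_eq_of_isProj hπ (mem_EE_of_stable hfA) (mem_EE_of_stable hgA) hfg]
  apply fpTrace_eq_zero_of_pow_eq_zero _ 2
  set θ := (π * f) * (π * g) - (π * g) * (π * f) with hθ
  have h1 : ∀ v, θ v ∈ A := by
    intro v
    rw [hθ]
    simp only [LinearMap.sub_apply, Module.End.mul_apply]
    exact sub_mem (hπ.map_mem _) (hπ.map_mem _)
  have h2 : ∀ a ∈ A, θ a = 0 := by
    intro a ha
    rw [hθ]
    simp only [LinearMap.sub_apply, Module.End.mul_apply]
    rw [hπ.map_id _ (hgA a ha), hπ.map_id _ (hfA _ (hgA a ha)), hπ.map_id _ (hfA a ha),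
      hπ.map_id _ (hgA _ (hfA a ha))]
    have := LinearMap.congr_fun hfg a
    simp only [Module.End.mul_apply] at this
    rw [this, sub_self]
  ext v
  rw [pow_two, Module.End.mul_apply, h2 _ (h1 v)]
  rfl

/-- (R1), strong form -/
theorem res_eq_zero_of_stable' {f g : Module.End k V} (hg : g ∈ EE A)
    (hfA : ∀ a ∈ A, f a ∈ A) (hfgA : ∀ a ∈ A, f (g a) ∈ A) (hfggA : ∀ a ∈ A, f (g (g a)) ∈ A)
    (hfg : f * g = g * f) : res A f g = 0 := by
  obtain ⟨π, hπ⟩ := exists_isProj A
  have hf : f ∈ EE A := mem_EE_of_stable hfA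
  have hadm : Adm A f g f (π * g) :=
    ⟨hf, proj_mul_mem_EE hπ g, by rw [sub_self]; exact (E2 A).zero_mem,
      sub_proj_mul_mem_E2 hπ hg, Or.inr (proj_mul_mem_E1 hπ g)⟩
  rw [res_eq_of_adm hf hg hfg hadm]
  apply fpTrace_eq_zero_of_pow_eq_zero _ 3
  set θ := f * (π * g) - (π * g) * f with hθ
  have hcomm : ∀ v, f (g v) = g (f v) := fun v => by
    have := LinearMap.congr_fun hfg v
    simpa only [Module.End.mul_apply] using this
  have h1 : ∀ v, θ v ∈ A := by
    intro v
    rw [hθ]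
    simp only [LinearMap.sub_apply, Module.End.mul_apply]
    exact sub_mem (hfA _ (hπ.map_mem _)) (hπ.map_mem _)
  have h2 : ∀ a ∈ A, θ a = f (π (g a) - g a) := by
    intro a ha
    rw [hθ]
    simp only [LinearMap.sub_apply, Module.End.mul_apply]
    rw [← hcomm a, hπ.map_id _ (hfgA a ha), map_sub]
  have h3 : ∀ a ∈ A, θ (θ a) = 0 := by
    intro a ha
    rw [h2 _ (h1 a), h2 a ha]
    set c := π (g a) - g a with hc
    -- f (g c) ∈ A
    have hfgc : f (g c) ∈ A := by
      rw [hc, map_sub, map_sub]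
      exact sub_mem (hfgA _ (hπ.map_mem _)) (hfggA a ha)
    have : π (g (f c)) - g (f c) = 0 := by
      rw [← hcomm c, hπ.map_id _ hfgc, sub_self]
    rw [this, map_zero]
  ext v
  rw [pow_succ, pow_two, Module.End.mul_apply, Module.End.mul_apply, h3 _ (h1 v)]
  rfl

/-- if `g` commutes with a projection onto `A` then `res(f dg) = 0` -/
theorem res_eq_zero_of_commute_proj {π f g : Module.End k V} (hπ : IsProj A π)
    (hf : f ∈ EE A) (hg : g ∈ EE A) (hfg : f * g = g * f) (hgπ : g * π = π * g) :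
    res A f g = 0 := by
  rw [res_eq_of_isProj hπ hf hg hfg]
  apply fpTrace_eq_zero_of_pow_eq_zero _ 2
  have hππ : π * π = π := hπ.isIdempotentElem
  have e : (π * f) * (π * g) - (π * g) * (π * f) = π * g * f * (π - 1) := by
    have e1 : (π * f) * (π * g) = π * g * f * π := by
      calc (π * f) * (π * g) = π * f * (g * π) := by rw [hgπ]
        _ = π * (f * g) * π := by noncomm_ring
        _ = π * (g * f) * π := by rw [hfg]
        _ = π * g * f * π := by noncomm_ring
    have e2 : (π * g) * (π * f) = π * g * f := by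
      calc (π * g) * (π * f) = (g * π) * (π * f) := by rw [hgπ]
        _ = g * (π * π) * f := by noncomm_ring
        _ = g * π * f := by rw [hππ]
        _ = π * g * f := by rw [hgπ]
    rw [e1, e2]
    noncomm_ring
  rw [e, pow_two]
  have : (π - 1) * π = 0 := by rw [sub_mul, hππ, one_mul, sub_self]
  calc π * g * f * (π - 1) * (π * g * f * (π - 1))
      = π * g * f * ((π - 1) * π) * (g * f * (π - 1)) := by noncomm_ring
    _ = 0 := by rw [this]; simp

theorem almostLE_congr_E {A A' : Submodule k V} (h : AlmostLE A A') (h' : AlmostLE A' A) :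
    EE A = EE A' ∧ E1 A = E1 A' ∧ E2 A = E2 A' := by
  have key : ∀ {B B' : Submodule k V}, AlmostLE B B' → AlmostLE B' B →
      EE B ≤ EE B' ∧ E1 B ≤ E1 B' ∧ E2 B ≤ E2 B' := by
    intro B B' hBB' hB'B
    refine ⟨fun θ hθ => ?_, fun θ hθ => ?_, fun θ hθ => ?_⟩
    · exact ((AlmostLE.map θ hB'B).trans hθ).trans hBB'
    · exact AlmostLE.trans hθ hBB'
    · have h1 := AlmostLE.map θ hB'B
      exact h1.trans hθ
  obtain ⟨a1, a2, a3⟩ := key h h'
  obtain ⟨b1, b2, b3⟩ := key h' h
  exact ⟨le_antisymm a1 b1, le_antisymm a2 b2, le_antisymm a3 b3⟩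

/-- the residue only depends on the commensurability class of `A` -/
theorem res_congr {A A' : Submodule k V} (h : AlmostLE A A') (h' : AlmostLE A' A)
    {f g : Module.End k V} (hf : f ∈ EE A) (hg : g ∈ EE A) (hfg : f * g = g * f) :
    res A f g = res A' f g := by
  obtain ⟨e, e1, e2⟩ := almostLE_congr_E h h'
  obtain ⟨π', hπ'⟩ := exists_isProj A'
  have hf' : f ∈ EE A' := e ▸ hf
  have hg' : g ∈ EE A' := e ▸ hg
  have hadm' := adm_proj hπ' hf' hg'
  have hadm : Adm A f g (π' * f) (π' * g) := by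
    refine ⟨?_, ?_, ?_, ?_, ?_⟩
    · rw [e]; exact hadm'.hf₁
    · rw [e]; exact hadm'.hg₁
    · rw [e2]; exact hadm'.hf
    · rw [e2]; exact hadm'.hg
    · rw [e1]; exact hadm'.h1
  rw [res_eq_of_adm hf hg hfg hadm, res_eq_of_isProj hπ' hf' hg' hfg]

end Groth.Agent.Lib.Helper2.Tate
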