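import Mathlib
import Groth.Agent.Lib.Helper2.Tate.T4

set_option autoImplicit false
open LinearMap

namespace Groth.Agent.Lib.Helper2.Tate

variable {k : Type*} [Field k] {V : Type*} [AddCommGroup V] [Module k V]

section Comp

variable {V' : Type*} [AddCommGroup V'] [Module k V']

/-- a finite dimensional subspace of `V'` lies in `A' + ι(W)` for a finite dimensional `W` -/
theorem exists_fd_map_sup (ι : V →ₗ[k] V') (A' : Submodule k V') (hsup : range ι ⊔ A' = ⊤)
    (W' : Submodule k V') [FiniteDimensional k W'] :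
    ∃ W : Submodule k V, FiniteDimensional k W ∧ W' ≤ A' ⊔ W.map ι := by
  classical
  obtain ⟨S, hS⟩ := (Submodule.fg_iff_finiteDimensional W').2 inferInstance
  have hex : ∀ s : V', ∃ v : V, s - ι v ∈ A' := by
    intro s
    have : s ∈ range ι ⊔ A' := by rw [hsup]; trivial
    obtain ⟨y, ⟨v, rfl⟩, a, ha, rfl⟩ := Submodule.mem_sup.1 this
    exact ⟨v, by simpa using ha⟩
  choose c hc using hex
  refine ⟨Submodule.span k (S.image c : Set V), ?_, ?_⟩
  · exact FiniteDimensional.span_finset k (S.image c)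
  · rw [← hS, Submodule.span_le]
    intro s hs
    have h1 : s = (s - ι (c s)) + ι (c s) := by abel
    rw [h1]
    refine Submodule.add_mem_sup (hc s) (Submodule.mem_map_of_mem (Submodule.subset_span ?_))
    exact Finset.mem_coe.2 (Finset.mem_image_of_mem c hs)

theorem mem_EE_comap (ι : V →ₗ[k] V') (A' : Submodule k V') (hsup : range ι ⊔ A' = ⊤)
    {f : Module.End k V} {f' : Module.End k V'} (hf : ∀ v, ι (f v) = f' (ι v))
    (hf' : f' ∈ EE A') : f ∈ EE (A'.comap ι) := by
  obtain ⟨W', hW', hle⟩ := hf'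
  haveI := hW'
  obtain ⟨W, hW, hWle⟩ := exists_fd_map_sup ι A' hsup W'
  refine ⟨W, hW, ?_⟩
  rintro _ ⟨a, ha, rfl⟩
  have h1 : f' (ι a) ∈ A' ⊔ W' := hle ⟨ι a, ha, rfl⟩
  have h2 : f' (ι a) ∈ A' ⊔ W.map ι := by
    obtain ⟨x, hx, w', hw', hxw⟩ := Submodule.mem_sup.1 h1
    rw [← hxw]
    obtain ⟨y, hy, z, hz, hyz⟩ := Submodule.mem_sup.1 (hWle hw')
    rw [← hyz, ← add_assoc]
    exact Submodule.add_mem_sup (add_mem hx hy) hz
  obtain ⟨x, hx, z, ⟨w, hw, rfl⟩, hxz⟩ := Submodule.mem_sup.1 h2
  have h3 : f a = (f a - w) + w := by abel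
  rw [h3]
  refine Submodule.add_mem_sup ?_ hw
  change ι (f a - w) ∈ A'
  rw [map_sub, hf, ← hxz, add_sub_cancel_right]
  exact hx

/-- comparison of residues along an injective map with `ι V + A' = V'` -/
theorem res_comap (ι : V →ₗ[k] V') (hι : Function.Injective ι) (A' : Submodule k V')
    (hsup : range ι ⊔ A' = ⊤) {f g : Module.End k V} {f' g' : Module.End k V'}
    (hf : ∀ v, ι (f v) = f' (ι v)) (hg : ∀ v, ι (g v) = g' (ι v))
    (hf' : f' ∈ EE A') (hg' : g' ∈ EE A') (hfg' : f' * g' = g' * f') :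
    res (A'.comap ι) f g = res A' f' g' := by
  set A := A'.comap ι with hA
  have hfE : f ∈ EE A := mem_EE_comap ι A' hsup hf hf'
  have hgE : g ∈ EE A := mem_EE_comap ι A' hsup hg hg'
  have hfg : f * g = g * f := by
    ext v
    apply hι
    simp only [Module.End.mul_apply, hf, hg]
    have := LinearMap.congr_fun hfg' (ι v)
    simpa only [Module.End.mul_apply] using this
  obtain ⟨C, hC⟩ := Submodule.exists_isCompl A
  set C' := C.map ι with hC'
  have hcompl : IsCompl A' C' := by
    constructor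
    · rw [Submodule.disjoint_def]
      rintro x hx ⟨c, hc, rfl⟩
      have : c ∈ A ⊓ C := ⟨hx, hc⟩
      rw [hC.inf_eq_bot, Submodule.mem_bot] at this
      rw [this, map_zero]
    · rw [codisjoint_iff, eq_top_iff, ← hsup]
      apply sup_le
      · rintro _ ⟨v, rfl⟩
        have hv : v ∈ A ⊔ C := by rw [hC.sup_eq_top]; trivial
        obtain ⟨a, ha, c, hc, rfl⟩ := Submodule.mem_sup.1 hv
        rw [map_add]
        exact Submodule.add_mem_sup ha (Submodule.mem_map_of_mem hc)
      · exact le_sup_left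
  set π := A.projection C hC with hπdef
  set π' := A'.projection C' hcompl with hπ'def
  have hπ : IsProj A π := ⟨fun x => Submodule.projection_apply_mem hC x,
    fun x hx => Submodule.projection_apply_of_mem_left hC hx⟩
  have hπ' : IsProj A' π' := ⟨fun x => Submodule.projection_apply_mem hcompl x,
    fun x hx => Submodule.projection_apply_of_mem_left hcompl hx⟩
  have hππ' : ∀ v, ι (π v) = π' (ι v) := by
    intro v
    have hv : v ∈ A ⊔ C := by rw [hC.sup_eq_top]; trivial
    obtain ⟨a, ha, c, hc, rfl⟩ := Submodule.mem_sup.1 hv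
    have hπa : π a = a := hπ.map_id a ha
    have hπc : π c = 0 := (Submodule.projection_apply_eq_zero_iff hC).2 hc
    have hπ'a : π' (ι a) = ι a := hπ'.map_id _ ha
    have hπ'c : π' (ι c) = 0 :=
      (Submodule.projection_apply_eq_zero_iff hcompl).2 (Submodule.mem_map_of_mem hc)
    rw [map_add π, hπa, hπc, add_zero, map_add ι, map_add π', hπ'a, hπ'c, add_zero]
  -- modulo `range ι`, `π'` is the identity
  have hmod : ∀ x : V', π' x - x ∈ range ι := by
    intro x
    have hx : x ∈ A' ⊔ C' := by rw [hcompl.sup_eq_top]; trivial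
    obtain ⟨a, ha, c, hc, rfl⟩ := Submodule.mem_sup.1 hx
    rw [map_add, hπ'.map_id a ha, (Submodule.projection_apply_eq_zero_iff hcompl).2 hc]
    obtain ⟨c₀, -, rfl⟩ := hc
    exact ⟨-c₀, by simp⟩
  set θ := (π * f) * (π * g) - (π * g) * (π * f) with hθ
  set θ' := (π' * f') * (π' * g') - (π' * g') * (π' * f') with hθ'
  have hθθ' : ∀ v, ι (θ v) = θ' (ι v) := by
    intro v
    simp only [hθ, hθ', LinearMap.sub_apply, Module.End.mul_apply, map_sub, hππ', hf, hg]
  have hstab : ∀ {h' : Module.End k V'} {h : Module.End k V}, (∀ v, ι (h v) = h' (ι v)) →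
      ∀ x ∈ range ι, h' x ∈ range ι := by
    rintro h' h hh _ ⟨v, rfl⟩
    exact ⟨h v, hh v⟩
  have hθ'range : ∀ x, θ' x ∈ range ι := by
    intro x
    simp only [hθ', LinearMap.sub_apply, Module.End.mul_apply]
    -- π' f' π' g' x ≡ f' g' x and π' g' π' f' x ≡ g' f' x modulo range ι
    have e1 : π' (f' (π' (g' x))) - f' (g' x) ∈ range ι := by
      have a1 := hmod (f' (π' (g' x)))
      have a2 : f' (π' (g' x)) - f' (g' x) ∈ range ι := by
        rw [← map_sub]
        exact hstab hf _ (hmod (g' x))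
      have := add_mem a1 a2
      simpa using this
    have e2 : π' (g' (π' (f' x))) - g' (f' x) ∈ range ι := by
      have a1 := hmod (g' (π' (f' x)))
      have a2 : g' (π' (f' x)) - g' (f' x) ∈ range ι := by
        rw [← map_sub]
        exact hstab hg _ (hmod (f' x))
      have := add_mem a1 a2
      simpa using this
    have e3 : f' (g' x) = g' (f' x) := by
      have := LinearMap.congr_fun hfg' x
      simpa only [Module.End.mul_apply] using this
    have := sub_mem e1 e2
    rw [e3] at this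
    simpa using this
  -- the map ρ
  let e := LinearEquiv.ofInjective ι hι
  let ρ : V' →ₗ[k] V := e.symm.toLinearMap ∘ₗ (θ'.codRestrict (range ι) hθ'range)
  have hιρ : ι ∘ₗ ρ = θ' := by
    ext x
    change ι (e.symm ⟨θ' x, hθ'range x⟩) = θ' x
    have := LinearEquiv.apply_symm_apply e ⟨θ' x, hθ'range x⟩
    exact congrArg Subtype.val this
  have hρι : ρ ∘ₗ ι = θ := by
    ext v
    apply hι
    have h1 : ι ((ρ ∘ₗ ι) v) = (ι ∘ₗ ρ) (ι v) := rfl
    rw [h1, hιρ, hθθ']
  have hθ'E0 : θ' ∈ E0 A' := comm_mem_E0 hf' hg' hfg' (adm_proj hπ' hf' hg')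
  have hfp : IsFinPot (ι ∘ₗ ρ : Module.End k V') := by
    rw [hιρ]; exact isFinPot_of_mem_E0 hθ'E0
  have := (fpTrace_comp_comm (f := ι) (g := ρ) hfp).2
  rw [hιρ, hρι] at this
  rw [res_eq_of_isProj hπ hfE hgE hfg, res_eq_of_isProj hπ' hf' hg' hfg']
  exact this

end Comp

end Groth.Agent.Lib.Helper2.Tate
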