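import Mathlib
import Groth.Agent.Lib.Helper2.Tate.T5

set_option autoImplicit false
open LinearMap

namespace Groth.Agent.Lib.Helper2.Tate

variable {k : Type*} [Field k] {V : Type*} [AddCommGroup V] [Module k V]

section Summand

variable {V₁ : Type*} [AddCommGroup V₁] [Module k V₁]

theorem fpTrace_zero : fpTrace (0 : Module.End k V) = 0 :=
  fpTrace_eq_zero_of_pow_eq_zero 0 1 (by simp)

theorem map_comap_summand (ι : V₁ →ₗ[k] V) (p : V →ₗ[k] V₁)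
    (hpι : ∀ v, p (ι v) = v) (A : Submodule k V) (hA : ∀ a ∈ A, ι (p a) ∈ A) :
    A.map p = A.comap ι := by
  apply le_antisymm
  · rintro _ ⟨a, ha, rfl⟩
    exact hA a ha
  · intro v hv
    exact ⟨ι v, hv, hpι v⟩

theorem mem_EE_summand (ι : V₁ →ₗ[k] V) (p : V →ₗ[k] V₁)
    (hpι : ∀ v, p (ι v) = v) (A : Submodule k V) (hA : ∀ a ∈ A, ι (p a) ∈ A)
    {f₁ : Module.End k V₁} (hf₁ : f₁ ∈ EE (A.comap ι)) :
    (ι ∘ₗ f₁ ∘ₗ p : Module.End k V) ∈ EE A := by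
  obtain ⟨W, hW, hle⟩ := hf₁
  haveI := hW
  refine ⟨W.map ι, inferInstance, ?_⟩
  rintro _ ⟨a, ha, rfl⟩
  have h1 : f₁ (p a) ∈ A.comap ι ⊔ W := hle ⟨p a, hA a ha, rfl⟩
  obtain ⟨x, hx, w, hw, hxw⟩ := Submodule.mem_sup.1 h1
  change ι (f₁ (p a)) ∈ _
  rw [← hxw, map_add]
  exact Submodule.add_mem_sup hx (Submodule.mem_map_of_mem hw)

theorem mem_EE_compress (ι : V₁ →ₗ[k] V) (p : V →ₗ[k] V₁)
    (hpι : ∀ v, p (ι v) = v) (A : Submodule k V) (hA : ∀ a ∈ A, ι (p a) ∈ A)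
    {g : Module.End k V} (hg : g ∈ EE A) :
    (p ∘ₗ g ∘ₗ ι : Module.End k V₁) ∈ EE (A.comap ι) := by
  obtain ⟨W, hW, hle⟩ := hg
  haveI := hW
  refine ⟨W.map p, inferInstance, ?_⟩
  rintro _ ⟨v, hv, rfl⟩
  have h1 : g (ι v) ∈ A ⊔ W := hle ⟨ι v, hv, rfl⟩
  obtain ⟨x, hx, w, hw, hxw⟩ := Submodule.mem_sup.1 h1
  change p (g (ι v)) ∈ _
  rw [← hxw, map_add]
  exact Submodule.add_mem_sup (hA x hx) (Submodule.mem_map_of_mem hw)

/-- residue of an operator supported on a direct summand -/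
theorem res_summand (ι : V₁ →ₗ[k] V) (p : V →ₗ[k] V₁)
    (hpι : ∀ v, p (ι v) = v) (A : Submodule k V) (hA : ∀ a ∈ A, ι (p a) ∈ A)
    {f₁ : Module.End k V₁} {g : Module.End k V} (hg : g ∈ EE A)
    (hge : ∀ v, g (ι (p v)) = ι (p (g v)))
    (hf₁ : f₁ ∈ EE (A.comap ι))
    (hfg : f₁ * (p ∘ₗ g ∘ₗ ι) = (p ∘ₗ g ∘ₗ ι) * f₁) :
    res A (ι ∘ₗ f₁ ∘ₗ p) g = res (A.comap ι) f₁ (p ∘ₗ g ∘ₗ ι) := by
  set g₁ : Module.End k V₁ := p ∘ₗ g ∘ₗ ι with hg₁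
  have hg₁E : g₁ ∈ EE (A.comap ι) := mem_EE_compress ι p hpι A hA hg
  have hFE : (ι ∘ₗ f₁ ∘ₗ p : Module.End k V) ∈ EE A := mem_EE_summand ι p hpι A hA hf₁
  obtain ⟨π₁, hπ₁⟩ := exists_isProj (A.comap ι)
  obtain ⟨π', hπ'⟩ := exists_isProj A
  -- key identities
  have hpg : ∀ v, p (g v) = g₁ (p v) := by
    intro v
    change p (g v) = p (g (ι (p v)))
    rw [hge, hpι]
  have hgι : ∀ w, g (ι w) = ι (g₁ w) := by
    intro w
    change g (ι w) = ι (p (g (ι w)))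
    rw [← hge, hpι]
  set π : Module.End k V := ι ∘ₗ π₁ ∘ₗ p + (1 - ι ∘ₗ p) * π' * (1 - ι ∘ₗ p) with hπdef
  have hπapp : ∀ v, π v = ι (π₁ (p v)) + (π' (v - ι (p v)) - ι (p (π' (v - ι (p v))))) := by
    intro v
    simp [hπdef]
  have hπ : IsProj A π := by
    refine ⟨fun v => ?_, fun a ha => ?_⟩
    · rw [hπapp]
      refine add_mem (hπ₁.map_mem _) (sub_mem (hπ'.map_mem _) (hA _ (hπ'.map_mem _)))
    · rw [hπapp]
      have h1 : p a ∈ A.comap ι := hA a ha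
      rw [hπ₁.map_id _ h1, hπ'.map_id _ (sub_mem ha (hA a ha)), map_sub, map_sub, hpι]
      abel
  have hπι : ∀ w, π (ι w) = ι (π₁ w) := by
    intro w
    rw [hπapp, hpι, sub_self, map_zero, map_zero, map_zero, sub_zero, add_zero]
  have hpπ : ∀ v, p (π v) = π₁ (p v) := by
    intro v
    rw [hπapp, map_add, map_sub, hpι, hpι, sub_self, add_zero]
  have hcomm : (ι ∘ₗ f₁ ∘ₗ p : Module.End k V) * g = g * (ι ∘ₗ f₁ ∘ₗ p) := by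
    apply LinearMap.ext
    intro v
    change ι (f₁ (p (g v))) = g (ι (f₁ (p v)))
    rw [hpg, hgι]
    have := LinearMap.congr_fun hfg (p v)
    change f₁ (g₁ (p v)) = g₁ (f₁ (p v)) at this
    rw [this]
  rw [res_eq_of_isProj hπ hFE hg hcomm, res_eq_of_isProj hπ₁ hf₁ hg₁E hfg]
  set θ₁ : Module.End k V₁ := (π₁ * f₁) * (π₁ * g₁) - (π₁ * g₁) * (π₁ * f₁) with hθ₁
  have hθ₁E : θ₁ ∈ E0 (A.comap ι) := comm_mem_E0 hf₁ hg₁E hfg (adm_proj hπ₁ hf₁ hg₁E)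
  have hop : (π * (ι ∘ₗ f₁ ∘ₗ p : Module.End k V)) * (π * g) - (π * g) * (π * (ι ∘ₗ f₁ ∘ₗ p))
      = ι ∘ₗ (θ₁ ∘ₗ p) := by
    apply LinearMap.ext
    intro v
    change π (ι (f₁ (p (π (g v))))) - π (g (π (ι (f₁ (p v))))) = ι (θ₁ (p v))
    rw [hπι, hpπ, hpg, hπι, hgι, hπι]
    simp only [hθ₁, LinearMap.sub_apply, Module.End.mul_apply, map_sub]
  rw [hop]
  have hfp : IsFinPot ((θ₁ ∘ₗ p) ∘ₗ ι : Module.End k V₁) := by
    have : (θ₁ ∘ₗ p) ∘ₗ ι = θ₁ := by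
      apply LinearMap.ext
      intro w
      change θ₁ (p (ι w)) = θ₁ w
      rw [hpι]
    rw [this]
    exact isFinPot_of_mem_E0 hθ₁E
  rw [(fpTrace_comp_comm (θ₁ ∘ₗ p) ι hfp).2]
  congr 1
  apply LinearMap.ext
  intro w
  change θ₁ (p (ι w)) = θ₁ w
  rw [hpι]

end Summand

end Groth.Agent.Lib.Helper2.Tate
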