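import Mathlib
import Groth.Agent.Lib.Helper2.Tate.T6a

set_option autoImplicit false
open LinearMap LaurentSeries HahnSeries

namespace Groth.Agent.Lib.Helper2.Tate

variable (k : Type*) {F : Type*} [Field k] [Field F] [Algebra k F]

/-- the filtration of Laurent series by order -/
def Fil (N : ℤ) : Submodule k F⸨X⸩ where
  carrier := {x | ∀ n < N, x.coeff n = 0}
  add_mem' {x y} hx hy n hn := by rw [HahnSeries.coeff_add, hx n hn, hy n hn, add_zero]
  zero_mem' n _ := rfl
  smul_mem' c x hx n hn := by rw [HahnSeries.coeff_smul, hx n hn, smul_zero]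

variable {k}

theorem mem_Fil {N : ℤ} {x : F⸨X⸩} : x ∈ Fil k N ↔ ∀ n < N, x.coeff n = 0 := Iff.rfl

theorem mem_Fil_iff_val {N : ℤ} {x : F⸨X⸩} :
    x ∈ Fil k N ↔ Valued.v x ≤ WithZero.exp (-N) :=
  (LaurentSeries.valuation_le_iff_coeff_lt_eq_zero F).symm

theorem Fil_anti {a b : ℤ} (h : a ≤ b) : Fil k (F := F) b ≤ Fil k a :=
  fun _ hx n hn => hx n (lt_of_lt_of_le hn h)

theorem mul_mem_Fil {a b : ℤ} {x y : F⸨X⸩} (hx : x ∈ Fil k a) (hy : y ∈ Fil k b) :
    x * y ∈ Fil k (a + b) := by
  rw [mem_Fil_iff_val] at hx hy ⊢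
  rw [map_mul, neg_add, WithZero.exp_add]
  exact mul_le_mul' hx hy

theorem exists_mem_Fil (x : F⸨X⸩) : ∃ N : ℤ, N ≤ 0 ∧ x ∈ Fil k N := by
  refine ⟨min x.order 0, min_le_right _ _, fun n hn => ?_⟩
  exact HahnSeries.coeff_eq_zero_of_lt_order (lt_of_lt_of_le hn (min_le_left _ _))

variable (k) in
/-- truncation to the power series part -/
noncomputable def piH : Module.End k F⸨X⸩ := 1 - HahnSeries.truncLTLinearMap k 0

theorem piH_coeff (x : F⸨X⸩) (n : ℤ) : (piH k x).coeff n = if n < 0 then 0 else x.coeff n := by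
  unfold piH
  rw [LinearMap.sub_apply, Module.End.one_apply, HahnSeries.coeff_sub]
  change x.coeff n - (HahnSeries.truncLT 0 x).coeff n = _
  rw [HahnSeries.coeff_truncLT]
  split_ifs <;> simp

theorem isProj_piH : IsProj (Fil k (F := F) 0) (piH k) := by
  refine ⟨fun x n hn => ?_, fun x hx => ?_⟩
  · rw [piH_coeff, if_pos hn]
  · ext n
    rw [piH_coeff]
    split_ifs with h
    · exact (hx n h).symm
    · rfl

theorem smul_eq_C_mul (c : k) (x : F⸨X⸩) : c • x = HahnSeries.C (algebraMap k F c) * x := by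
  rw [HahnSeries.C_mul_eq_smul, algebraMap_smul]

variable (k) in
/-- multiplication by a Laurent series as a `k`-linear map -/
noncomputable def mulL (u : F⸨X⸩) : Module.End k F⸨X⸩ where
  toFun x := u * x
  map_add' := mul_add u
  map_smul' c x := by
    rw [RingHom.id_apply, smul_eq_C_mul, smul_eq_C_mul]
    ring

@[simp] theorem mulL_apply (u x : F⸨X⸩) : mulL k u x = u * x := rfl

theorem mulL_mul (u v : F⸨X⸩) : mulL k u * mulL k v = mulL k (u * v) := by
  apply LinearMap.ext; intro x; simp [mul_assoc]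

theorem mulL_comm (u v : F⸨X⸩) : mulL k u * mulL k v = mulL k v * mulL k u := by
  rw [mulL_mul, mulL_mul, mul_comm]

theorem mulL_add (u v : F⸨X⸩) : mulL k (u + v) = mulL k u + mulL k v := by
  apply LinearMap.ext; intro x; simp [add_mul]

theorem mulL_smul (c : k) (u : F⸨X⸩) : mulL k (c • u) = c • mulL k u := by
  apply LinearMap.ext; intro x
  rw [LinearMap.smul_apply, mulL_apply, mulL_apply, smul_eq_C_mul, smul_eq_C_mul]
  ring

variable (k) in
/-- Laurent series supported in `[a, b)` -/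
def Wab (a b : ℤ) : Submodule k F⸨X⸩ where
  carrier := {x | ∀ n, (n < a ∨ b ≤ n) → x.coeff n = 0}
  add_mem' {x y} hx hy n hn := by rw [HahnSeries.coeff_add, hx n hn, hy n hn, add_zero]
  zero_mem' n _ := rfl
  smul_mem' c x hx n hn := by rw [HahnSeries.coeff_smul, hx n hn, smul_zero]

instance finiteDimensional_Wab [FiniteDimensional k F] (a b : ℤ) :
    FiniteDimensional k (Wab k (F := F) a b) := by
  let φ : Wab k (F := F) a b →ₗ[k] (Finset.Ico a b → F) :=
    { toFun := fun x n => x.1.coeff n.1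
      map_add' := fun x y => by funext n; simp
      map_smul' := fun c x => by funext n; simp }
  have hφ : Function.Injective φ := by
    intro x y hxy
    apply Subtype.ext
    ext n
    by_cases hn : n ∈ Finset.Ico a b
    · exact congrFun hxy ⟨n, hn⟩
    · have hn' : n < a ∨ b ≤ n := by
        rw [Finset.mem_Ico] at hn
        by_contra h
        push Not at h
        exact hn ⟨h.1, h.2⟩
      rw [x.2 n hn', y.2 n hn']
  exact Module.Finite.of_injective φ hφ

theorem almostLE_Fil [FiniteDimensional k F] (a b : ℤ) : AlmostLE (Fil k (F := F) a) (Fil k b) := by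
  refine ⟨Wab k a b, inferInstance, ?_⟩
  intro x hx
  have h1 : x = (x - HahnSeries.truncLT b x) + HahnSeries.truncLT b x := by abel
  rw [h1]
  refine Submodule.add_mem_sup ?_ ?_
  · intro n hn
    rw [HahnSeries.coeff_sub, HahnSeries.coeff_truncLT, if_pos hn, sub_self]
  · intro n hn
    rw [HahnSeries.coeff_truncLT]
    rcases hn with hn | hn
    · rw [hx n hn]; simp
    · rw [if_neg (not_lt.2 hn)]

theorem map_mulL_Fil_le {a b : ℤ} {u : F⸨X⸩} (hu : u ∈ Fil k a) :
    (Fil k b).map (mulL k u) ≤ Fil k (a + b) := by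
  rintro _ ⟨x, hx, rfl⟩
  exact mul_mem_Fil hu hx

theorem mulL_mem_EE [FiniteDimensional k F] (u : F⸨X⸩) : mulL k u ∈ EE (Fil k (F := F) 0) := by
  obtain ⟨N, _, hN⟩ := exists_mem_Fil (k := k) u
  have := map_mulL_Fil_le (b := 0) hN
  rw [add_zero] at this
  exact (AlmostLE.of_le this).trans (almostLE_Fil N 0)

variable (k) in
/-- the abstract residue on Laurent series -/
noncomputable def rs (u v : F⸨X⸩) : k := res (Fil k (F := F) 0) (mulL k u) (mulL k v)

variable [FiniteDimensional k F]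

theorem rs_add_left (u u' v : F⸨X⸩) : rs k (u + u') v = rs k u v + rs k u' v := by
  unfold rs
  rw [mulL_add]
  exact res_add_left (mulL_mem_EE u) (mulL_mem_EE u') (mulL_mem_EE v) (mulL_comm u v)
    (mulL_comm u' v)

theorem rs_add_right (u v v' : F⸨X⸩) : rs k u (v + v') = rs k u v + rs k u v' := by
  unfold rs
  rw [mulL_add]
  exact res_add_right (mulL_mem_EE u) (mulL_mem_EE v) (mulL_mem_EE v') (mulL_comm u v)
    (mulL_comm u v')

theorem rs_smul_left (c : k) (u v : F⸨X⸩) : rs k (c • u) v = c * rs k u v := by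
  unfold rs
  rw [mulL_smul]
  exact res_smul_left c (mulL_mem_EE u) (mulL_mem_EE v) (mulL_comm u v)

theorem rs_smul_right (c : k) (u v : F⸨X⸩) : rs k u (c • v) = c * rs k u v := by
  unfold rs
  rw [mulL_smul]
  exact res_smul_right c (mulL_mem_EE u) (mulL_mem_EE v) (mulL_comm u v)

theorem rs_antisymm (u v : F⸨X⸩) : rs k u v = - rs k v u :=
  res_antisymm (mulL_mem_EE u) (mulL_mem_EE v) (mulL_comm u v)

theorem rs_leibniz (u v w : F⸨X⸩) : rs k u (v * w) = rs k (u * v) w + rs k (u * w) v := by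
  unfold rs
  rw [← mulL_mul, ← mulL_mul, ← mulL_mul]
  exact res_mul_right (mulL_mem_EE u) (mulL_mem_EE v) (mulL_mem_EE w) (mulL_comm u v)
    (mulL_comm u w) (mulL_comm v w)

/-- continuity (strong form of R1) -/
theorem rs_eq_zero_of_mem {a b : ℤ} {u v : F⸨X⸩} (hu : u ∈ Fil k a) (hv : v ∈ Fil k b)
    (h1 : 0 ≤ a) (h2 : 0 ≤ a + b) (h3 : 0 ≤ a + (b + b)) : rs k u v = 0 := by
  apply res_eq_zero_of_stable' (mulL_mem_EE v) _ _ _ (mulL_comm u v)
  · intro x hx
    have := mul_mem_Fil hu hx
    refine Fil_anti ?_ this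
    linarith
  · intro x hx
    have := mul_mem_Fil hu (mul_mem_Fil hv hx)
    refine Fil_anti ?_ this
    linarith
  · intro x hx
    have := mul_mem_Fil hu (mul_mem_Fil hv (mul_mem_Fil hv hx))
    refine Fil_anti ?_ this
    linarith

theorem rs_zero_right (u : F⸨X⸩) : rs k u 0 = 0 := by
  have := rs_add_right (k := k) u 0 0
  rw [add_zero] at this
  exact left_eq_add.mp this

theorem rs_neg_right (u v : F⸨X⸩) : rs k u (-v) = - rs k u v := by
  have := rs_add_right (k := k) u v (-v)
  rw [add_neg_cancel, rs_zero_right] at this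
  exact eq_neg_of_add_eq_zero_right this.symm

end Groth.Agent.Lib.Helper2.Tate
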