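import Mathlib
import Groth.Agent.Lib.Helper2.Tate.T7a

set_option autoImplicit false
open LinearMap LaurentSeries HahnSeries

namespace Groth.Agent.Lib.Helper2.Tate

section General

variable {k : Type*} [Field k] {V : Type*} [AddCommGroup V] [Module k V]

theorem fpTrace_eq_trace [FiniteDimensional k V] (θ : Module.End k V) :
    fpTrace θ = LinearMap.trace k V θ := by
  haveI : FiniteDimensional k (⊤ : Submodule k V) := inferInstance
  rw [fpTrace_eq_trace_restrict θ ⊤ (fun x _ => trivial) 0 le_top]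
  have h1 := LinearMap.trace_conj' (θ.restrict (p := (⊤ : Submodule k V)) (fun x _ => trivial))
    (Submodule.topEquiv (R := k) (M := V))
  rw [← h1]
  congr 1

theorem mem_E0_of_fd_range {A : Submodule k V} {θ : Module.End k V} (h1 : range θ ≤ A)
    (h2 : FiniteDimensional k (range θ)) : θ ∈ E0 A := by
  refine ⟨AlmostLE.of_le h1, ?_⟩
  change AlmostLE (A.map θ) ⊥
  rw [almostLE_bot_iff]
  exact Submodule.finiteDimensional_of_le (LinearMap.map_le_range)

theorem mem_E2_of_fd_range {A : Submodule k V} {θ : Module.End k V}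
    (h2 : FiniteDimensional k (range θ)) : θ ∈ E2 A := by
  change AlmostLE (A.map θ) ⊥
  rw [almostLE_bot_iff]
  exact Submodule.finiteDimensional_of_le (LinearMap.map_le_range)

end General

variable {k : Type*} {F : Type*} [Field k] [Field F] [Algebra k F] [FiniteDimensional k F]

theorem rs_C_right (u : F⸨X⸩) (b : F) : rs k u (HahnSeries.C b) = 0 := by
  apply res_eq_zero_of_commute_proj isProj_piH (mulL_mem_EE u) (mulL_mem_EE _) (mulL_comm _ _)
  apply LinearMap.ext
  intro x
  ext n
  change (HahnSeries.C b * piH k x).coeff n = (piH k (HahnSeries.C b * x)).coeff n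
  rw [piH_coeff, HahnSeries.C_mul_eq_smul, HahnSeries.C_mul_eq_smul, HahnSeries.coeff_smul,
    HahnSeries.coeff_smul, piH_coeff]
  split_ifs <;> simp

variable (k F) in
/-- constants as a `k`-linear map -/
noncomputable def Cmap : F →ₗ[k] F⸨X⸩ where
  toFun c := HahnSeries.C c
  map_add' := map_add _
  map_smul' c x := by
    rw [RingHom.id_apply, smul_eq_C_mul, ← map_mul, Algebra.smul_def]

variable (k F) in
/-- coefficient as a `k`-linear map -/
noncomputable def cf (n : ℤ) : F⸨X⸩ →ₗ[k] F where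
  toFun x := x.coeff n
  map_add' _ _ := rfl
  map_smul' _ _ := rfl

theorem finiteDimensional_range_Cmap_comp {V : Type*} [AddCommGroup V] [Module k V]
    (γ : V →ₗ[k] F) : FiniteDimensional k (range (Cmap k F ∘ₗ γ)) := by
  have hle : range (Cmap k F ∘ₗ γ) ≤ range (Cmap k F) := by
    rw [LinearMap.range_comp]
    exact LinearMap.map_le_range
  haveI : FiniteDimensional k (range (Cmap k F)) := inferInstance
  exact Submodule.finiteDimensional_of_le hle

theorem rs_X (u : F⸨X⸩) : rs k u (HahnSeries.single 1 (1 : F)) = Algebra.trace k F (u.coeff (-1)) := by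
  set P := piH k (F := F) with hP
  set U := mulL k u with hU
  set Xo := mulL k (HahnSeries.single 1 (1 : F)) with hXo
  set E : Module.End k F⸨X⸩ := Cmap k F ∘ₗ cf k F (-1) with hE
  have hXcoeff : ∀ (x : F⸨X⸩) (n : ℤ), (Xo x).coeff n = x.coeff (n - 1) := by
    intro x n
    change (HahnSeries.single 1 (1 : F) * x).coeff n = _
    rw [HahnSeries.coeff_single_mul, one_mul]
  have hEcoeff : ∀ (x : F⸨X⸩) (n : ℤ), (E x).coeff n = if n = 0 then x.coeff (-1) else 0 := by
    intro x n
    change (HahnSeries.single 0 (x.coeff (-1))).coeff n = _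
    by_cases h : n = 0
    · subst h
      simp
    · rw [if_neg h]
      exact HahnSeries.coeff_single_of_ne h
  have hPX : P * Xo = Xo * P + E := by
    apply LinearMap.ext
    intro x
    ext n
    change (piH k (Xo x)).coeff n = (Xo (piH k x)).coeff n + (E x).coeff n
    rw [piH_coeff, hXcoeff, hXcoeff, piH_coeff, hEcoeff]
    by_cases h1 : n < 0
    · rw [if_pos h1, if_pos (by omega), if_neg (by omega), add_zero]
    · by_cases h2 : n = 0
      · subst h2
        simp
      · rw [if_neg h1, if_neg (by omega), if_neg h2, add_zero]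
  have hPXP : P * Xo * P = Xo * P := by
    apply LinearMap.ext
    intro x
    ext n
    change (piH k (Xo (piH k x))).coeff n = (Xo (piH k x)).coeff n
    rw [piH_coeff, hXcoeff, piH_coeff]
    by_cases h1 : n < 0
    · rw [if_pos h1, if_pos (by omega)]
    · rw [if_neg h1]
  have hEP : E * P = 0 := by
    apply LinearMap.ext
    intro x
    ext n
    change (E (piH k x)).coeff n = 0
    rw [hEcoeff, piH_coeff]
    simp
  have hUX : U * Xo = Xo * U := mulL_comm _ _
  have hπ : IsProj (Fil k (F := F) 0) P := isProj_piH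
  have hUE : U ∈ EE (Fil k (F := F) 0) := mulL_mem_EE u
  have hXE : Xo ∈ EE (Fil k (F := F) 0) := mulL_mem_EE _
  have hrs : rs k u (HahnSeries.single 1 (1 : F)) = fpTrace ((P * U) * (P * Xo) - (P * Xo) * (P * U)) :=
    res_eq_of_isProj hπ hUE hXE hUX
  rw [hrs]
  set θ₁ := Xo * P * U * (1 - P) with hθ₁
  set θ₂ := E * U * P with hθ₂
  set θ₃ := P * U * E with hθ₃
  have hdecomp : (P * U) * (P * Xo) - (P * Xo) * (P * U) = -θ₁ + θ₂ + θ₃ := by
    have e1 : (P * U) * (P * Xo) = Xo * P * U * P + E * U * P + P * U * E := by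
      calc (P * U) * (P * Xo) = P * U * (Xo * P + E) := by rw [hPX]
        _ = P * (U * Xo) * P + P * U * E := by noncomm_ring
        _ = (P * Xo) * U * P + P * U * E := by rw [hUX]; noncomm_ring
        _ = (Xo * P + E) * U * P + P * U * E := by rw [hPX]
        _ = Xo * P * U * P + E * U * P + P * U * E := by noncomm_ring
    have e2 : (P * Xo) * (P * U) = Xo * P * U := by
      calc (P * Xo) * (P * U) = (P * Xo * P) * U := by noncomm_ring
        _ = Xo * P * U := by rw [hPXP]
    rw [e1, e2, hθ₁, hθ₂, hθ₃, mul_sub, mul_one]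
    abel
  have hXPmem : ∀ y, Xo (P y) ∈ Fil k (F := F) 0 := by
    intro y n hn
    rw [hXcoeff, piH_coeff, if_pos (by omega)]
  have h1E0 : θ₁ ∈ E0 (Fil k (F := F) 0) := by
    refine ⟨AlmostLE.of_le ?_, AlmostLE.of_le ?_⟩
    · rintro _ ⟨x, rfl⟩
      exact hXPmem _
    · rintro _ ⟨a, ha, rfl⟩
      change Xo (P (U (a - P a))) ∈ _
      rw [hπ.map_id a ha, sub_self, map_zero, map_zero, map_zero]
      exact zero_mem _
  have hEfd : ∀ γ : Module.End k F⸨X⸩, FiniteDimensional k (range (E * γ)) := by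
    intro γ
    exact finiteDimensional_range_Cmap_comp (cf k F (-1) ∘ₗ γ)
  have hEmem : ∀ x, E x ∈ Fil k (F := F) 0 := by
    intro x n hn
    rw [hEcoeff, if_neg (by omega)]
  have h2E0 : θ₂ ∈ E0 (Fil k (F := F) 0) := by
    apply mem_E0_of_fd_range
    · rintro _ ⟨x, rfl⟩
      exact hEmem _
    · rw [hθ₂, mul_assoc]
      exact hEfd _
  have hE2 : E ∈ E2 (Fil k (F := F) 0) := by
    apply mem_E2_of_fd_range
    have := hEfd 1
    rwa [mul_one] at this
  have hPU1 : P * U ∈ E1 (Fil k (F := F) 0) := proj_mul_mem_E1 hπ U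
  have h3E0 : θ₃ ∈ E0 (Fil k (F := F) 0) := by
    refine ⟨E1_mul_left hPU1 E, ?_⟩
    exact E2_mul_left hE2 (P * U)
  have hneg : -θ₁ ∈ E0 (Fil k (F := F) 0) := (E0 _).neg_mem h1E0
  rw [hdecomp, fpTrace_add ((E0 _).add_mem hneg h2E0) h3E0, fpTrace_add hneg h2E0,
    fpTrace_neg h1E0]
  have ht1 : fpTrace θ₁ = 0 := by
    apply fpTrace_eq_zero_of_pow_eq_zero θ₁ 2
    have : (1 - P) * Xo * P = 0 := by
      rw [sub_mul, sub_mul, one_mul, hPXP, sub_self]
    rw [pow_two, hθ₁]
    calc Xo * P * U * (1 - P) * (Xo * P * U * (1 - P))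
        = Xo * P * U * ((1 - P) * Xo * P) * U * (1 - P) := by noncomm_ring
      _ = 0 := by rw [this]; noncomm_ring
  have ht3 : fpTrace θ₃ = 0 := by
    rw [hθ₃, ← fpTrace_mul_comm hE2 hPU1, ← mul_assoc, hEP, zero_mul, fpTrace_zero]
  have ht2 : fpTrace θ₂ = Algebra.trace k F (u.coeff (-1)) := by
    have hform : θ₂ = Cmap k F ∘ₗ (cf k F (-1) ∘ₗ U ∘ₗ P) := rfl
    have hback : (cf k F (-1) ∘ₗ U ∘ₗ P) ∘ₗ Cmap k F = LinearMap.mulLeft k (u.coeff (-1)) := by
      apply LinearMap.ext
      intro c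
      change (u * piH k (HahnSeries.C c)).coeff (-1) = u.coeff (-1) * c
      have hc : HahnSeries.C c ∈ Fil k (F := F) 0 := by
        intro n hn
        change (HahnSeries.single 0 c).coeff n = 0
        rw [HahnSeries.coeff_single, if_neg (by omega)]
      rw [hπ.map_id _ hc]
      exact HahnSeries.coeff_mul_single_zero
    have hfp : IsFinPot ((cf k F (-1) ∘ₗ U ∘ₗ P) ∘ₗ Cmap k F : Module.End k F) :=
      isFinPot_of_range_pow_le _ ⊤ 0 le_top
    rw [hform, (fpTrace_comp_comm (cf k F (-1) ∘ₗ U ∘ₗ P) (Cmap k F) hfp).2, hback,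
      fpTrace_eq_trace, Algebra.trace_apply]
    rfl
  rw [ht1, ht2, ht3, neg_zero, zero_add, add_zero]

end Groth.Agent.Lib.Helper2.Tate
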