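import Mathlib
import Groth.Prelude.Def_LocRes
import Groth.Agent.Lib.Helper2.Tate.T7b

set_option autoImplicit false
open LinearMap LaurentSeries HahnSeries

namespace Groth.Agent.Lib.Helper2.Tate

variable {k : Type*} {F : Type*} [Field k] [Field F] [Algebra k F]

variable (k) in
/-- the explicit residue -/
noncomputable def Tt (u v : F⸨X⸩) : k := Algebra.trace k F ((u * LocRes.D F v).coeff (-1))

theorem Tt_add_right (u v w : F⸨X⸩) : Tt k u (v + w) = Tt k u v + Tt k u w := by
  unfold Tt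
  rw [map_add, mul_add, HahnSeries.coeff_add, map_add]

theorem Tt_leibniz (u v w : F⸨X⸩) : Tt k u (v * w) = Tt k (u * v) w + Tt k (u * w) v := by
  unfold Tt
  rw [Derivation.leibniz, smul_eq_mul, smul_eq_mul, ← map_add, ← HahnSeries.coeff_add]
  congr 2
  ring

theorem Tt_C_right (u : F⸨X⸩) (b : F) : Tt k u (HahnSeries.C b) = 0 := by
  unfold Tt
  rw [LocRes.D_apply, LocRes.derivative_C, mul_zero, HahnSeries.coeff_zero, map_zero]

theorem D_X : LocRes.D F (HahnSeries.single 1 (1 : F)) = 1 := by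
  ext n
  rw [LocRes.D_coeff, HahnSeries.coeff_single, HahnSeries.coeff_one]
  by_cases h : n = 0
  · subst h; simp
  · rw [if_neg (by omega), if_neg h, smul_zero]

theorem Tt_X (u : F⸨X⸩) : Tt k u (HahnSeries.single 1 (1 : F)) = Algebra.trace k F (u.coeff (-1)) := by
  unfold Tt
  rw [D_X, mul_one]

theorem D_mem_Fil {N : ℤ} {v : F⸨X⸩} (hv : v ∈ Fil k N) : LocRes.D F v ∈ Fil k (N - 1) := by
  intro n hn
  rw [LocRes.D_coeff, hv (n + 1) (by omega), smul_zero]

theorem Tt_eq_zero_of_mem {a N : ℤ} {u v : F⸨X⸩} (hu : u ∈ Fil k a) (hv : v ∈ Fil k N)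
    (h : 0 < a + N) : Tt k u v = 0 := by
  unfold Tt
  have := mul_mem_Fil hu (D_mem_Fil hv)
  rw [this (-1) (by omega), map_zero]

variable [FiniteDimensional k F]

/-- `v` is good if the abstract residue against `v` is the explicit one -/
def Good (v : F⸨X⸩) : Prop := ∀ u : F⸨X⸩, rs k u v = Tt k u v

theorem good_C (b : F) : Good (k := k) (HahnSeries.C b) := fun u => by
  rw [rs_C_right, Tt_C_right]

theorem good_X : Good (k := k) (HahnSeries.single 1 (1 : F)) := fun u => by
  rw [rs_X, Tt_X]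

theorem Good.mul {v w : F⸨X⸩} (hv : Good (k := k) v) (hw : Good (k := k) w) :
    Good (k := k) (v * w) := fun u => by
  rw [rs_leibniz, Tt_leibniz, hw, hv]

theorem Good.add {v w : F⸨X⸩} (hv : Good (k := k) v) (hw : Good (k := k) w) :
    Good (k := k) (v + w) := fun u => by
  rw [rs_add_right, Tt_add_right, hw, hv]

theorem good_one : Good (k := k) (1 : F⸨X⸩) := by
  have := good_C (k := k) (1 : F)
  rwa [map_one] at this

theorem Good.inv {v : F⸨X⸩} (hv : Good (k := k) v) (h0 : v ≠ 0) : Good (k := k) v⁻¹ := fun u => by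
  have h1 : rs k (u * v⁻¹) (v * v⁻¹) = rs k (u * v⁻¹ * v) v⁻¹ + rs k (u * v⁻¹ * v⁻¹) v :=
    rs_leibniz _ _ _
  have h2 : Tt k (u * v⁻¹) (v * v⁻¹) = Tt k (u * v⁻¹ * v) v⁻¹ + Tt k (u * v⁻¹ * v⁻¹) v :=
    Tt_leibniz _ _ _
  rw [mul_inv_cancel₀ h0, good_one] at h1
  rw [inv_mul_cancel_right₀ h0] at h1 h2
  rw [mul_inv_cancel₀ h0] at h2
  rw [hv] at h1
  have h3 : rs k u v⁻¹ = Tt k (u * v⁻¹) 1 - Tt k (u * v⁻¹ * v⁻¹) v := eq_sub_of_add_eq h1.symm
  rw [h3, h2, add_sub_cancel_right]

theorem good_X_pow (n : ℕ) : Good (k := k) ((HahnSeries.single 1 (1 : F)) ^ n) := by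
  induction n with
  | zero => rw [pow_zero]; exact good_one
  | succ n ih => rw [pow_succ]; exact ih.mul good_X

theorem single_one_ne_zero : (HahnSeries.single 1 (1 : F) : F⸨X⸩) ≠ 0 := by
  intro h
  have := congrArg (fun x => x.coeff 1) h
  simp at this

theorem good_X_zpow (n : ℤ) : Good (k := k) ((HahnSeries.single 1 (1 : F) : F⸨X⸩) ^ n) := by
  cases n with
  | ofNat n => rw [Int.ofNat_eq_natCast, zpow_natCast]; exact good_X_pow n
  | negSucc n =>
    rw [zpow_negSucc]
    exact (good_X_pow (n + 1)).inv (pow_ne_zero _ single_one_ne_zero)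

theorem good_single (n : ℤ) (c : F) : Good (k := k) (HahnSeries.single n c : F⸨X⸩) := by
  have : (HahnSeries.single n c : F⸨X⸩) = HahnSeries.C c * (HahnSeries.single 1 (1 : F)) ^ n := by
    rw [← RatFunc.single_zpow]
    change _ = HahnSeries.single 0 c * _
    rw [HahnSeries.single_mul_single, zero_add, mul_one]
  rw [this]
  exact (good_C c).mul (good_X_zpow n)

/-- The abstract (Tate) residue on Laurent series is the trace of the coefficient of `X⁻¹`. -/
theorem rs_eq_Tt (u v : F⸨X⸩) : rs k u v = Tt k u v := by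
  obtain ⟨a, ha0, ha⟩ := exists_mem_Fil (k := k) u
  obtain ⟨b, hb0, hb⟩ := exists_mem_Fil (k := k) v
  set N : ℤ := -2 * a + 1 with hN
  have key : ∀ m : ℕ, ∀ w : F⸨X⸩, w ∈ Fil k (N - m) → rs k u w = Tt k u w := by
    intro m
    induction m with
    | zero =>
      intro w hw
      rw [Nat.cast_zero, sub_zero] at hw
      rw [Tt_eq_zero_of_mem ha hw (by omega), rs_antisymm,
        rs_eq_zero_of_mem hw ha (by omega) (by omega) (by omega), neg_zero]
    | succ m ih =>
      intro w hw
      set n₀ : ℤ := N - (m + 1 : ℕ) with hn₀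
      set w' := w - HahnSeries.single n₀ (w.coeff n₀) with hw'
      have hw'mem : w' ∈ Fil k (N - m) := by
        intro n hn
        rw [hw', HahnSeries.coeff_sub, HahnSeries.coeff_single]
        by_cases h : n = n₀
        · rw [if_pos h, h, sub_self]
        · rw [if_neg h, sub_zero]
          apply hw n
          push_cast at hn₀ ⊢
          omega
      have hw_eq : w = HahnSeries.single n₀ (w.coeff n₀) + w' := by rw [hw']; abel
      rw [hw_eq, rs_add_right, Tt_add_right, ih w' hw'mem, good_single n₀ _ u]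
  have hm : v ∈ Fil k (N - ((N - b).toNat : ℕ)) := by
    have : ((N - b).toNat : ℤ) = N - b := Int.toNat_of_nonneg (by omega)
    rw [this, sub_sub_cancel]
    exact hb
  exact key _ v hm

end Groth.Agent.Lib.Helper2.Tate
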