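import Mathlib
import Groth.Prelude.Def_LocRes
import Groth.Agent.Lib.Helper2.Tate.T7c

set_option autoImplicit false
open LinearMap LaurentSeries HahnSeries

namespace Groth.Agent.Lib.Helper2.Tate

variable {k : Type*} {K : Type*} {F : Type*} [Field k] [Field K] [Field F] [Algebra k K]
  [Algebra k F]

/-- the expansion as a `k`-linear map (for the coefficientwise module structure) -/
noncomputable def phiL (φ : K →ₐ[k] F⸨X⸩) : K →ₗ[k] F⸨X⸩ where
  toFun := φ
  map_add' := map_add φ
  map_smul' c x := by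
    rw [RingHom.id_apply, Algebra.smul_def, map_mul, LocRes.map_algebraMap, smul_eq_C_mul]

@[simp] theorem phiL_apply (φ : K →ₐ[k] F⸨X⸩) (x : K) : phiL φ x = φ x := rfl

theorem phiL_injective (φ : K →ₐ[k] F⸨X⸩) : Function.Injective (phiL φ) :=
  φ.toRingHom.injective

variable (k) in
/-- multiplication on `K` as `k`-linear map -/
noncomputable def mulK (u : K) : Module.End k K := LinearMap.mulLeft k u

@[simp] theorem mulK_apply (u x : K) : mulK k u x = u * x := rfl

theorem mulK_comm (u v : K) : mulK k u * mulK k v = mulK k v * mulK k u := by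
  apply LinearMap.ext; intro x
  simp only [Module.End.mul_apply, mulK_apply]
  ring

theorem coeff_mul_of_mem_Fil {a b : ℤ} {x y : F⸨X⸩} (hx : x ∈ Fil k a) (hy : y ∈ Fil k b) :
    (x * y).coeff (a + b) = x.coeff a * y.coeff b := by
  set x' := x - HahnSeries.single a (x.coeff a) with hx'
  have hx'mem : x' ∈ Fil k (a + 1) := by
    intro n hn
    rw [hx', HahnSeries.coeff_sub, HahnSeries.coeff_single]
    by_cases h : n = a
    · rw [if_pos h, h, sub_self]
    · rw [if_neg h, sub_zero]
      exact hx n (by omega)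
  have hx_eq : x = HahnSeries.single a (x.coeff a) + x' := by rw [hx']; abel
  have h1 := mul_mem_Fil hx'mem hy
  conv_lhs => rw [hx_eq]
  rw [add_mul, HahnSeries.coeff_add, h1 (a + b) (by omega), add_zero, HahnSeries.coeff_single_mul,
    add_sub_cancel_left]

theorem val_le_of_mem_Fil {N : ℤ} {x : F⸨X⸩} (hx : x ∈ Fil k N) :
    Valued.v x ≤ WithZero.exp (-N) := mem_Fil_iff_val.1 hx

variable {w : Valuation K (WithZero (Multiplicative ℤ))} {φ : K →ₐ[k] F⸨X⸩}

theorem comap_phiL_Fil (hφ : LocRes.IsExpansionAt w φ) (x : K) :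
    x ∈ (Fil k (F := F) 0).comap (phiL φ) ↔ w x ≤ 1 := by
  rw [Submodule.mem_comap, phiL_apply, mem_Fil_iff_val, hφ.1, neg_zero, WithZero.exp_zero]

/-- density of `K` in the Laurent series modulo power series -/
theorem exists_sub_mem_Fil (hφ : LocRes.IsExpansionAt w φ) :
    ∀ (m : ℕ) (h : F⸨X⸩), h ∈ Fil k (-(m : ℤ)) → ∃ f : K, h - φ f ∈ Fil k (F := F) 0 := by
  obtain ⟨hv, hsurj, t, ht⟩ := hφ
  intro m
  induction m with
  | zero =>
    intro h hh
    refine ⟨0, ?_⟩
    rw [map_zero, sub_zero]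
    simpa using hh
  | succ m ih =>
    intro h hh
    have ht0 : t ≠ 0 := by
      intro h0
      rw [h0, map_zero] at ht
      exact WithZero.exp_ne_zero.symm ht
    set s : K := (t⁻¹) ^ (m + 1) with hs
    have hvs : Valued.v (φ s) = WithZero.exp ((m : ℤ) + 1) := by
      rw [hv, hs, map_pow, map_inv₀, ht, ← WithZero.exp_neg, neg_neg, ← WithZero.exp_nsmul]
      congr 1
      simp
    have hsmem : φ s ∈ Fil k (-((m + 1 : ℕ) : ℤ)) := by
      rw [mem_Fil_iff_val, hvs]
      apply le_of_eq
      congr 1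
    set e := (φ s).coeff (-((m + 1 : ℕ) : ℤ)) with he
    have he0 : e ≠ 0 := by
      intro h0
      have hmem' : φ s ∈ Fil k (-(m : ℤ)) := by
        intro n hn
        by_cases hn' : n = -((m + 1 : ℕ) : ℤ)
        · rw [hn', ← he, h0]
        · apply hsmem n
          push_cast at hn' ⊢
          omega
      have := val_le_of_mem_Fil hmem'
      rw [hvs, neg_neg, WithZero.exp_le_exp] at this
      omega
    obtain ⟨a, ha1, ha⟩ := hsurj (h.coeff (-((m + 1 : ℕ) : ℤ)) / e)
    have hamem : φ a ∈ Fil k (F := F) 0 := by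
      rw [mem_Fil_iff_val, hv, neg_zero, WithZero.exp_zero]
      exact ha1
    have hcoeff : (φ (a * s)).coeff (-((m + 1 : ℕ) : ℤ)) = h.coeff (-((m + 1 : ℕ) : ℤ)) := by
      rw [map_mul]
      have := coeff_mul_of_mem_Fil hamem hsmem
      rw [zero_add] at this
      rw [this, ha, ← he, div_mul_cancel₀ _ he0]
    have hmem2 : h - φ (a * s) ∈ Fil k (-(m : ℤ)) := by
      intro n hn
      rw [HahnSeries.coeff_sub]
      by_cases hn' : n = -((m + 1 : ℕ) : ℤ)
      · rw [hn', hcoeff, sub_self]
      · have hn2 : n < -((m + 1 : ℕ) : ℤ) := by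
          push_cast at hn' ⊢
          omega
        have h2 : φ (a * s) ∈ Fil k (-((m + 1 : ℕ) : ℤ)) := by
          rw [map_mul]
          have := mul_mem_Fil hamem hsmem
          rwa [zero_add] at this
        rw [hh n hn2, h2 n hn2, sub_zero]
    obtain ⟨f', hf'⟩ := ih _ hmem2
    refine ⟨a * s + f', ?_⟩
    rw [map_add, ← sub_sub]
    exact hf'

theorem range_phiL_sup (hφ : LocRes.IsExpansionAt w φ) :
    range (phiL φ) ⊔ Fil k (F := F) 0 = ⊤ := by
  rw [eq_top_iff]
  intro h _
  obtain ⟨N, hN0, hN⟩ := exists_mem_Fil (k := k) h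
  have hN' : h ∈ Fil k (-((-N).toNat : ℤ)) := by
    rw [Int.toNat_of_nonneg (by omega), neg_neg]
    exact hN
  obtain ⟨f, hf⟩ := exists_sub_mem_Fil hφ _ h hN'
  have : h = φ f + (h - φ f) := by abel
  rw [this]
  exact Submodule.add_mem_sup ⟨f, rfl⟩ hf

variable [FiniteDimensional k F]

/-- the abstract residue on `K` with respect to the valuation ring equals the local residue read
through an expansion -/
theorem res_eq_locRes (hφ : LocRes.IsExpansionAt w φ) (u v : K) :
    mulK k u ∈ EE ((Fil k (F := F) 0).comap (phiL φ)) ∧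
    res ((Fil k (F := F) 0).comap (phiL φ)) (mulK k u) (mulK k v) = LocRes.locRes φ u v := by
  have hint : ∀ (u x : K), phiL φ (mulK k u x) = mulL k (φ u) (phiL φ x) := by
    intro u x
    simp
  refine ⟨mem_EE_comap (phiL φ) _ (range_phiL_sup hφ) (hint u) (mulL_mem_EE (φ u)), ?_⟩
  rw [res_comap (phiL φ) (phiL_injective φ) _ (range_phiL_sup hφ) (hint u) (hint v)
    (mulL_mem_EE (φ u)) (mulL_mem_EE (φ v)) (mulL_comm _ _)]
  exact rs_eq_Tt (φ u) (φ v)

end Groth.Agent.Lib.Helper2.Tate
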