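import Mathlib
import Groth.Prelude.Def_LocRes
import Groth.Agent.Lib.Helper2.Tate.T8

set_option autoImplicit false
open LaurentSeries HahnSeries KaehlerDifferential

namespace Groth.Agent.Lib.Helper2.Tate

section LemmaA

/-- A derivation-like map on a field with one-dimensional differentials vanishing at a
separating element vanishes identically. -/
theorem eq_zero_of_apply_eq_zero {k K L : Type*} [Field k] [Field K] [Algebra k K] [CommRing L]
    (hfr : Module.finrank K (Ω[K⁄k]) = 1) {s : K} (hs : D k K s ≠ 0)
    (φ : K →+* L) (d : K →+ L) (hd : ∀ a b, d (a * b) = φ a * d b + φ b * d a)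
    (hk : ∀ c : k, d (algebraMap k K c) = 0) (hds : d s = 0) : ∀ f, d f = 0 := by
  letI : Module K L := Module.compHom L φ
  letI : Module k L := Module.compHom L (φ.comp (algebraMap k K))
  haveI : IsScalarTower k K L := ⟨fun c a x => by
    change φ (c • a) * x = φ (algebraMap k K c) * (φ a * x)
    rw [Algebra.smul_def, map_mul, mul_assoc]⟩
  let dd : Derivation k K L :=
    { toFun := d
      map_add' := map_add d
      map_smul' := fun c a => by
        change d (c • a) = φ (algebraMap k K c) * d a
        rw [Algebra.smul_def, hd, hk, mul_zero, add_zero]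
      map_one_eq_zero' := by
        have := hk 1
        rwa [map_one] at this
      leibniz' := fun a b => by
        change d (a * b) = φ a * d b + φ b * d a
        rw [hd] }
  have hspan := (finrank_eq_one_iff_of_nonzero' (D k K s) hs).mp hfr
  intro f
  obtain ⟨c, hc⟩ := hspan (D k K f)
  have h1 : dd.liftKaehlerDifferential (D k K f) = d f := Derivation.liftKaehlerDifferential_comp_D dd f
  have h2 : dd.liftKaehlerDifferential (D k K s) = d s := Derivation.liftKaehlerDifferential_comp_D dd s
  rw [← h1, ← hc, map_smul, h2, hds, smul_zero]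

end LemmaA

section Coeffwise

variable {k F : Type*} [Field k] [Field F] [Algebra k F]

/-- the coefficientwise extension of a derivation of the coefficient field -/
noncomputable def cwD (δ₀ : Derivation k F F) (x : F⸨X⸩) : F⸨X⸩ := x.map (δ₀ : F →ₗ[k] F)

theorem cwD_coeff (δ₀ : Derivation k F F) (x : F⸨X⸩) (n : ℤ) :
    (cwD δ₀ x).coeff n = δ₀ (x.coeff n) := rfl

theorem cwD_add (δ₀ : Derivation k F F) (x y : F⸨X⸩) : cwD δ₀ (x + y) = cwD δ₀ x + cwD δ₀ y := by
  ext n
  simp [cwD_coeff]

theorem cwD_mul (δ₀ : Derivation k F F) (x y : F⸨X⸩) :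
    cwD δ₀ (x * y) = x * cwD δ₀ y + y * cwD δ₀ x := by
  ext n
  have hsx : (cwD δ₀ x).support ⊆ x.support := by
    intro i hi
    rw [HahnSeries.mem_support] at hi ⊢
    intro h0
    apply hi
    rw [cwD_coeff, h0, map_zero]
  have hsy : (cwD δ₀ y).support ⊆ y.support := by
    intro i hi
    rw [HahnSeries.mem_support] at hi ⊢
    intro h0
    apply hi
    rw [cwD_coeff, h0, map_zero]
  rw [cwD_coeff, HahnSeries.coeff_add, HahnSeries.coeff_mul, map_sum,
    HahnSeries.coeff_mul_right' y.isPWO_support hsy, mul_comm y,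
    HahnSeries.coeff_mul_left' x.isPWO_support hsx, ← Finset.sum_add_distrib]
  refine Finset.sum_congr rfl fun ij _ => ?_
  rw [Derivation.leibniz, cwD_coeff, cwD_coeff, smul_eq_mul, smul_eq_mul]
  ring

theorem cwD_single (δ₀ : Derivation k F F) (n : ℤ) (c : F) :
    cwD δ₀ (HahnSeries.single n c) = HahnSeries.single n (δ₀ c) := by
  ext m
  rw [cwD_coeff, HahnSeries.coeff_single, HahnSeries.coeff_single]
  split_ifs
  · rfl
  · exact map_zero _

theorem cwD_mem_Fil (δ₀ : Derivation k F F) {N : ℤ} {x : F⸨X⸩} (hx : x ∈ Fil k N) :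
    cwD δ₀ x ∈ Fil k N := by
  intro n hn
  rw [cwD_coeff, hx n hn, map_zero]

end Coeffwise

end Groth.Agent.Lib.Helper2.Tate
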