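import Mathlib
import Groth.Prelude.Def_LocRes
import Groth.Agent.Lib.Helper2.Tate.LD1
import Groth.Agent.Lib.Helper9.FunFldSep

set_option autoImplicit false
open LaurentSeries HahnSeries KaehlerDifferential FunFld

namespace Groth.Agent.Lib.Helper2.Tate

universe u v w

section Local

variable {k : Type u} {K : Type v} {F : Type w} [Field k] [Field K] [Field F] [Algebra k K]
  [Algebra k F]

/-- (L1) the differentials of a geometric function field are one-dimensional -/
theorem finrank_kaehler_eq_one (hK : IsFunctionField k K) (hg : IsGeometric k K) :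
    Module.finrank K (Ω[K⁄k]) = 1 := by
  obtain ⟨⟨x₁, hx₁, hfin⟩, -⟩ := hK
  obtain ⟨t, ht, hsep⟩ := Groth.Agent.Lib.Helper9.FunFld.exists_separating_variable hx₁ hfin hg
  exact Groth.Agent.Lib.Helper9.FunFld.finrank_kaehler_eq_one_of_separating ht hsep

variable {w : Valuation K (WithZero (Multiplicative ℤ))} {φ : K →ₐ[k] F⸨X⸩}

/-- density at arbitrary precision -/
theorem exists_sub_mem_Fil' (hφ : LocRes.IsExpansionAt w φ) (h : F⸨X⸩) (N : ℤ) :
    ∃ f : K, h - φ f ∈ Fil k (F := F) N := by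
  obtain ⟨t, ht⟩ := hφ.2.2
  have ht0 : t ≠ 0 := by
    intro h0
    rw [h0, map_zero] at ht
    exact WithZero.exp_ne_zero.symm ht
  set τ : K := t ^ N with hτ
  have hτ0 : φ τ ≠ 0 := by
    rw [hτ, map_zpow₀]
    exact zpow_ne_zero _ (by
      intro h0
      exact ht0 ((map_eq_zero φ).1 h0))
  have hvτ : Valued.v (φ τ) = WithZero.exp (-N) := by
    rw [hφ.1, hτ, map_zpow₀, ht, ← WithZero.exp_zsmul]
    congr 1
    simp
  have hτmem : φ τ ∈ Fil k (F := F) N := mem_Fil_iff_val.2 hvτ.le
  have htop : h * (φ τ)⁻¹ ∈ (⊤ : Submodule k F⸨X⸩) := Submodule.mem_top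
  rw [← range_phiL_sup hφ] at htop
  obtain ⟨_, ⟨f', rfl⟩, r, hr, hfr⟩ := Submodule.mem_sup.1 htop
  refine ⟨f' * τ, ?_⟩
  have : h - φ (f' * τ) = φ τ * r := by
    rw [map_mul]
    have h1 : h = (phiL φ f' + r) * φ τ := by
      rw [hfr, inv_mul_cancel_right₀ hτ0]
    conv_lhs => rw [h1]
    rw [phiL_apply]
    ring
  rw [this]
  have := mul_mem_Fil hτmem hr
  rwa [add_zero] at this

/-- the derivative of the expansion of a uniformizer is nonzero -/
theorem exists_D_ne_zero (hφ : LocRes.IsExpansionAt w φ) : ∃ t : K, LocRes.D F (φ t) ≠ 0 := by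
  obtain ⟨t, ht⟩ := hφ.2.2
  refine ⟨t, ?_⟩
  have hv : Valued.v (φ t) = WithZero.exp (-1) := by rw [hφ.1, ht]
  have h1 : φ t ∈ Fil k (F := F) 1 := mem_Fil_iff_val.2 hv.le
  have hc : (φ t).coeff 1 ≠ 0 := by
    intro h0
    have h2 : φ t ∈ Fil k (F := F) 2 := by
      intro n hn
      by_cases hn1 : n = 1
      · rw [hn1, h0]
      · exact h1 n (by omega)
    have := val_le_of_mem_Fil h2
    rw [hv, WithZero.exp_le_exp] at this
    omega
  intro h0
  have := congrArg (fun x => x.coeff 0) h0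
  simp only [LocRes.D_coeff, HahnSeries.coeff_zero, zero_add, one_smul] at this
  exact hc this

/-- (L3) if `dx ≠ 0` then the derivative of the expansion of `x` is nonzero -/
theorem D_phi_ne_zero (hfr : Module.finrank K (Ω[K⁄k]) = 1) (hφ : LocRes.IsExpansionAt w φ)
    {x : K} (hx : D k K x ≠ 0) : LocRes.D F (φ x) ≠ 0 := by
  intro h0
  obtain ⟨t, ht⟩ := exists_D_ne_zero hφ
  apply ht
  let d : K →+ F⸨X⸩ :=
    { toFun := fun f => LocRes.D F (φ f)
      map_zero' := by simp
      map_add' := fun a b => by simp }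
  have := eq_zero_of_apply_eq_zero hfr hx φ.toRingHom d (fun a b => by
      change LocRes.D F (φ (a * b)) = φ a * LocRes.D F (φ b) + φ b * LocRes.D F (φ a)
      rw [map_mul, Derivation.leibniz, smul_eq_mul, smul_eq_mul])
    (fun c => by
      change LocRes.D F (φ (algebraMap k K c)) = 0
      rw [LocRes.map_algebraMap, LocRes.D_apply, LocRes.derivative_C]) h0 t
  exact this

end Local

end Groth.Agent.Lib.Helper2.Tate
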