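import Mathlib
import Groth.Prelude.Def_LocRes
import Groth.Agent.Lib.Helper2.Tate.LD2

set_option autoImplicit false
open LaurentSeries HahnSeries KaehlerDifferential FunFld

namespace Groth.Agent.Lib.Helper2.Tate

universe u v w

section Local

variable {k : Type u} {K : Type v} {F : Type w} [Field k] [Field K] [Field F] [Algebra k K]
  [Algebra k F]
variable {w : Valuation K (WithZero (Multiplicative ℤ))} {φ : K →ₐ[k] F⸨X⸩}

theorem eq_zero_of_forall_mem_Fil {x : F⸨X⸩} (h : ∀ N : ℤ, x ∈ Fil k N) : x = 0 := by
  ext n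
  exact h (n + 1) n (by omega)

/-- every `k`-derivation of the coefficient field vanishes -/
theorem derivation_eq_zero (hfr : Module.finrank K (Ω[K⁄k]) = 1) (hφ : LocRes.IsExpansionAt w φ)
    (δ₀ : Derivation k F F) : δ₀ = 0 := by
  -- a separating element
  obtain ⟨s, hs⟩ : ∃ s : K, D k K s ≠ 0 := by
    by_contra hcon
    push Not at hcon
    have hall : ∀ ω : Ω[K⁄k], ω = 0 := by
      intro ω
      have hω : ω ∈ (⊤ : Submodule K (Ω[K⁄k])) := Submodule.mem_top
      rw [← KaehlerDifferential.span_range_derivation] at hω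
      refine Submodule.span_induction ?_ rfl ?_ ?_ hω
      · rintro _ ⟨f, rfl⟩; exact hcon f
      · intro a b _ _ ha hb; rw [ha, hb, add_zero]
      · intro c a _ ha; rw [ha, smul_zero]
    have : Module.finrank K (Ω[K⁄k]) = 0 := by
      haveI : Subsingleton (Ω[K⁄k]) := ⟨fun a b => by rw [hall a, hall b]⟩
      exact Module.finrank_zero_of_subsingleton
    omega
  have hDs : LocRes.D F (φ s) ≠ 0 := D_phi_ne_zero hfr hφ hs
  set δ := cwD δ₀ with hδ
  -- proportionality
  let d : K →+ F⸨X⸩ :=
    { toFun := fun f => LocRes.D F (φ s) * δ (φ f) - δ (φ s) * LocRes.D F (φ f)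
      map_zero' := by
        have : δ 0 = 0 := by ext n; simp [hδ, cwD_coeff]
        simp [this]
      map_add' := fun a b => by
        simp only [map_add, hδ, cwD_add]
        ring }
  have hprop : ∀ f, LocRes.D F (φ s) * δ (φ f) = δ (φ s) * LocRes.D F (φ f) := by
    intro f
    have := eq_zero_of_apply_eq_zero hfr hs φ.toRingHom d (fun a b => by
        change LocRes.D F (φ s) * δ (φ (a * b)) - δ (φ s) * LocRes.D F (φ (a * b)) =
          φ a * (LocRes.D F (φ s) * δ (φ b) - δ (φ s) * LocRes.D F (φ b)) +
          φ b * (LocRes.D F (φ s) * δ (φ a) - δ (φ s) * LocRes.D F (φ a))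
        rw [map_mul, Derivation.leibniz, hδ, cwD_mul, smul_eq_mul, smul_eq_mul]
        ring)
      (fun c => by
        change LocRes.D F (φ s) * δ (φ (algebraMap k K c)) -
          δ (φ s) * LocRes.D F (φ (algebraMap k K c)) = 0
        rw [LocRes.map_algebraMap, LocRes.D_apply F (HahnSeries.C _), LocRes.derivative_C, mul_zero,
          sub_zero]
        have : δ (HahnSeries.C (algebraMap k F c)) = 0 := by
          change cwD δ₀ (HahnSeries.single 0 _) = 0
          rw [cwD_single, Derivation.map_algebraMap, HahnSeries.single_eq_zero]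
        rw [this, mul_zero])
      (by
        change LocRes.D F (φ s) * δ (φ s) - δ (φ s) * LocRes.D F (φ s) = 0
        ring) f
    exact sub_eq_zero.1 this
  -- δ (φ s) = 0
  obtain ⟨a, -, ha⟩ := exists_mem_Fil (k := k) (LocRes.D F (φ s))
  have hδs : δ (φ s) = 0 := by
    apply eq_zero_of_forall_mem_Fil (k := k)
    intro N
    -- approximate X to high precision
    set M : ℤ := max (N - a) 2 with hM
    obtain ⟨f, hf⟩ := exists_sub_mem_Fil' hφ (HahnSeries.single 1 (1 : F)) M
    set r := HahnSeries.single 1 (1 : F) - φ f with hr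
    have hφf : φ f = HahnSeries.single 1 (1 : F) - r := by rw [hr]; abel
    have h1 : δ (φ f) = - δ r := by
      have hsub : δ (HahnSeries.single 1 (1 : F) - r) = δ (HahnSeries.single 1 (1 : F)) - δ r := by
        ext n; simp [hδ, cwD_coeff]
      rw [hφf, hsub, hδ, cwD_single, Derivation.map_one_eq_zero, HahnSeries.single_eq_zero, zero_sub]
    have h2 : LocRes.D F (φ f) = 1 - LocRes.D F r := by
      rw [hφf, map_sub, D_X]
    have h3 := hprop f
    rw [h1, h2] at h3
    -- valuations
    have hδr : δ r ∈ Fil k M := cwD_mem_Fil δ₀ hf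
    have hDr : LocRes.D F r ∈ Fil k (M - 1) := D_mem_Fil hf
    have hv1 : Valued.v (1 - LocRes.D F r) = 1 := by
      have hlt : Valued.v (LocRes.D F r) < Valued.v (1 : F⸨X⸩) := by
        rw [map_one]
        refine lt_of_le_of_lt (val_le_of_mem_Fil hDr) ?_
        rw [← WithZero.exp_zero, WithZero.exp_lt_exp]
        omega
      rw [Valuation.map_sub_eq_of_lt_left _ hlt, map_one]
    have hv2 : Valued.v (δ (φ s)) = Valued.v (LocRes.D F (φ s) * -δ r) := by
      rw [h3, map_mul, hv1, mul_one]
    rw [mem_Fil_iff_val, hv2]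
    have hneg : -δ r ∈ Fil k M := Submodule.neg_mem _ hδr
    have hmem : LocRes.D F (φ s) * -δ r ∈ Fil k (a + M) := mul_mem_Fil ha hneg
    refine (val_le_of_mem_Fil hmem).trans ?_
    rw [WithZero.exp_le_exp]
    omega
  have hall : ∀ f, δ (φ f) = 0 := by
    intro f
    have := hprop f
    rw [hδs, zero_mul] at this
    exact (mul_eq_zero.1 this).resolve_left hDs
  ext c
  obtain ⟨f, -, hf⟩ := hφ.2.1 c
  have := congrArg (fun x => x.coeff 0) (hall f)
  simp only [hδ, cwD_coeff, hf, HahnSeries.coeff_zero] at this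
  rw [this]
  rfl

/-- (L2) the coefficient field of an expansion of a geometric function field is separable -/
theorem isSeparable_coeffField [FiniteDimensional k F] (hfr : Module.finrank K (Ω[K⁄k]) = 1)
    (hφ : LocRes.IsExpansionAt w φ) : Algebra.IsSeparable k F := by
  haveI : Algebra.FormallyUnramified k F := by
    constructor
    rw [subsingleton_iff_forall_eq 0]
    intro ω
    rw [← Module.forall_dual_apply_eq_zero_iff F ω]
    intro ℓ
    have h0 := derivation_eq_zero hfr hφ (ℓ.compDer (D k F))
    have hℓ : ℓ = 0 := by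
      apply LinearMap.ext
      intro ω'
      have hω' : ω' ∈ (⊤ : Submodule F (Ω[F⁄k])) := Submodule.mem_top
      rw [← KaehlerDifferential.span_range_derivation] at hω'
      refine Submodule.span_induction ?_ (by simp) ?_ ?_ hω'
      · rintro _ ⟨c, rfl⟩
        have := congrArg (fun δ : Derivation k F F => δ c) h0
        simpa using this
      · intro a b _ _ ha hb; rw [map_add, ha, hb]; simp
      · intro c a _ ha; rw [map_smul, ha]; simp
    rw [hℓ]
    rfl
  exact Algebra.FormallyUnramified.isSeparable k F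

end Local

end Groth.Agent.Lib.Helper2.Tate
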