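import Mathlib
import Groth.Prelude.Def_LocRes
import Groth.Agent.Lib.Helper2.Tate.LD3

set_option autoImplicit false
open LaurentSeries HahnSeries KaehlerDifferential FunFld

namespace Groth.Agent.Lib.Helper2.Tate

universe u v w

section Local

variable {k : Type u} {K : Type v} {F : Type w} [Field k] [Field K] [Field F] [Algebra k K]
  [Algebra k F]
variable {w : Valuation K (WithZero (Multiplicative ℤ))} {φ : K →ₐ[k] F⸨X⸩}

theorem exists_order (h : F⸨X⸩) (h0 : h ≠ 0) : ∃ m : ℤ, h ∈ Fil k m ∧ h.coeff m ≠ 0 :=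
  ⟨h.order, fun _ hn => HahnSeries.coeff_eq_zero_of_lt_order hn, fun hz => h0 (HahnSeries.coeff_order_eq_zero.1 hz)⟩

/-- (L4) local nondegeneracy of the residue pairing -/
theorem exists_trace_coeff_ne_zero [FiniteDimensional k F]
    (hfr : Module.finrank K (Ω[K⁄k]) = 1) (hφ : LocRes.IsExpansionAt w φ)
    {h : F⸨X⸩} {m : ℤ} (hm : h ∈ Fil k m) (hc : h.coeff m ≠ 0) :
    ∃ y : K, w y ≤ WithZero.exp (m + 1) ∧ Algebra.trace k F ((φ y * h).coeff (-1)) ≠ 0 := by
  haveI := isSeparable_coeffField hfr hφ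
  obtain ⟨c', hc'⟩ := Algebra.trace_surjective k F (1 : k)
  set c := c' / h.coeff m with hcdef
  obtain ⟨y, hy⟩ := exists_sub_mem_Fil' hφ (HahnSeries.single (-m - 1) c) (-m)
  set r := HahnSeries.single (-m - 1) c - φ y with hr
  have hφy : φ y = HahnSeries.single (-m - 1) c - r := by rw [hr]; abel
  have hymem : φ y ∈ Fil k (F := F) (-m - 1) := by
    intro n hn
    rw [hφy, HahnSeries.coeff_sub, HahnSeries.coeff_single_of_ne (by omega), hy n (by omega),
      sub_zero]
  have hycoeff : (φ y).coeff (-m - 1) = c := by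
    rw [hφy, HahnSeries.coeff_sub, HahnSeries.coeff_single_same, hy _ (by omega), sub_zero]
  refine ⟨y, ?_, ?_⟩
  · have := val_le_of_mem_Fil hymem
    rw [hφ.1] at this
    refine this.trans (le_of_eq ?_)
    congr 1
    ring
  · have := coeff_mul_of_mem_Fil hymem hm
    rw [show -m - 1 + m = -1 by ring] at this
    rw [this, hycoeff, hcdef, div_mul_cancel₀ _ hc, hc']
    exact one_ne_zero

/-- S12590 in library form -/
theorem exists_locRes_ne_zero [FiniteDimensional k F]
    (hfr : Module.finrank K (Ω[K⁄k]) = 1) (hφ : LocRes.IsExpansionAt w φ)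
    {x : K} (hx : D k K x ≠ 0) : ∃ y : K, LocRes.locRes φ y x ≠ 0 := by
  obtain ⟨m, hm, hc⟩ := exists_order (k := k) _ (D_phi_ne_zero hfr hφ hx)
  obtain ⟨y, -, hy⟩ := exists_trace_coeff_ne_zero hfr hφ hm hc
  exact ⟨y, hy⟩

end Local

end Groth.Agent.Lib.Helper2.Tate
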