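import Mathlib
import Groth.Agent.Lib.Helper2.Tate.T6a

set_option autoImplicit false
open LinearMap

namespace Groth.Agent.Lib.Helper2.Tate

variable {k : Type*} [Field k]

section CW

variable {I : Type*} [DecidableEq I] {V₀ : Type*} [AddCommGroup V₀] [Module k V₀]
variable (Vs : Submodule k (I → V₀))

/-- componentwise endomorphism of a space of functions -/
def cw (h : I → Module.End k V₀) (hh : ∀ a ∈ Vs, (fun i => h i (a i)) ∈ Vs) :
    Module.End k Vs where
  toFun a := ⟨fun i => h i (a.1 i), hh a.1 a.2⟩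
  map_add' a b := by
    apply Subtype.ext
    funext i
    simp
  map_smul' c a := by
    apply Subtype.ext
    funext i
    simp

@[simp] theorem cw_apply (h : I → Module.End k V₀) (hh : ∀ a ∈ Vs, (fun i => h i (a i)) ∈ Vs)
    (a : Vs) (i : I) : (cw Vs h hh a).1 i = h i (a.1 i) := rfl

/-- evaluation at a component -/
def ev (i : I) : Vs →ₗ[k] V₀ := (LinearMap.proj i) ∘ₗ Vs.subtype

@[simp] theorem ev_apply (i : I) (a : Vs) : ev Vs i a = a.1 i := rfl

/-- extension by zero -/
noncomputable def sg (hsingle : ∀ (i : I) (v : V₀), Pi.single i v ∈ Vs) (i : I) : V₀ →ₗ[k] Vs :=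
  (LinearMap.single k (fun _ : I => V₀) i).codRestrict Vs (fun v => hsingle i v)

theorem sg_apply (hsingle : ∀ (i : I) (v : V₀), Pi.single i v ∈ Vs) (i : I) (v : V₀) (j : I) :
    (sg Vs hsingle i v).1 j = if j = i then v else 0 := by
  change (Pi.single i v : I → V₀) j = _
  rw [Pi.single_apply]

theorem sg_apply_self (hsingle : ∀ (i : I) (v : V₀), Pi.single i v ∈ Vs) (i : I) (v : V₀) :
    (sg Vs hsingle i v).1 i = v := by
  rw [sg_apply, if_pos rfl]

theorem sg_apply_ne (hsingle : ∀ (i : I) (v : V₀), Pi.single i v ∈ Vs) (i : I) (v : V₀) {j : I}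
    (h : j ≠ i) : (sg Vs hsingle i v).1 j = 0 := by
  rw [sg_apply, if_neg h]

/-- the subspace of functions with values in `A i` -/
def AV (A : I → Submodule k V₀) : Submodule k Vs where
  carrier := {a | ∀ i, a.1 i ∈ A i}
  add_mem' ha hb i := add_mem (ha i) (hb i)
  zero_mem' i := zero_mem _
  smul_mem' c _ ha i := Submodule.smul_mem _ c (ha i)

theorem mem_AV (A : I → Submodule k V₀) (a : Vs) : a ∈ AV Vs A ↔ ∀ i, a.1 i ∈ A i := Iff.rfl

variable (hsingle : ∀ (i : I) (v : V₀), Pi.single i v ∈ Vs)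

theorem comap_sg_AV (A : I → Submodule k V₀) (i : I) :
    (AV Vs A).comap (sg Vs hsingle i) = A i := by
  ext v
  rw [Submodule.mem_comap, mem_AV]
  constructor
  · intro h
    have := h i
    rwa [sg_apply_self] at this
  · intro h j
    by_cases hj : j = i
    · subst hj
      rwa [sg_apply_self]
    · rw [sg_apply_ne Vs hsingle i v hj]
      exact zero_mem _

/-- the complementary idempotent: restriction to the complement of `S` -/
noncomputable def eC (S : Finset I) : Module.End k Vs :=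
  1 - ∑ i ∈ S, (sg Vs hsingle i ∘ₗ ev Vs i : Module.End k Vs)

theorem eC_apply (S : Finset I) (a : Vs) (j : I) :
    (eC Vs hsingle S a).1 j = if j ∈ S then 0 else a.1 j := by
  classical
  have h1 : (eC Vs hsingle S a).1 j = a.1 j - ∑ i ∈ S, (sg Vs hsingle i (a.1 i)).1 j := by
    unfold eC
    rw [LinearMap.sub_apply, LinearMap.sum_apply]
    rw [Submodule.coe_sub, Pi.sub_apply, Submodule.coe_sum, Finset.sum_apply]
    rfl
  rw [h1]
  by_cases hj : j ∈ S
  · rw [if_pos hj, Finset.sum_eq_single j]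
    · rw [sg_apply_self, sub_self]
    · intro i _ hij
      exact sg_apply_ne Vs hsingle i _ (Ne.symm hij)
    · intro h; exact absurd hj h
  · rw [if_neg hj, Finset.sum_eq_zero, sub_zero]
    intro i hi
    apply sg_apply_ne
    rintro rfl
    exact hj hi

include hsingle in
/-- the componentwise residue formula -/
theorem res_cw (A : I → Submodule k V₀) (f g : I → Module.End k V₀)
    (hf : ∀ a ∈ Vs, (fun i => f i (a i)) ∈ Vs) (hg : ∀ a ∈ Vs, (fun i => g i (a i)) ∈ Vs)
    (hfg : ∀ i, f i * g i = g i * f i)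
    (hfE : ∀ i, f i ∈ EE (A i)) (hgE : ∀ i, g i ∈ EE (A i)) (S : Finset I)
    (hfS : ∀ i, i ∉ S → ∀ a ∈ A i, f i a ∈ A i) (hgS : ∀ i, i ∉ S → ∀ a ∈ A i, g i a ∈ A i) :
    cw Vs f hf ∈ EE (AV Vs A) ∧ cw Vs g hg ∈ EE (AV Vs A) ∧
    res (AV Vs A) (cw Vs f hf) (cw Vs g hg) = ∑ i ∈ S, res (A i) (f i) (g i) := by
  classical
  -- basic facts on the summands
  have hpι : ∀ i, ∀ v, ev Vs i (sg Vs hsingle i v) = v := fun i v => sg_apply_self Vs hsingle i v
  have hAst : ∀ i, ∀ a ∈ AV Vs A, sg Vs hsingle i (ev Vs i a) ∈ AV Vs A := by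
    intro i a ha j
    by_cases hj : j = i
    · subst hj
      rw [sg_apply_self]
      exact ha j
    · rw [sg_apply_ne Vs hsingle i _ hj]
      exact zero_mem _
  -- decomposition of a componentwise operator
  have hdecomp : ∀ (h : I → Module.End k V₀) (hh : ∀ a ∈ Vs, (fun i => h i (a i)) ∈ Vs),
      cw Vs h hh = ∑ i ∈ S, (sg Vs hsingle i ∘ₗ h i ∘ₗ ev Vs i : Module.End k Vs) +
        cw Vs h hh * eC Vs hsingle S := by
    intro h hh
    apply LinearMap.ext
    intro a
    apply Subtype.ext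
    funext j
    rw [LinearMap.add_apply, LinearMap.sum_apply, Submodule.coe_add, Pi.add_apply,
      Submodule.coe_sum, Finset.sum_apply]
    change h j (a.1 j) = ∑ i ∈ S, (sg Vs hsingle i (h i (a.1 i))).1 j +
      h j ((eC Vs hsingle S a).1 j)
    rw [eC_apply]
    by_cases hj : j ∈ S
    · rw [if_pos hj, map_zero, add_zero, Finset.sum_eq_single j]
      · rw [sg_apply_self]
      · intro i _ hij
        exact sg_apply_ne Vs hsingle i _ (Ne.symm hij)
      · intro h'; exact absurd hj h'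
    · rw [if_neg hj, Finset.sum_eq_zero, zero_add]
      intro i hi
      apply sg_apply_ne
      rintro rfl
      exact hj hi
  have hcomp : ∀ (h : I → Module.End k V₀) (hh : ∀ a ∈ Vs, (fun i => h i (a i)) ∈ Vs) (i : I),
      (ev Vs i ∘ₗ cw Vs h hh ∘ₗ sg Vs hsingle i : Module.End k V₀) = h i := by
    intro h hh i
    apply LinearMap.ext
    intro v
    change h i ((sg Vs hsingle i v).1 i) = h i v
    rw [sg_apply_self]
  have hsumE : ∀ (h : I → Module.End k V₀) (i : I), h i ∈ EE (A i) →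
      (sg Vs hsingle i ∘ₗ h i ∘ₗ ev Vs i : Module.End k Vs) ∈ EE (AV Vs A) := by
    intro h i hi
    apply mem_EE_summand (sg Vs hsingle i) (ev Vs i) (hpι i) (AV Vs A) (hAst i)
    rw [comap_sg_AV]
    exact hi
  have hrestE : ∀ (h : I → Module.End k V₀) (hh : ∀ a ∈ Vs, (fun i => h i (a i)) ∈ Vs),
      (∀ i, i ∉ S → ∀ a ∈ A i, h i a ∈ A i) → cw Vs h hh * eC Vs hsingle S ∈ EE (AV Vs A) := by
    intro h hh hS
    apply mem_EE_of_stable
    intro a ha j
    change h j ((eC Vs hsingle S a).1 j) ∈ A j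
    rw [eC_apply]
    by_cases hj : j ∈ S
    · rw [if_pos hj, map_zero]; exact zero_mem _
    · rw [if_neg hj]; exact hS j hj _ (ha j)
  have hcwE : ∀ (h : I → Module.End k V₀) (hh : ∀ a ∈ Vs, (fun i => h i (a i)) ∈ Vs),
      (∀ i, h i ∈ EE (A i)) → (∀ i, i ∉ S → ∀ a ∈ A i, h i a ∈ A i) →
      cw Vs h hh ∈ EE (AV Vs A) := by
    intro h hh hE hS
    rw [hdecomp h hh]
    exact (EE _).add_mem ((EE _).sum_mem fun i _ => hsumE h i (hE i)) (hrestE h hh hS)
  have hfEE := hcwE f hf hfE hfS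
  have hgEE := hcwE g hg hgE hgS
  refine ⟨hfEE, hgEE, ?_⟩
  -- commutation
  have hc1 : ∀ i, (sg Vs hsingle i ∘ₗ f i ∘ₗ ev Vs i : Module.End k Vs) * cw Vs g hg =
      cw Vs g hg * (sg Vs hsingle i ∘ₗ f i ∘ₗ ev Vs i) := by
    intro i
    apply LinearMap.ext
    intro a
    apply Subtype.ext
    funext j
    change (sg Vs hsingle i (f i (g i (a.1 i)))).1 j = g j ((sg Vs hsingle i (f i (a.1 i))).1 j)
    by_cases hj : j = i
    · subst hj
      rw [sg_apply_self, sg_apply_self]
      exact LinearMap.congr_fun (hfg j) (a.1 j)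
    · rw [sg_apply_ne Vs hsingle i _ hj, sg_apply_ne Vs hsingle i _ hj, map_zero]
  have hc2 : (cw Vs f hf * eC Vs hsingle S) * cw Vs g hg =
      cw Vs g hg * (cw Vs f hf * eC Vs hsingle S) := by
    apply LinearMap.ext
    intro a
    apply Subtype.ext
    funext j
    change f j ((eC Vs hsingle S (cw Vs g hg a)).1 j) = g j (f j ((eC Vs hsingle S a).1 j))
    rw [eC_apply, eC_apply]
    by_cases hj : j ∈ S
    · rw [if_pos hj, if_pos hj, map_zero, map_zero]
    · rw [if_neg hj, if_neg hj]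
      exact LinearMap.congr_fun (hfg j) (a.1 j)
  have hsumE' : (∑ i ∈ S, (sg Vs hsingle i ∘ₗ f i ∘ₗ ev Vs i : Module.End k Vs)) ∈ EE (AV Vs A) :=
    (EE _).sum_mem fun i _ => hsumE f i (hfE i)
  have hc3 : (∑ i ∈ S, (sg Vs hsingle i ∘ₗ f i ∘ₗ ev Vs i : Module.End k Vs)) * cw Vs g hg =
      cw Vs g hg * ∑ i ∈ S, (sg Vs hsingle i ∘ₗ f i ∘ₗ ev Vs i : Module.End k Vs) := by
    rw [Finset.sum_mul, Finset.mul_sum]
    exact Finset.sum_congr rfl fun i _ => hc1 i
  have key : res (AV Vs A) (cw Vs f hf) (cw Vs g hg) =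
      res (AV Vs A) (∑ i ∈ S, (sg Vs hsingle i ∘ₗ f i ∘ₗ ev Vs i : Module.End k Vs)) (cw Vs g hg) +
      res (AV Vs A) (cw Vs f hf * eC Vs hsingle S) (cw Vs g hg) := by
    conv_lhs => rw [hdecomp f hf]
    exact res_add_left hsumE' (hrestE f hf hfS) hgEE hc3 hc2
  rw [key, res_sum_left S _ (fun i _ => hsumE f i (hfE i)) hgEE (fun i _ => hc1 i)]
  -- the rest vanishes
  have hzero : res (AV Vs A) (cw Vs f hf * eC Vs hsingle S) (cw Vs g hg) = 0 := by
    apply res_eq_zero_of_stable' hgEE _ _ _ hc2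
    · intro a ha j
      change f j ((eC Vs hsingle S a).1 j) ∈ A j
      rw [eC_apply]
      by_cases hj : j ∈ S
      · rw [if_pos hj, map_zero]; exact zero_mem _
      · rw [if_neg hj]; exact hfS j hj _ (ha j)
    · intro a ha j
      change f j ((eC Vs hsingle S (cw Vs g hg a)).1 j) ∈ A j
      rw [eC_apply]
      by_cases hj : j ∈ S
      · rw [if_pos hj, map_zero]; exact zero_mem _
      · rw [if_neg hj]; exact hfS j hj _ (hgS j hj _ (ha j))
    · intro a ha j
      change f j ((eC Vs hsingle S (cw Vs g hg (cw Vs g hg a))).1 j) ∈ A j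
      rw [eC_apply]
      by_cases hj : j ∈ S
      · rw [if_pos hj, map_zero]; exact zero_mem _
      · rw [if_neg hj]; exact hfS j hj _ (hgS j hj _ (hgS j hj _ (ha j)))
  rw [hzero, add_zero]
  apply Finset.sum_congr rfl
  intro i _
  have hge : ∀ a, cw Vs g hg (sg Vs hsingle i (ev Vs i a)) =
      sg Vs hsingle i (ev Vs i (cw Vs g hg a)) := by
    intro a
    apply Subtype.ext
    funext j
    change g j ((sg Vs hsingle i (a.1 i)).1 j) = (sg Vs hsingle i (g i (a.1 i))).1 j
    by_cases hj : j = i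
    · subst hj
      rw [sg_apply_self, sg_apply_self]
    · rw [sg_apply_ne Vs hsingle i _ hj, sg_apply_ne Vs hsingle i _ hj, map_zero]
  have hfi : f i ∈ EE ((AV Vs A).comap (sg Vs hsingle i)) := by
    rw [comap_sg_AV]; exact hfE i
  have hfgi : f i * (ev Vs i ∘ₗ cw Vs g hg ∘ₗ sg Vs hsingle i) =
      (ev Vs i ∘ₗ cw Vs g hg ∘ₗ sg Vs hsingle i) * f i := by
    rw [hcomp g hg i]; exact hfg i
  rw [res_summand (sg Vs hsingle i) (ev Vs i) (hpι i) (AV Vs A) (hAst i) hgEE hge hfi hfgi,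
    hcomp g hg i, comap_sg_AV]

end CW

end Groth.Agent.Lib.Helper2.Tate
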