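import Mathlib
import Groth.Agent.Lib.Helper2.Tate.T6a

set_option autoImplicit false
open LinearMap

namespace Groth.Agent.Lib.Helper2.Tate

variable {k : Type*} [Field k] {V : Type*} [AddCommGroup V] [Module k V]

/-- relative complement -/
theorem exists_rel_compl (X Y : Submodule k V) :
    ∃ Z : Submodule k V, Z ≤ X ∧ Z ⊓ Y = ⊥ ∧ Z ⊔ (X ⊓ Y) = X := by
  obtain ⟨C, hC⟩ := Submodule.exists_isCompl (X ⊓ Y)
  refine ⟨X ⊓ C, inf_le_left, ?_, ?_⟩
  · rw [inf_right_comm, inf_comm, hC.symm.inf_eq_bot] 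
  · apply le_antisymm
    · exact sup_le inf_le_left inf_le_left
    · intro a ha
      have h1 : a ∈ (X ⊓ Y) ⊔ C := by rw [hC.sup_eq_top]; trivial
      obtain ⟨x, hx, c, hc, rfl⟩ := Submodule.mem_sup.1 h1
      have hcX : c ∈ X := by
        have := sub_mem ha hx.1
        rwa [add_sub_cancel_left] at this
      rw [add_comm]
      exact Submodule.add_mem_sup ⟨hcX, hc⟩ hx

/-- If `B` is stable under `f`, `g`, `A ∩ B` is finite dimensional and `A + B` has finite
codimension, then the residue vanishes. -/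
theorem res_eq_zero_of_compl {A B : Submodule k V} {f g : Module.End k V} (hf : f ∈ EE A)
    (hg : g ∈ EE A) (hfg : f * g = g * f) (hfB : ∀ b ∈ B, f b ∈ B) (hgB : ∀ b ∈ B, g b ∈ B)
    (hfd : FiniteDimensional k (A ⊓ B : Submodule k V)) (W : Submodule k V)
    [FiniteDimensional k W] (hsup : A ⊔ B ⊔ W = ⊤) : res A f g = 0 := by
  obtain ⟨A₁, hA₁A, hA₁B, hA₁sup⟩ := exists_rel_compl A B
  obtain ⟨Q, hQW, hQ1, hQsup⟩ := exists_rel_compl W (A₁ ⊔ B)
  set A₂ := A₁ ⊔ Q with hA₂
  have hAle : A ≤ A₁ ⊔ B := by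
    rw [← hA₁sup]
    exact sup_le le_sup_left (inf_le_right.trans le_sup_right)
  have hcompl : IsCompl A₂ B := by
    constructor
    · rw [disjoint_iff, Submodule.eq_bot_iff]
      rintro x ⟨hx2, hxB⟩
      obtain ⟨a, ha, q, hq, rfl⟩ := Submodule.mem_sup.1 hx2
      have hq0 : q ∈ Q ⊓ (A₁ ⊔ B) := by
        refine ⟨hq, ?_⟩
        have : q = -a + (a + q) := by abel
        rw [this]
        exact Submodule.add_mem_sup (neg_mem ha) hxB
      rw [hQ1, Submodule.mem_bot] at hq0
      subst hq0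
      rw [add_zero] at hxB ⊢
      have : a ∈ A₁ ⊓ B := ⟨ha, hxB⟩
      rwa [hA₁B, Submodule.mem_bot] at this
    · rw [codisjoint_iff, ← top_le_iff, ← hsup]
      refine sup_le (sup_le ?_ le_sup_right) ?_
      · exact hAle.trans (sup_le_sup_right le_sup_left B)
      · rw [← hQsup]
        refine sup_le (le_sup_right.trans le_sup_left) ?_
        exact inf_le_right.trans (sup_le_sup_right le_sup_left B)
  have h21 : AlmostLE A₂ A := ⟨W, inferInstance, sup_le_sup hA₁A hQW⟩
  have h12 : AlmostLE A A₂ := by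
    refine ⟨A ⊓ B, hfd, ?_⟩
    calc A = A₁ ⊔ A ⊓ B := hA₁sup.symm
      _ ≤ A₂ ⊔ A ⊓ B := sup_le_sup_right (le_sup_left : A₁ ≤ A₁ ⊔ Q) (A ⊓ B)
  rw [res_congr h12 h21 hf hg hfg]
  obtain ⟨hE, -, -⟩ := almostLE_congr_E h12 h21
  have hf2 : f ∈ EE A₂ := hE ▸ hf
  have hg2 : g ∈ EE A₂ := hE ▸ hg
  set π : Module.End k V := A₂.projection B hcompl with hπdef
  have hπ : IsProj A₂ π := ⟨fun x => Submodule.projection_apply_mem hcompl x,
    fun x hx => Submodule.projection_apply_of_mem_left hcompl hx⟩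
  rw [res_eq_of_isProj hπ hf2 hg2 hfg]
  have hkey : ∀ h : Module.End k V, (∀ b ∈ B, h b ∈ B) → π * h * π = π * h := by
    intro h hB
    apply LinearMap.ext
    intro v
    change π (h (π v)) = π (h v)
    have h1 : v - π v ∈ B := Submodule.sub_projection_mem hcompl v
    have h2 : π (h (v - π v)) = 0 := Submodule.projection_apply_of_mem_right hcompl (hB _ h1)
    rw [map_sub, map_sub, sub_eq_zero] at h2
    exact h2.symm
  have : π * f * (π * g) - π * g * (π * f) = 0 := by
    have e1 : π * f * (π * g) = (π * f * π) * g := by noncomm_ring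
    have e2 : π * g * (π * f) = (π * g * π) * f := by noncomm_ring
    rw [e1, e2, hkey f hfB, hkey g hgB, mul_assoc, mul_assoc, hfg, sub_self]
  rw [this, fpTrace_zero]

end Groth.Agent.Lib.Helper2.Tate
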