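import Mathlib
import Groth.Agent.Lib.Helper2.Tate.T8
import Groth.Agent.Lib.Helper2.Tate.T6b
import Groth.Agent.Lib.Helper2.Tate.T6c
import Groth.Agent.Lib.Helper2.FunFld.AdeleG
import Groth.Agent.Lib.Helper2.FunFld.LR1

set_option autoImplicit false
open LinearMap FunFld
open Groth.Agent.Lib.Helper2.FF Groth.Agent.Lib.Helper2.RelDim

namespace Groth.Agent.Lib.Helper2.Tate

variable {k K : Type*} [Field k] [Field K] [Algebra k K]

/-- the valuation ring of a place as a `k`-submodule -/
def OP (P : Place k K) : Submodule k K where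
  carrier := {x | P.1 x ≤ 1}
  add_mem' {x y} hx hy := (P.1.map_add x y).trans (max_le hx hy)
  zero_mem' := by simp
  smul_mem' c x hx := by
    change P.1 (c • x) ≤ 1
    rw [Algebra.smul_def, map_mul]
    exact (mul_le_mul' (P.2.1 c) hx).trans_eq (one_mul _)

theorem mem_OP {P : Place k K} {x : K} : x ∈ OP P ↔ P.1 x ≤ 1 := Iff.rfl

theorem mulK_stable {P : Place k K} {u : K} (hu : P.1 u ≤ 1) : ∀ a ∈ OP P, mulK k u a ∈ OP P := by
  intro a ha
  change P.1 (u * a) ≤ 1
  rw [map_mul]
  exact (mul_le_mul' hu ha).trans_eq (one_mul _)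

/-- the diagonal embedding into the adele space -/
noncomputable def diagA (hK : IsFunctionField k K) : K →ₗ[k] adele k K :=
  (diag k K).codRestrict (adele k K) (fun z => FK_le_adele hK ⟨z, rfl⟩)

theorem diagA_apply (hK : IsFunctionField k K) (z : K) (P : Place k K) :
    (diagA hK z).1 P = z := rfl

/-- the adelic residue theorem in abstract form -/
theorem sum_res_eq_zero (hK : IsFunctionField k K)
    (hE : ∀ (P : Place k K) (x : K), mulK k x ∈ EE (OP P)) (u v : K)
    (S : Finset (Place k K)) (hS : ∀ P, P ∉ S → P.1 u ≤ 1 ∧ P.1 v ≤ 1) :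
    ∑ P ∈ S, res (OP P) (mulK k u) (mulK k v) = 0 := by
  classical
  have hsingle : ∀ (P : Place k K) (x : K), Pi.single P x ∈ adele k K := by
    intro P x
    rw [mem_adele]
    refine (Set.finite_singleton P).subset fun Q hQ => ?_
    simp only [Set.mem_ofPred_eq] at hQ
    by_contra h
    apply hQ
    rw [Pi.single_eq_of_ne h, map_zero]
    exact zero_le_one
  have hmul : ∀ x : K, ∀ a ∈ adele k K, (fun P => mulK k x (a P)) ∈ adele k K := by
    intro x a ha
    rw [mem_adele] at ha ⊢
    refine ((finite_not_le_one hK x).union ha).subset fun P hP => ?_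
    simp only [Set.mem_ofPred_eq, Set.mem_union] at hP ⊢
    by_contra h
    push Not at h
    apply hP
    change P.1 (x * a P) ≤ 1
    rw [map_mul]
    exact (mul_le_mul' h.1 h.2).trans_eq (one_mul _)
  obtain ⟨hfE, hgE, hres⟩ := res_cw (adele k K) hsingle (fun P => OP P)
    (fun _ => mulK k u) (fun _ => mulK k v) (hmul u) (hmul v) (fun _ => mulK_comm u v)
    (fun P => hE P u) (fun P => hE P v) S (fun P hP => mulK_stable (hS P hP).1)
    (fun P hP => mulK_stable (hS P hP).2)
  rw [← hres]
  set A := AV (adele k K) (fun P => OP P) with hA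
  set B : Submodule k (adele k K) := range (diagA hK) with hB
  have hstab : ∀ (x : K) (hh : ∀ a ∈ adele k K, (fun P => mulK k x (a P)) ∈ adele k K),
      ∀ b ∈ B, cw (adele k K) (fun _ => mulK k x) hh b ∈ B := by
    rintro x hh _ ⟨z, rfl⟩
    exact ⟨x * z, rfl⟩
  have hcomm : cw (adele k K) (fun _ => mulK k u) (hmul u) * cw (adele k K) (fun _ => mulK k v) (hmul v)
      = cw (adele k K) (fun _ => mulK k v) (hmul v) * cw (adele k K) (fun _ => mulK k u) (hmul u) := by
    apply LinearMap.ext
    intro a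
    apply Subtype.ext
    funext P
    change u * (v * a.1 P) = v * (u * a.1 P)
    ring
  have hfd : FiniteDimensional k (A ⊓ B : Submodule k (adele k K)) := by
    haveI := finiteDimensional_L_zero hK
    have hle : A ⊓ B ≤ (L (0 : Divisor k K)).map (diagA hK) := by
      rintro _ ⟨ha, ⟨z, rfl⟩⟩
      refine ⟨z, ?_, rfl⟩
      intro P
      have h1 : P.1 z ≤ 1 := ha P
      simpa using h1
    exact Submodule.finiteDimensional_of_le hle
  -- the finite dimensional complement
  have hfin := (finIdx_adele hK (0 : Divisor k K)).1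
  set X := (AD (0 : Divisor k K) ⊔ FK).submoduleOf (adele k K) with hX
  obtain ⟨W, hW⟩ := Submodule.exists_isCompl X
  haveI : FiniteDimensional k (adele k K ⧸ X) := hfin
  haveI : FiniteDimensional k W :=
    LinearEquiv.finiteDimensional (Submodule.quotientEquivOfIsCompl X W hW)
  have hXle : X ≤ A ⊔ B := by
    intro x hx
    have hx' : x.1 ∈ AD (0 : Divisor k K) ⊔ FK := hx
    obtain ⟨a, ha, b, ⟨z, rfl⟩, hab⟩ := Submodule.mem_sup.1 hx'
    have : x = ⟨a, AD_le_adele 0 ha⟩ + diagA hK z := by
      apply Subtype.ext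
      exact hab.symm
    rw [this]
    refine Submodule.add_mem_sup ?_ ⟨z, rfl⟩
    intro P
    have h1 := ha P
    change P.1 (a P) ≤ 1
    simpa using h1
  have hsup : A ⊔ B ⊔ W = ⊤ := by
    rw [eq_top_iff, ← hW.sup_eq_top]
    exact sup_le_sup_right hXle W
  exact res_eq_zero_of_compl hfE hgE hcomm (hstab u (hmul u)) (hstab v (hmul v)) hfd W hsup

end Groth.Agent.Lib.Helper2.Tate
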