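import Mathlib
import Groth.Prelude.Def_LocRes
import Groth.Agent.Lib.Helper2.Tate.LD4
import Groth.Agent.Lib.Helper2.FunFld.LR1
import Groth.Agent.Lib.Helper2.FunFld.AdeleG
import Groth.Agent.S12579

set_option autoImplicit false
open LaurentSeries HahnSeries KaehlerDifferential FunFld
open Groth.Agent.Lib.Helper2.FF

namespace Groth.Agent.Lib.Helper2.Tate

universe u v w

section LocalLemmas

variable {k : Type u} {K : Type v} {F : Type w} [Field k] [Field K] [Field F] [Algebra k K]
  [Algebra k F]

theorem locRes_add_left (φ : K →ₐ[k] F⸨X⸩) (x y v : K) :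
    LocRes.locRes φ (x + y) v = LocRes.locRes φ x v + LocRes.locRes φ y v := by
  unfold LocRes.locRes LocRes.resExp
  rw [map_add, add_mul, map_add, map_add]

theorem locRes_smul_left (φ : K →ₐ[k] F⸨X⸩) (c : k) (x v : K) :
    LocRes.locRes φ (c • x) v = c * LocRes.locRes φ x v := by
  unfold LocRes.locRes LocRes.resExp
  rw [Algebra.smul_def, map_mul φ, LocRes.map_algebraMap, mul_assoc, HahnSeries.C_mul_eq_smul,
    LocRes.res_apply, LocRes.res_apply, HahnSeries.coeff_smul, smul_eq_mul, ← Algebra.smul_def,
    map_smul, smul_eq_mul]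

theorem locRes_eq_zero_of_mem_Fil (φ : K →ₐ[k] F⸨X⸩) {x v : K}
    (h : φ x * LocRes.D F (φ v) ∈ Fil k (F := F) 0) : LocRes.locRes φ x v = 0 := by
  unfold LocRes.locRes LocRes.resExp
  rw [LocRes.res_apply, h (-1) (by norm_num), map_zero]

end LocalLemmas

section Global

variable {k : Type u} {K : Type v} [Field k] [Field K] [Algebra k K]
variable {F : Place k K → Type w} [∀ P, Field (F P)] [∀ P, Algebra k (F P)]
variable {φ : ∀ P, K →ₐ[k] LaurentSeries (F P)}

theorem finite_support_locRes (hK : IsFunctionField k K)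
    (hφ : ∀ P, LocRes.IsExpansionAt P.1 (φ P)) (u v : K) (a : adele k K) :
    (Function.support fun P => LocRes.locRes (φ P) ((a : Place k K → K) P * u) v).Finite := by
  have ha := (mem_adele (k := k) (K := K)).1 a.2
  refine ((ha.union (finite_not_le_one hK u)).union (finite_not_le_one hK v)).subset fun P hP => ?_
  by_contra hcon
  simp only [Set.mem_union, Set.mem_ofPred_eq, not_or, not_not] at hcon
  obtain ⟨⟨h1, h2⟩, h3⟩ := hcon
  apply hP
  change LocRes.locRes (φ P) (a.1 P * u) v = 0
  unfold LocRes.locRes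
  rw [resExp_eq_zero_of_val_le_one (φ P) _ v (by
      rw [(hφ P).1, map_mul]
      exact (mul_le_mul' h1 h2).trans_eq (one_mul _)) (by rw [(hφ P).1]; exact h3), map_zero]

/-- the Weil differential attached to `u dv` through local residues -/
noncomputable def omegaL (hK : IsFunctionField k K)
    (hφ : ∀ P, LocRes.IsExpansionAt P.1 (φ P)) (u v : K) : Module.Dual k (adele k K) where
  toFun a := ∑ᶠ P, LocRes.locRes (φ P) ((a : Place k K → K) P * u) v
  map_add' a b := by
    rw [← finsum_add_distrib (finite_support_locRes hK hφ u v a) (finite_support_locRes hK hφ u v b)]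
    congr 1
    funext P
    rw [Submodule.coe_add, Pi.add_apply, add_mul, locRes_add_left]
  map_smul' c a := by
    rw [RingHom.id_apply, smul_eq_mul, mul_finsum]
    congr 1
    funext P
    rw [Submodule.coe_smul, Pi.smul_apply, smul_mul_assoc, locRes_smul_left]

theorem omegaL_apply (hK : IsFunctionField k K)
    (hφ : ∀ P, LocRes.IsExpansionAt P.1 (φ P)) (u v : K) (a : adele k K) :
    omegaL hK hφ u v a = ∑ᶠ P, LocRes.locRes (φ P) ((a : Place k K → K) P * u) v := rfl

theorem omegaL_single [DecidableEq (Place k K)] (hK : IsFunctionField k K)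
    (hφ : ∀ P, LocRes.IsExpansionAt P.1 (φ P)) (u v : K) (P : Place k K) (y : K)
    (a : adele k K) (ha : (a : Place k K → K) = Pi.single P y) :
    omegaL hK hφ u v a = LocRes.locRes (φ P) (y * u) v := by
  rw [omegaL_apply, finsum_eq_single _ P]
  · rw [ha, Pi.single_eq_same]
  · intro Q hQ
    rw [ha, Pi.single_eq_of_ne hQ, zero_mul]
    unfold LocRes.locRes LocRes.resExp
    simp

variable [∀ P, FiniteDimensional k (F P)]

theorem omegaL_diag (hK : IsFunctionField k K)
    (hφ : ∀ P, LocRes.IsExpansionAt P.1 (φ P)) (u v : K) (a : adele k K) (z : K)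
    (ha : (a : Place k K → K) = diag k K z) : omegaL hK hφ u v a = 0 := by
  rw [omegaL_apply]
  have := (Groth.Agent.S12579.result k K hK F φ hφ (z * u) v).2
  rw [← this]
  congr 1
  funext P
  rw [ha]
  rfl

end Global

end Groth.Agent.Lib.Helper2.Tate
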