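import Mathlib
import Groth.Prelude.Def_LocRes
import Groth.Agent.Lib.Helper2.Tate.GD1
import Groth.Agent.Lib.Helper2.FunFld.WeilDiv
import Groth.Agent.Lib.Helper2.FunFld.RR

set_option autoImplicit false
open LaurentSeries HahnSeries KaehlerDifferential FunFld
open Groth.Agent.Lib.Helper2.FF

namespace Groth.Agent.Lib.Helper2.Tate

universe u v w

section LocalOrd

variable {k : Type u} {K : Type v} {F : Type w} [Field k] [Field K] [Field F] [Algebra k K]
  [Algebra k F]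

theorem val_eq_of_order {h : F⸨X⸩} {m : ℤ} (hm : h ∈ Fil k m) (hc : h.coeff m ≠ 0) :
    Valued.v h = WithZero.exp (-m) := by
  have h1 := val_le_of_mem_Fil hm
  have h2 : ¬ Valued.v h ≤ WithZero.exp (-(m + 1)) := by
    intro hle
    exact hc ((mem_Fil_iff_val (k := k)).2 hle m (by omega))
  have h0 : Valued.v h ≠ 0 := by
    intro h0
    apply h2
    rw [h0]
    exact zero_le'
  rw [← WithZero.exp_log h0] at h1 h2 ⊢
  rw [WithZero.exp_le_exp] at h1 h2
  congr 1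
  omega

variable {w : Valuation K (WithZero (Multiplicative ℤ))} {φ : K →ₐ[k] F⸨X⸩}

/-- the order of `u dv` read through an expansion -/
theorem ordDiff_spec (hfr : Module.finrank K (Ω[K⁄k]) = 1) (hφ : LocRes.IsExpansionAt w φ)
    {u v : K} (hu : u ≠ 0) (hv : D k K v ≠ 0) :
    φ u * LocRes.D F (φ v) ∈ Fil k (LocRes.ordDiff φ u v) ∧
      (φ u * LocRes.D F (φ v)).coeff (LocRes.ordDiff φ u v) ≠ 0 := by
  have h0 : φ u * LocRes.D F (φ v) ≠ 0 :=
    mul_ne_zero (fun h => hu ((map_eq_zero φ).1 h)) (D_phi_ne_zero hfr hφ hv)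
  obtain ⟨m, hm, hc⟩ := exists_order (k := k) _ h0
  have : LocRes.ordDiff φ u v = m := by
    unfold LocRes.ordDiff LocRes.vDiff
    rw [val_eq_of_order hm hc, WithZero.log_exp, neg_neg]
  rw [this]
  exact ⟨hm, hc⟩

theorem locRes_eq_zero_of_le (hfr : Module.finrank K (Ω[K⁄k]) = 1) (hφ : LocRes.IsExpansionAt w φ)
    {u v : K} (hu : u ≠ 0) (hv : D k K v ≠ 0) {b : K}
    (hb : w b ≤ WithZero.exp (LocRes.ordDiff φ u v)) : LocRes.locRes φ (b * u) v = 0 := by
  apply locRes_eq_zero_of_mem_Fil (k := k)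
  rw [map_mul φ, mul_assoc]
  have h1 : φ b ∈ Fil k (F := F) (-(LocRes.ordDiff φ u v)) := by
    rw [mem_Fil_iff_val, hφ.1, neg_neg]
    exact hb
  have := mul_mem_Fil h1 (ordDiff_spec hfr hφ hu hv).1
  rwa [neg_add_cancel] at this

theorem exists_locRes_ne_zero_of_lt [FiniteDimensional k F]
    (hfr : Module.finrank K (Ω[K⁄k]) = 1) (hφ : LocRes.IsExpansionAt w φ)
    {u v : K} (hu : u ≠ 0) (hv : D k K v ≠ 0) :
    ∃ y : K, w y ≤ WithZero.exp (LocRes.ordDiff φ u v + 1) ∧ LocRes.locRes φ (y * u) v ≠ 0 := by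
  obtain ⟨hm, hc⟩ := ordDiff_spec hfr hφ hu hv
  obtain ⟨y, hy1, hy2⟩ := exists_trace_coeff_ne_zero hfr hφ hm hc
  refine ⟨y, hy1, ?_⟩
  unfold LocRes.locRes LocRes.resExp
  rw [map_mul φ, mul_assoc]
  exact hy2

theorem ordDiff_nonneg (hfr : Module.finrank K (Ω[K⁄k]) = 1) (hφ : LocRes.IsExpansionAt w φ)
    {u v : K} (hu : u ≠ 0) (hv : D k K v ≠ 0) (h1 : w u ≤ 1) (h2 : w v ≤ 1) :
    0 ≤ LocRes.ordDiff φ u v := by
  obtain ⟨hm, hc⟩ := ordDiff_spec hfr hφ hu hv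
  by_contra hneg
  push Not at hneg
  apply hc
  have hu' : φ u ∈ Fil k (F := F) 0 := by
    rw [mem_Fil_iff_val, hφ.1, neg_zero, WithZero.exp_zero]; exact h1
  have hv' : φ v ∈ Fil k (F := F) 0 := by
    rw [mem_Fil_iff_val, hφ.1, neg_zero, WithZero.exp_zero]; exact h2
  have h3 : LocRes.D F (φ v) ∈ Fil k (F := F) 0 := by
    intro n hn
    rw [LocRes.D_coeff]
    by_cases hn1 : n + 1 < 0
    · rw [hv' _ hn1, smul_zero]
    · have : n + 1 = 0 := by omega
      rw [this, zero_smul]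
  have := mul_mem_Fil hu' h3
  rw [add_zero] at this
  exact this _ hneg

end LocalOrd

end Groth.Agent.Lib.Helper2.Tate
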