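import Mathlib
import Groth.Prelude.Def_LocRes
import Groth.Agent.Lib.Helper2.Tate.GD2
import Groth.Prelude.Def_W4bk4goldsch23Ext

set_option autoImplicit false
open LaurentSeries HahnSeries KaehlerDifferential FunFld

namespace Groth.Agent.Lib.Helper2.Tate

universe u v v' w

section LemmaB

/-- proportionality of derivation-like maps: if `df = c ds` then `d f = φ c * d s` -/
theorem apply_eq_mul_of_D_eq {k K L : Type*} [Field k] [Field K] [Algebra k K] [CommRing L]
    {f s c : K} (hc : D k K f = c • D k K s)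
    (φ : K →+* L) (d : K →+ L) (hd : ∀ a b, d (a * b) = φ a * d b + φ b * d a)
    (hk : ∀ c : k, d (algebraMap k K c) = 0) : d f = φ c * d s := by
  letI : Module K L := Module.compHom L φ
  letI : Module k L := Module.compHom L (φ.comp (algebraMap k K))
  haveI : IsScalarTower k K L := ⟨fun c a x => by
    change φ (c • a) * x = φ (algebraMap k K c) * (φ a * x)
    rw [Algebra.smul_def, map_mul, mul_assoc]⟩
  let dd : Derivation k K L :=
    { toFun := d
      map_add' := map_add d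
      map_smul' := fun c a => by
        change d (c • a) = φ (algebraMap k K c) * d a
        rw [Algebra.smul_def, hd, hk, mul_zero, add_zero]
      map_one_eq_zero' := by
        have := hk 1
        rwa [map_one] at this
      leibniz' := fun a b => by
        change d (a * b) = φ a * d b + φ b * d a
        rw [hd] }
  have h1 : dd.liftKaehlerDifferential (D k K f) = d f := Derivation.liftKaehlerDifferential_comp_D dd f
  have h2 : dd.liftKaehlerDifferential (D k K s) = d s := Derivation.liftKaehlerDifferential_comp_D dd s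
  rw [← h1, hc, map_smul, h2]
  rfl

end LemmaB

section Pair

variable {k : Type u} {K : Type v} {F : Type w} [Field k] [Field K] [Field F] [Algebra k K]
  [Algebra k F]

/-- `f ↦ (φ f)'` as an additive map -/
noncomputable def dPhi (φ : K →ₐ[k] F⸨X⸩) : K →+ F⸨X⸩ where
  toFun f := LocRes.D F (φ f)
  map_zero' := by simp
  map_add' a b := by simp

theorem dPhi_apply (φ : K →ₐ[k] F⸨X⸩) (f : K) : dPhi φ f = LocRes.D F (φ f) := rfl

theorem dPhi_mul (φ : K →ₐ[k] F⸨X⸩) (a b : K) :
    dPhi φ (a * b) = φ.toRingHom a * dPhi φ b + φ.toRingHom b * dPhi φ a := by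
  change LocRes.D F (φ (a * b)) = φ a * LocRes.D F (φ b) + φ b * LocRes.D F (φ a)
  rw [map_mul, Derivation.leibniz, smul_eq_mul, smul_eq_mul]

theorem dPhi_algebraMap (φ : K →ₐ[k] F⸨X⸩) (c : k) : dPhi φ (algebraMap k K c) = 0 := by
  change LocRes.D F (φ (algebraMap k K c)) = 0
  rw [LocRes.map_algebraMap, LocRes.D_apply, LocRes.derivative_C]

theorem D_phi_eq_mul (φ : K →ₐ[k] F⸨X⸩) {f s c : K} (hc : D k K f = c • D k K s) :
    LocRes.D F (φ f) = φ c * LocRes.D F (φ s) :=
  apply_eq_mul_of_D_eq hc φ.toRingHom (dPhi φ) (dPhi_mul φ) (dPhi_algebraMap φ)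

theorem vDiff_one_ne_zero_iff (φ : K →ₐ[k] F⸨X⸩) (x : K) :
    LocRes.vDiff φ 1 x ≠ 0 ↔ LocRes.D F (φ x) ≠ 0 := by
  unfold LocRes.vDiff
  rw [map_one, one_mul, Ne, Valuation.zero_iff]

theorem ordDiff_one_eq (φ : K →ₐ[k] F⸨X⸩) (x : K) :
    LocRes.ordDiff φ 1 x = - WithZero.log (Valued.v (LocRes.D F (φ x))) := by
  unfold LocRes.ordDiff LocRes.vDiff
  rw [map_one, one_mul]

end Pair

section Ext

variable {k : Type u} {K : Type v} {K' : Type v'} {F F' : Type w} [Field k] [Field K] [Field K'] [Field F]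
  [Field F'] [Algebra k K] [Algebra K K'] [Algebra k K'] [IsScalarTower k K K'] [Algebra k F]
  [Algebra k F']

/-- the restriction of an expansion of `K'` to `K` -/
noncomputable def resAlgHom (ψ : K' →ₐ[k] F'⸨X⸩) : K →ₐ[k] F'⸨X⸩ :=
  ψ.comp (IsScalarTower.toAlgHom k K K')

theorem resAlgHom_apply (ψ : K' →ₐ[k] F'⸨X⸩) (x : K) : resAlgHom ψ x = ψ (algebraMap K K' x) := rfl

variable {P : Place k K} {Q : Place k K'} {e : ℕ}
variable {φ : K →ₐ[k] F⸨X⸩} {ψ : K' →ₐ[k] F'⸨X⸩}

/-- the different exponent does not depend on the differential -/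
theorem diffExp_indep (he : IsOverWith Q P e)
    (hφ : LocRes.IsExpansionAt P.1 φ) (hψ : LocRes.IsExpansionAt Q.1 ψ)
    (hfr : Module.finrank K (Ω[K⁄k]) = 1)
    {x x' : K} (hx : LocRes.D F (φ x) ≠ 0) (hx' : LocRes.D F' (ψ (algebraMap K K' x)) ≠ 0)
    (hx2 : LocRes.D F (φ x') ≠ 0) :
    LocRes.D F' (ψ (algebraMap K K' x')) ≠ 0 ∧
      LocRes.diffExp φ ψ e x = LocRes.diffExp φ ψ e x' := by
  have hdx : D k K x ≠ 0 := by
    intro h0
    apply hx
    have := D_phi_eq_mul φ (f := x) (s := x) (c := 0) (by rw [h0, zero_smul])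
    rw [this, map_zero, zero_mul]
  obtain ⟨c, hc⟩ := (finrank_eq_one_iff_of_nonzero' (D k K x) hdx).mp hfr (D k K x')
  have h1 : LocRes.D F (φ x') = φ c * LocRes.D F (φ x) := D_phi_eq_mul φ hc.symm
  have h2' : LocRes.D F' (resAlgHom ψ x') = resAlgHom ψ c * LocRes.D F' (resAlgHom ψ x) :=
    D_phi_eq_mul (resAlgHom ψ) hc.symm
  have h2 : LocRes.D F' (ψ (algebraMap K K' x')) = ψ (algebraMap K K' c) *
      LocRes.D F' (ψ (algebraMap K K' x)) := h2'
  have hc0 : c ≠ 0 := by
    rintro rfl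
    apply hx2
    rw [h1, map_zero, zero_mul]
  have hψc : ψ (algebraMap K K' c) ≠ 0 := by
    intro h0
    apply hc0
    have := (map_eq_zero ψ).1 h0
    exact (map_eq_zero (algebraMap K K')).1 this
  refine ⟨by rw [h2]; exact mul_ne_zero hψc hx', ?_⟩
  unfold LocRes.diffExp
  rw [ordDiff_one_eq, ordDiff_one_eq, ordDiff_one_eq, ordDiff_one_eq, h1, h2, map_mul, map_mul,
    hφ.1, hψ.1, he c]
  have hPc : P.1 c ≠ 0 := (Valuation.ne_zero_iff _).2 hc0
  have hv1 : Valued.v (LocRes.D F (φ x)) ≠ 0 := (Valuation.ne_zero_iff _).2 hx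
  have hv2 : Valued.v (LocRes.D F' (ψ (algebraMap K K' x))) ≠ 0 := (Valuation.ne_zero_iff _).2 hx'
  rw [WithZero.log_mul (pow_ne_zero _ hPc) hv2, WithZero.log_mul hPc hv1, WithZero.log_pow]
  simp only [nsmul_eq_mul]
  ring

end Ext

end Groth.Agent.Lib.Helper2.Tate
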