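import Mathlib
import Groth.Prelude.Def_LocRes
import Groth.Agent.Lib.Helper2.Tate.DE1

set_option autoImplicit false
open LaurentSeries HahnSeries KaehlerDifferential FunFld

namespace Groth.Agent.Lib.Helper2.Tate

universe u v v' w

section Ord

variable {k : Type u} {F : Type w} [Field k] [Field F] [Algebra k F]

theorem D_coeff_order {h : F⸨X⸩} {m : ℤ} (hm : h ∈ Fil k m) :
    LocRes.D F h ∈ Fil k (m - 1) ∧ (LocRes.D F h).coeff (m - 1) = m • h.coeff m := by
  refine ⟨D_mem_Fil hm, ?_⟩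
  rw [LocRes.D_coeff, sub_add_cancel]

theorem mem_Fil_coeff_ne_of_val {h : F⸨X⸩} {m : ℤ} (hv : Valued.v h = WithZero.exp (-m)) :
    h ∈ Fil k m ∧ h.coeff m ≠ 0 := by
  have h1 : h ∈ Fil k m := mem_Fil_iff_val.2 hv.le
  refine ⟨h1, fun h0 => ?_⟩
  have h2 : h ∈ Fil k (m + 1) := by
    intro n hn
    by_cases hnm : n = m
    · rw [hnm, h0]
    · exact h1 n (by omega)
  have := val_le_of_mem_Fil h2
  rw [hv, WithZero.exp_le_exp] at this
  omega

theorem ordDiff_le_of_mem_Fil {K : Type v} [Field K] [Algebra k K] (φ : K →ₐ[k] F⸨X⸩) (x : K)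
    (h0 : LocRes.D F (φ x) ≠ 0) {m : ℤ} (hm : LocRes.D F (φ x) ∈ Fil k m) :
    m ≤ LocRes.ordDiff φ 1 x := by
  rw [ordDiff_one_eq]
  have hv0 : Valued.v (LocRes.D F (φ x)) ≠ 0 := (Valuation.ne_zero_iff _).2 h0
  have := val_le_of_mem_Fil hm
  rw [← WithZero.exp_log hv0, WithZero.exp_le_exp] at this
  omega

theorem ordDiff_eq_of_order {K : Type v} [Field K] [Algebra k K] (φ : K →ₐ[k] F⸨X⸩) (x : K)
    {m : ℤ} (hm : LocRes.D F (φ x) ∈ Fil k m) (hc : (LocRes.D F (φ x)).coeff m ≠ 0) :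
    LocRes.ordDiff φ 1 x = m := by
  rw [ordDiff_one_eq, val_eq_of_order hm hc, WithZero.log_exp, neg_neg]

end Ord

section Ext

variable {k : Type u} {K : Type v} {K' : Type v'} {F F' : Type w} [Field k] [Field K] [Field K'] [Field F]
  [Field F'] [Algebra k K] [Algebra K K'] [Algebra k K'] [IsScalarTower k K K'] [Algebra k F]
  [Algebra k F']
variable {P : Place k K} {Q : Place k K'} {e : ℕ}
variable {φ : K →ₐ[k] F⸨X⸩} {ψ : K' →ₐ[k] F'⸨X⸩}

theorem ordDiff_uniformizer (hφ : LocRes.IsExpansionAt P.1 φ) {t : K}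
    (ht : P.1 t = WithZero.exp (-1)) :
    LocRes.D F (φ t) ≠ 0 ∧ LocRes.ordDiff φ 1 t = 0 := by
  have hv : Valued.v (φ t) = WithZero.exp (-1) := by rw [hφ.1, ht]
  obtain ⟨h1, hc⟩ := mem_Fil_coeff_ne_of_val (k := k) hv
  obtain ⟨h2, h3⟩ := D_coeff_order h1
  rw [sub_self] at h2 h3
  rw [one_smul] at h3
  have hc' : (LocRes.D F (φ t)).coeff 0 ≠ 0 := by rw [h3]; exact hc
  refine ⟨fun h0 => hc' (by rw [h0]; rfl), ordDiff_eq_of_order φ t h2 hc'⟩

omit [Field K'] [Field F] [Algebra K K'] [Algebra k K'] [IsScalarTower k K K'] [Algebra k F] in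
theorem natCast_eq_zero_iff_ringChar_dvd (k : Type u) (K : Type v) (F' : Type w) [Field k]
    [Field K] [Field F'] [Algebra k K] [Algebra k F'] (e : ℕ) :
    ((e : ℕ) : F') = 0 ↔ ringChar K ∣ e := by
  have h1 : ringChar K = ringChar k := (Algebra.ringChar_eq k K).symm
  have h2 : ringChar F' = ringChar k := (Algebra.ringChar_eq k F').symm
  rw [h1, ← h2]
  exact CharP.cast_eq_zero_iff F' (ringChar F') e

/-- S12570 in library form -/
theorem diffExp_tame_wild (he : IsOverWith Q P e)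
    (hφ : LocRes.IsExpansionAt P.1 φ) (hψ : LocRes.IsExpansionAt Q.1 ψ)
    (hfr : Module.finrank K (Ω[K⁄k]) = 1)
    {x : K} (hx : LocRes.D F (φ x) ≠ 0) (hx' : LocRes.D F' (ψ (algebraMap K K' x)) ≠ 0) :
    (¬ (ringChar K ∣ e) → LocRes.diffExp φ ψ e x = (e : ℤ) - 1) ∧
    (ringChar K ∣ e → (e : ℤ) ≤ LocRes.diffExp φ ψ e x) := by
  obtain ⟨t, ht⟩ := hφ.2.2
  obtain ⟨hDt, hordt⟩ := ordDiff_uniformizer hφ ht
  obtain ⟨hDt', hindep⟩ := diffExp_indep he hφ hψ hfr hx hx' hDt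
  have hdiff : LocRes.diffExp φ ψ e x = LocRes.ordDiff ψ 1 (algebraMap K K' t) := by
    rw [hindep]
    unfold LocRes.diffExp
    rw [hordt, mul_zero, sub_zero]
  have hv : Valued.v (ψ (algebraMap K K' t)) = WithZero.exp (-(e : ℤ)) := by
    rw [hψ.1, he t, ht, ← WithZero.exp_nsmul]
    congr 1
    simp
  obtain ⟨h1, hc⟩ := mem_Fil_coeff_ne_of_val (k := k) hv
  obtain ⟨h2, h3⟩ := D_coeff_order h1
  rw [hdiff]
  constructor
  · intro hnd
    apply ordDiff_eq_of_order (k := k) ψ _ h2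
    rw [h3, zsmul_eq_mul]
    refine mul_ne_zero ?_ hc
    intro h0
    apply hnd
    rw [← natCast_eq_zero_iff_ringChar_dvd k K F']
    exact_mod_cast h0
  · intro hd
    apply ordDiff_le_of_mem_Fil (k := k) ψ _ hDt'
    intro n hn
    by_cases hne : n = (e : ℤ) - 1
    · rw [hne, h3, zsmul_eq_mul]
      have : ((e : ℤ) : F') = 0 := by
        have := (natCast_eq_zero_iff_ringChar_dvd k K F' e).2 hd
        exact_mod_cast this
      rw [this, zero_mul]
    · exact h2 n (by omega)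

end Ext

end Groth.Agent.Lib.Helper2.Tate
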