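import Mathlib
import Groth.Prelude.Def_LocRes
import Groth.Agent.Lib.Helper2.Tate.GD2

set_option autoImplicit false
open LaurentSeries HahnSeries KaehlerDifferential FunFld
open Groth.Agent.Lib.Helper2.FF

namespace Groth.Agent.Lib.Helper2.Tate

universe u v w

section Global

variable {k : Type u} {K : Type v} [Field k] [Field K] [Algebra k K]
variable {F : Place k K → Type w} [∀ P, Field (F P)] [∀ P, Algebra k (F P)]
  [∀ P, FiniteDimensional k (F P)]
variable {φ : ∀ P, K →ₐ[k] LaurentSeries (F P)}

theorem single_mem_adele [DecidableEq (Place k K)] (P : Place k K) (y : K) :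
    (Pi.single P y : Place k K → K) ∈ adele k K := by
  rw [mem_adele]
  refine (Set.finite_singleton P).subset fun Q hQ => ?_
  simp only [Set.mem_ofPred_eq] at hQ
  by_contra h
  apply hQ
  rw [Pi.single_eq_of_ne h, map_zero]
  exact zero_le_one

variable (hK : IsFunctionField k K) (hfr : Module.finrank K (Ω[K⁄k]) = 1)
  (hφ : ∀ P, LocRes.IsExpansionAt P.1 (φ P)) {u v : K} (hu : u ≠ 0) (hv : D k K v ≠ 0)

include hfr hu hv in
/-- `ω_{u dv}` vanishes on `A(E) + K` when `E ≤ (u dv)` -/
theorem omegaL_mem_WD (E : Divisor k K) (hE : ∀ P, E P ≤ LocRes.ordDiff (φ P) u v) :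
    omegaL hK hφ u v ∈ WD E := by
  rw [mem_WD]
  intro a ha
  obtain ⟨b, hb, f, ⟨z, rfl⟩, hbf⟩ := Submodule.mem_sup.1 ha
  have hbA : b ∈ adele k K := AD_le_adele E hb
  have hfA : diag k K z ∈ adele k K := FK_le_adele hK ⟨z, rfl⟩
  have hsplit : a = ⟨b, hbA⟩ + ⟨diag k K z, hfA⟩ := Subtype.ext hbf.symm
  rw [hsplit, map_add, omegaL_diag hK hφ u v ⟨diag k K z, hfA⟩ z rfl, add_zero, omegaL_apply]
  rw [← finsum_zero (α := Place k K)]
  congr 1
  funext P
  apply locRes_eq_zero_of_le hfr (hφ P) hu hv
  exact (hb P).trans (WithZero.exp_le_exp.2 (hE P))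

include hfr hu hv in
theorem omegaL_ne_zero : omegaL hK hφ u v ≠ 0 := by
  classical
  obtain ⟨P⟩ := nonempty_place hK
  obtain ⟨y, -, hy⟩ := exists_locRes_ne_zero_of_lt hfr (hφ P) hu hv
  intro h0
  apply hy
  rw [← omegaL_single hK hφ u v P y ⟨Pi.single P y, single_mem_adele P y⟩ rfl, h0]
  rfl

include hfr hu hv in
theorem isWeil_omegaL : IsWeil (omegaL hK hφ u v) := by
  classical
  have hfin : {P : Place k K | ¬ (P.1 u ≤ 1 ∧ P.1 v ≤ 1)}.Finite := by
    refine ((finite_not_le_one hK u).union (finite_not_le_one hK v)).subset fun P hP => ?_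
    simp only [Set.mem_ofPred_eq, Set.mem_union] at hP ⊢
    by_contra h
    push Not at h
    exact hP ⟨h.1, h.2⟩
  let E : Divisor k K := Finsupp.onFinset hfin.toFinset
    (fun P => if P ∈ hfin.toFinset then min 0 (LocRes.ordDiff (φ P) u v) else 0)
    (fun P hP => by
      by_contra h
      exact hP (if_neg h))
  refine ⟨E, omegaL_mem_WD hK hfr hφ hu hv E fun P => ?_⟩
  change (if P ∈ hfin.toFinset then min 0 (LocRes.ordDiff (φ P) u v) else 0) ≤ _
  split_ifs with h
  · exact min_le_right _ _
  · rw [Set.Finite.mem_toFinset] at h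
    simp only [Set.mem_ofPred_eq, not_not] at h
    exact ordDiff_nonneg hfr (hφ P) hu hv h.1 h.2

include hfr hu hv in
/-- the divisor of `ω_{u dv}` is `P ↦ ord_P (u dv)` -/
theorem isDivOf_omegaL_apply {C : Divisor k K} (hC : IsDivOf (omegaL hK hφ u v) C)
    (P : Place k K) : C P = LocRes.ordDiff (φ P) u v := by
  classical
  set ω := omegaL hK hφ u v with hω
  set m := LocRes.ordDiff (φ P) u v with hm
  have hωC : ω ∈ WD C := mem_WD_of_isDivOf hC
  apply le_antisymm
  · by_contra hlt
    push Not at hlt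
    obtain ⟨y, hy1, hy2⟩ := exists_locRes_ne_zero_of_lt hfr (hφ P) hu hv
    apply hy2
    rw [← omegaL_single hK hφ u v P y ⟨Pi.single P y, single_mem_adele P y⟩ rfl]
    rw [mem_WD] at hωC
    apply hωC
    apply Submodule.mem_sup_left
    intro Q
    change Q.1 ((Pi.single P y : Place k K → K) Q) ≤ _
    by_cases hQ : Q = P
    · subst hQ
      rw [Pi.single_eq_same]
      refine hy1.trans (WithZero.exp_le_exp.2 ?_)
      omega
    · rw [Pi.single_eq_of_ne hQ, map_zero]
      exact zero_le'
  · set E : Divisor k K := C + Finsupp.single P (max (C P) m - C P) with hE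
    have hEP : E P = max (C P) m := by
      rw [hE, Finsupp.add_apply, Finsupp.single_eq_same]; ring
    have hEQ : ∀ Q, Q ≠ P → E Q = C Q := by
      intro Q hQ
      rw [hE, Finsupp.add_apply, Finsupp.single_eq_of_ne hQ, add_zero]
    have hωE : ω ∈ WD E := by
      rw [mem_WD]
      intro a ha
      obtain ⟨b, hb, f, ⟨z, rfl⟩, hbf⟩ := Submodule.mem_sup.1 ha
      have hbA : b ∈ adele k K := AD_le_adele E hb
      have hfA : diag k K z ∈ adele k K := FK_le_adele hK ⟨z, rfl⟩
      have hsplit : a = ⟨b, hbA⟩ + ⟨diag k K z, hfA⟩ := Subtype.ext hbf.symm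
      rw [hsplit, map_add, hω, omegaL_diag hK hφ u v ⟨diag k K z, hfA⟩ z rfl, add_zero, ← hω]
      -- split b
      set b' : Place k K → K := Pi.single P (b P) with hb'
      set b'' : Place k K → K := b - b' with hb''
      have hb'A : b' ∈ adele k K := single_mem_adele P (b P)
      have hb''A : b'' ∈ adele k K := (adele k K).sub_mem hbA hb'A
      have hsplit2 : (⟨b, hbA⟩ : adele k K) = ⟨b'', hb''A⟩ + ⟨b', hb'A⟩ := by
        apply Subtype.ext
        change b = b'' + b'
        rw [hb'']; abel
      rw [hsplit2, map_add]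
      have h1 : ω ⟨b'', hb''A⟩ = 0 := by
        rw [mem_WD] at hωC
        apply hωC
        apply Submodule.mem_sup_left
        intro Q
        change Q.1 (b'' Q) ≤ _
        by_cases hQ : Q = P
        · subst hQ
          rw [hb'', Pi.sub_apply, hb', Pi.single_eq_same, sub_self, map_zero]
          exact zero_le'
        · rw [hb'', Pi.sub_apply, hb', Pi.single_eq_of_ne hQ, sub_zero, ← hEQ Q hQ]
          exact hb Q
      have h2 : ω ⟨b', hb'A⟩ = 0 := by
        have hbP := hb P
        rw [hEP] at hbP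
        rcases le_total (C P) m with hle | hle
        · rw [max_eq_right hle] at hbP
          rw [hω, omegaL_single hK hφ u v P (b P) ⟨b', hb'A⟩ rfl]
          exact locRes_eq_zero_of_le hfr (hφ P) hu hv hbP
        · rw [max_eq_left hle] at hbP
          rw [mem_WD] at hωC
          apply hωC
          apply Submodule.mem_sup_left
          intro Q
          change Q.1 (b' Q) ≤ _
          by_cases hQ : Q = P
          · subst hQ
            rw [hb', Pi.single_eq_same]
            exact hbP
          · rw [hb', Pi.single_eq_of_ne hQ, map_zero]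
            exact zero_le'
      rw [h1, h2, add_zero]
    have hle := (hC E).1 hωE P
    rw [hEP] at hle
    exact (le_max_right _ _).trans hle

end Global

end Groth.Agent.Lib.Helper2.Tate
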