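import Mathlib
import Groth.Prelude.Def_LocRes
import Groth.Agent.Lib.Helper2.Tate.GD3

set_option autoImplicit false
open LaurentSeries HahnSeries KaehlerDifferential FunFld
open Groth.Agent.Lib.Helper2.FF

namespace Groth.Agent.Lib.Helper2.Tate

universe u v w

section Global

variable {k : Type u} {K : Type v} [Field k] [Field K] [Algebra k K]
variable {F : Place k K → Type w} [∀ P, Field (F P)] [∀ P, Algebra k (F P)]
  [∀ P, FiniteDimensional k (F P)]
variable {φ : ∀ P, K →ₐ[k] LaurentSeries (F P)}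
variable (hK : IsFunctionField k K) (hfr : Module.finrank K (Ω[K⁄k]) = 1)
  (hφ : ∀ P, LocRes.IsExpansionAt P.1 (φ P)) {v : K} (hv : D k K v ≠ 0)

include hfr hv in
/-- the divisor of `dv` -/
theorem exists_divisor_dv : ∃ C : Divisor k K, IsDivOf (omegaL hK hφ 1 v) C ∧
    IsCanonical k K C ∧ ∀ P, Valued.v (LocRes.D (F P) (φ P v)) = WithZero.exp (-(C P)) := by
  have h1 : (1 : K) ≠ 0 := one_ne_zero
  obtain ⟨C, hC⟩ := exists_isDivOf hK _ (isWeil_omegaL hK hfr hφ h1 hv)
    (omegaL_ne_zero hK hfr hφ h1 hv)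
  refine ⟨C, hC, ⟨_, omegaL_ne_zero hK hfr hφ h1 hv, hC⟩, fun P => ?_⟩
  obtain ⟨hm, hc⟩ := ordDiff_spec hfr (hφ P) h1 hv
  rw [map_one, one_mul] at hm hc
  rw [isDivOf_omegaL_apply hK hfr hφ h1 hv hC P]
  exact val_eq_of_order hm hc

include hφ in
theorem vDiff_le_iff {C : Divisor k K}
    (hC : ∀ P, Valued.v (LocRes.D (F P) (φ P v)) = WithZero.exp (-(C P))) (y : K) (P : Place k K)
    (d : ℤ) : LocRes.vDiff (φ P) y v ≤ WithZero.exp (-d) ↔ P.1 y ≤ WithZero.exp (C P - d) := by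
  unfold LocRes.vDiff
  rw [map_mul, (hφ P).1, hC P]
  have h2 : WithZero.exp (C P - d) = WithZero.exp (-d) * (WithZero.exp (-(C P)))⁻¹ := by
    rw [← WithZero.exp_neg, ← WithZero.exp_add]
    congr 1
    ring
  rw [h2, le_mul_inv_iff₀ (zero_lt_iff.2 WithZero.exp_ne_zero)]

include hφ in
theorem setOf_vDiff_le_eq {C : Divisor k K}
    (hC : ∀ P, Valued.v (LocRes.D (F P) (φ P v)) = WithZero.exp (-(C P))) (E : Divisor k K) :
    {y : K | ∀ P, LocRes.vDiff (φ P) y v ≤ WithZero.exp (-(E P))} = (L (C - E) : Set K) := by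
  ext y
  simp only [Set.mem_ofPred_eq, SetLike.mem_coe, mem_L]
  refine forall_congr' fun P => ?_
  rw [vDiff_le_iff hφ hC y P (E P)]
  rfl

include hK hfr hφ hv in
/-- S12629 in library form -/
theorem finrank_span_vDiff_le (E : Divisor k K) :
    Module.finrank k (Submodule.span k {y : K | ∀ P, LocRes.vDiff (φ P) y v ≤ WithZero.exp (-(E P))}) =
      Module.finrank k (WD E) := by
  obtain ⟨C, hC, -, hCv⟩ := exists_divisor_dv hK hfr hφ hv
  rw [setOf_vDiff_le_eq hφ hCv E, Submodule.span_eq]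
  exact (mulWEquiv hK (smul_mem_adele hK) hC E).finrank_eq

end Global

end Groth.Agent.Lib.Helper2.Tate
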