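import Mathlib
import Groth.Prelude.Def_LocRes
import Groth.Agent.Lib.Helper2.Tate.GD4
import Groth.Agent.Lib.Helper2.FunFld.Residue

set_option autoImplicit false
open LaurentSeries HahnSeries KaehlerDifferential FunFld
open Groth.Agent.Lib.Helper2.FF

namespace Groth.Agent.Lib.Helper2.Tate

universe u v w

section CoeffField

variable {k : Type u} {K : Type v} {F : Type w} [Field k] [Field K] [Algebra k K] [Field F]
  [Algebra k F]

/-- the constant coefficient of the expansion, as a `k`-linear map on the valuation ring -/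
noncomputable def c0L (P : Place k K) (φ : K →ₐ[k] F⸨X⸩) : P.O →ₗ[k] F :=
  cf k F 0 ∘ₗ phiL φ ∘ₗ (IsScalarTower.toAlgHom k P.O K).toLinearMap

theorem c0L_apply (P : Place k K) (φ : K →ₐ[k] F⸨X⸩) (f : P.O) :
    c0L P φ f = (φ (f : K)).coeff 0 := rfl

theorem finiteDimensional_coeffField (hK : IsFunctionField k K) {P : Place k K}
    {φ : K →ₐ[k] F⸨X⸩} (hφ : LocRes.IsExpansionAt P.1 φ) : FiniteDimensional k F := by
  haveI := finiteDimensional_residueField P hK
  have hsurj : Function.Surjective (c0L P φ) := by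
    intro a
    obtain ⟨f, hf, hfa⟩ := hφ.2.1 a
    exact ⟨⟨f, (mem_O_iff P f).2 hf⟩, hfa⟩
  have hker : LinearMap.ker (resAlg P).toLinearMap ≤ LinearMap.ker (c0L P φ) := by
    intro f hf
    rw [LinearMap.mem_ker] at hf ⊢
    have h1 : v P (f : K) < 1 := (resAlg_eq_zero_iff P f).1 hf
    rw [c0L_apply]
    have h2 : Valued.v (φ (f : K)) ≤ WithZero.exp (-(1 : ℤ)) := by
      rw [hφ.1]
      have : v P (f : K) < WithZero.exp (0 : ℤ) := by rwa [WithZero.exp_zero]
      by_cases h0 : v P (f : K) = 0
      · change P.1 (f : K) = 0 at h0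
        rw [h0]; exact zero_le'
      · change P.1 (f : K) ≠ 0 at h0
        change P.1 (f : K) < WithZero.exp (0 : ℤ) at this
        rw [← WithZero.exp_log h0, WithZero.exp_lt_exp] at this
        rw [← WithZero.exp_log h0, WithZero.exp_le_exp]
        omega
    exact (mem_Fil_iff_val (k := k)).2 h2 0 (by norm_num)
  have e1 := (resAlg P).toLinearMap.quotKerEquivOfSurjective (resAlg_surjective P)
  haveI : FiniteDimensional k (P.O ⧸ LinearMap.ker (resAlg P).toLinearMap) :=
    @Module.Finite.equiv _ _ _ _ _ _ _ _ (finiteDimensional_residueField P hK) e1.symm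
  refine Module.Finite.of_surjective ((LinearMap.ker (resAlg P).toLinearMap).liftQ (c0L P φ) hker) ?_
  rw [← LinearMap.range_eq_top, Submodule.range_liftQ, LinearMap.range_eq_top]
  exact hsurj

end CoeffField

end Groth.Agent.Lib.Helper2.Tate
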