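import Mathlib
import Groth.Prelude.Def_LocRes
import Groth.Agent.Lib.Helper2.Tate.RH1
import Groth.Agent.Lib.Helper2.Tate.DE1
import Groth.Agent.Lib.Helper2.FunFld.CF2
import Groth.Agent.Lib.Helper2.FunFld.Conorm

set_option autoImplicit false
open LaurentSeries HahnSeries KaehlerDifferential FunFld
open Groth.Agent.Lib.Helper2.FF

namespace Groth.Agent.Lib.Helper2.Tate

universe u v w

section Kaehler

variable {k k' K K' : Type*} [Field k] [Field k'] [Field K] [Field K']
  [Algebra k k'] [Algebra k K] [Algebra K K'] [Algebra k' K'] [Algebra k K']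
  [IsScalarTower k k' K'] [IsScalarTower k K K']

/-- differentials of a finite separable extension, over a bigger constant field, are still
one-dimensional as soon as they are nonzero -/
theorem finrank_kaehler_ext [Algebra.IsSeparable K K']
    (hfr : Module.finrank K (Ω[K⁄k]) = 1) {x' : K'} (hx' : D k' K' x' ≠ 0) :
    Module.finrank K' (Ω[K'⁄k']) = 1 := by
  haveI : Algebra.FormallyEtale K K' := Algebra.FormallyEtale.of_isSeparable K K'
  have e1 := KaehlerDifferential.tensorKaehlerEquivOfFormallyEtale k K K'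
  have h1 : Module.finrank K' (Ω[K'⁄k]) = 1 := by
    rw [← e1.finrank_eq, Module.finrank_baseChange, hfr]
  have hsurj := KaehlerDifferential.map_surjective k k' K'
  have hx0 : D k K' x' ≠ 0 := by
    intro h0
    apply hx'
    have h2 := KaehlerDifferential.map_D k k' K' K' x'
    rw [h0, map_zero] at h2
    exact h2.symm
  rw [finrank_eq_one_iff_of_nonzero' _ hx']
  intro ω
  obtain ⟨ω₀, rfl⟩ := hsurj ω
  obtain ⟨c, rfl⟩ := (finrank_eq_one_iff_of_nonzero' _ hx0).1 h1 ω₀
  refine ⟨c, ?_⟩
  rw [map_smul, KaehlerDifferential.map_D]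
  rfl

end Kaehler

section DegDown

variable {k k' K' : Type*} [Field k] [Field k'] [Field K']
  [Algebra k k'] [Algebra k' K'] [Algebra k K'] [IsScalarTower k k' K']

theorem deg_eq_finsum (D : Divisor k K') : D.deg = ∑ᶠ R, D R * (R.deg : ℤ) := by
  rw [deg_def, Finsupp.sum]
  rw [finsum_eq_sum_of_support_subset]
  intro R hR
  rw [Function.mem_support] at hR
  rw [Finset.mem_coe, Finsupp.mem_support_iff]
  intro h0
  apply hR
  rw [h0, zero_mul]

theorem deg_eq_finsum_down [FiniteDimensional k k'] (D : Divisor k K') :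
    D.deg = Module.finrank k k' * ∑ᶠ Q : Place k' K', D (downPlace Q) * (Q.deg : ℤ) := by
  rw [deg_eq_finsum, mul_finsum, ← finsum_comp_equiv (placeEquiv (k := k) (k' := k') (K' := K')).symm]
  refine finsum_congr fun Q => ?_
  change D (downPlace Q) * ((downPlace (k := k) Q).deg : ℤ) = _
  rw [deg_eq_mul_deg_upPlace (k' := k') (downPlace (k := k) Q), upPlace_downPlace]
  push_cast
  ring

end DegDown

end Groth.Agent.Lib.Helper2.Tate
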