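import Mathlib
import Groth.Agent.Lib.Helper2.Tate.T6a

set_option autoImplicit false
open LinearMap

namespace Groth.Agent.Lib.Helper2.Tate

variable {k : Type*} [Field k] {V : Type*} [AddCommGroup V] [Module k V]
variable {V₁ : Type*} [AddCommGroup V₁] [Module k V₁]

section MatrixUnit

variable {ι : Type*} [Fintype ι] [DecidableEq ι]
  (inc : ι → V₁ →ₗ[k] V) (pr : ι → V →ₗ[k] V₁)
  (hpi : ∀ i j v, pr i (inc j v) = if i = j then v else 0)
  (hsum : ∀ v, ∑ i, inc i (pr i v) = v)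
  (A₁ : Submodule k V₁) (A : Submodule k V) (hA : ∀ v, v ∈ A ↔ ∀ i, pr i v ∈ A₁)

include hpi hA in
theorem mem_EE_matrix_unit {h₁ : Module.End k V₁} (hh₁ : h₁ ∈ EE A₁) (i j : ι) :
    (inc i ∘ₗ h₁ ∘ₗ pr j : Module.End k V) ∈ EE A := by
  obtain ⟨W, hW, hle⟩ := hh₁
  haveI := hW
  refine ⟨W.map (inc i), inferInstance, ?_⟩
  rintro _ ⟨a, ha, rfl⟩
  have h1 : h₁ (pr j a) ∈ A₁ ⊔ W := hle ⟨pr j a, (hA a).1 ha j, rfl⟩
  obtain ⟨x, hx, w, hw, hxw⟩ := Submodule.mem_sup.1 h1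
  change inc i (h₁ (pr j a)) ∈ _
  rw [← hxw, map_add]
  refine Submodule.add_mem_sup ?_ (Submodule.mem_map_of_mem hw)
  rw [hA]
  intro l
  rw [hpi]
  split_ifs
  · exact hx
  · exact zero_mem _

include hpi hsum hA in
theorem res_matrix_unit {f₁ g₁ : Module.End k V₁} {g : Module.End k V}
    (hf₁ : f₁ ∈ EE A₁) (hg₁ : g₁ ∈ EE A₁) (hfg : f₁ * g₁ = g₁ * f₁)
    (hgi : ∀ i v, g (inc i v) = inc i (g₁ v)) (hgp : ∀ i v, pr i (g v) = g₁ (pr i v))
    (i j : ι) :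
    g ∈ EE A ∧ res A (inc i ∘ₗ f₁ ∘ₗ pr j) g = if i = j then res A₁ f₁ g₁ else 0 := by
  have hgsum : g = ∑ l, (inc l ∘ₗ g₁ ∘ₗ pr l : Module.End k V) := by
    apply LinearMap.ext
    intro v
    rw [LinearMap.sum_apply]
    conv_lhs => rw [← hsum v]
    rw [map_sum]
    exact Finset.sum_congr rfl fun l _ => hgi l _
  have hgE : g ∈ EE A := by
    rw [hgsum]
    exact (EE A).sum_mem fun l _ => mem_EE_matrix_unit inc pr hpi A₁ A hA hg₁ l l
  refine ⟨hgE, ?_⟩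
  have hNE : (inc i ∘ₗ f₁ ∘ₗ pr j : Module.End k V) ∈ EE A :=
    mem_EE_matrix_unit inc pr hpi A₁ A hA hf₁ i j
  obtain ⟨π₁, hπ₁⟩ := exists_isProj A₁
  set π : Module.End k V := ∑ l, (inc l ∘ₗ π₁ ∘ₗ pr l : Module.End k V) with hπdef
  have hπapp : ∀ v, π v = ∑ l, inc l (π₁ (pr l v)) := by
    intro v
    rw [hπdef, LinearMap.sum_apply]
    rfl
  have hpπ : ∀ l v, pr l (π v) = π₁ (pr l v) := by
    intro l v
    rw [hπapp, map_sum]
    simp only [hpi]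
    rw [Finset.sum_ite_eq Finset.univ l, if_pos (Finset.mem_univ l)]
  have hπi : ∀ l v, π (inc l v) = inc l (π₁ v) := by
    intro l v
    rw [hπapp, Finset.sum_eq_single l]
    · rw [hpi, if_pos rfl]
    · intro m _ hml
      rw [hpi, if_neg hml, map_zero, map_zero]
    · intro h; exact absurd (Finset.mem_univ l) h
  have hπ : IsProj A π := by
    refine ⟨fun v => ?_, fun a ha => ?_⟩
    · rw [hA]
      intro l
      rw [hpπ]
      exact hπ₁.map_mem _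
    · rw [hπapp]
      conv_rhs => rw [← hsum a]
      refine Finset.sum_congr rfl fun l _ => ?_
      rw [hπ₁.map_id _ ((hA a).1 ha l)]
  have hcomm : (inc i ∘ₗ f₁ ∘ₗ pr j : Module.End k V) * g = g * (inc i ∘ₗ f₁ ∘ₗ pr j) := by
    apply LinearMap.ext
    intro v
    change inc i (f₁ (pr j (g v))) = g (inc i (f₁ (pr j v)))
    rw [hgp, hgi]
    have := LinearMap.congr_fun hfg (pr j v)
    change f₁ (g₁ (pr j v)) = g₁ (f₁ (pr j v)) at this
    rw [this]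
  rw [res_eq_of_isProj hπ hNE hgE hcomm]
  set θ₁ : Module.End k V₁ := (π₁ * f₁) * (π₁ * g₁) - (π₁ * g₁) * (π₁ * f₁) with hθ₁
  have hθ₁E : θ₁ ∈ E0 A₁ := comm_mem_E0 hf₁ hg₁ hfg (adm_proj hπ₁ hf₁ hg₁)
  have hop : (π * (inc i ∘ₗ f₁ ∘ₗ pr j : Module.End k V)) * (π * g) -
      (π * g) * (π * (inc i ∘ₗ f₁ ∘ₗ pr j)) = inc i ∘ₗ (θ₁ ∘ₗ pr j) := by
    apply LinearMap.ext
    intro v
    change π (inc i (f₁ (pr j (π (g v))))) - π (g (π (inc i (f₁ (pr j v))))) = inc i (θ₁ (pr j v))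
    rw [hπi, hpπ, hgp, hπi, hgi, hπi]
    simp only [hθ₁, LinearMap.sub_apply, Module.End.mul_apply, map_sub]
  rw [hop]
  by_cases hij : i = j
  · subst hij
    rw [if_pos rfl, res_eq_of_isProj hπ₁ hf₁ hg₁ hfg]
    have hback : (θ₁ ∘ₗ pr i) ∘ₗ inc i = θ₁ := by
      apply LinearMap.ext
      intro w
      change θ₁ (pr i (inc i w)) = θ₁ w
      rw [hpi, if_pos rfl]
    have hfp : IsFinPot ((θ₁ ∘ₗ pr i) ∘ₗ inc i : Module.End k V₁) := by
      rw [hback]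
      exact isFinPot_of_mem_E0 hθ₁E
    rw [(fpTrace_comp_comm (θ₁ ∘ₗ pr i) (inc i) hfp).2, hback]
  · rw [if_neg hij]
    apply fpTrace_eq_zero_of_pow_eq_zero _ 2
    rw [pow_two]
    apply LinearMap.ext
    intro v
    change inc i (θ₁ (pr j (inc i (θ₁ (pr j v))))) = 0
    rw [hpi, if_neg (Ne.symm hij), map_zero, map_zero]

end MatrixUnit

end Groth.Agent.Lib.Helper2.Tate
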