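import Mathlib
import Groth.Agent.Lib.Helper2.Tate.T10a
import Groth.Agent.Lib.Helper2.Tate.T8

set_option autoImplicit false
open LinearMap

namespace Groth.Agent.Lib.Helper2.Tate

section Basis

variable {k K K' : Type*} [Field k] [Field K] [Field K'] [Algebra k K] [Algebra K K']
  [Algebra k K'] [IsScalarTower k K K']
variable {ι : Type*} [Fintype ι] [DecidableEq ι] (b : Module.Basis ι K K')

theorem mulK_add (u v : K) : mulK k (u + v) = mulK k u + mulK k v := by
  apply LinearMap.ext; intro x; simp [add_mul]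

theorem mulK_sum {κ : Type*} (s : Finset κ) (u : κ → K) :
    mulK k (∑ i ∈ s, u i) = ∑ i ∈ s, mulK k (u i) := by
  apply LinearMap.ext; intro x
  simp [Finset.sum_mul]

/-- Residues on a finite extension with respect to a lattice spanned by a basis are residues of
the trace. -/
theorem res_trace_basis (A₁ : Submodule k K) (hE : ∀ z : K, mulK k z ∈ EE A₁)
    (A : Submodule k K') (hA : ∀ w, w ∈ A ↔ ∀ i, b.repr w i ∈ A₁) (y : K') (x : K) :
    mulK k y ∈ EE A ∧ mulK k (algebraMap K K' x) ∈ EE A ∧
    res A (mulK k y) (mulK k (algebraMap K K' x)) =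
      res A₁ (mulK k (Algebra.trace K K' y)) (mulK k x) := by
  set inc : ι → K →ₗ[k] K' := fun i => (LinearMap.toSpanSingleton K K' (b i)).restrictScalars k
    with hinc
  set pr : ι → K' →ₗ[k] K := fun i => (b.coord i).restrictScalars k with hpr
  have hinc_app : ∀ i z, inc i z = z • b i := fun i z => rfl
  have hpr_app : ∀ i w, pr i w = b.repr w i := fun i w => rfl
  have hpi : ∀ i j v, pr i (inc j v) = if i = j then v else 0 := by
    intro i j v
    rw [hinc_app, hpr_app, map_smul, Finsupp.smul_apply, b.repr_self_apply, smul_eq_mul]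
    by_cases h : i = j
    · rw [if_pos h, if_pos h.symm, mul_one]
    · rw [if_neg h, if_neg (Ne.symm h), mul_zero]
  have hsum : ∀ v, ∑ i, inc i (pr i v) = v := fun v => b.sum_repr v
  have hA' : ∀ v, v ∈ A ↔ ∀ i, pr i v ∈ A₁ := hA
  set M := Algebra.leftMulMatrix b y with hM
  set g : Module.End k K' := mulK k (algebraMap K K' x) with hg
  have hgi : ∀ i v, g (inc i v) = inc i (mulK k x v) := by
    intro i v
    change algebraMap K K' x * (v • b i) = (x * v) • b i
    rw [← Algebra.smul_def, smul_smul]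
  have hgp : ∀ i v, pr i (g v) = mulK k x (pr i v) := by
    intro i v
    change b.repr (algebraMap K K' x * v) i = x * b.repr v i
    rw [← Algebra.smul_def, map_smul, Finsupp.smul_apply, smul_eq_mul]
  have hydec : mulK k y = ∑ i, ∑ j, (inc i ∘ₗ mulK k (M i j) ∘ₗ pr j : Module.End k K') := by
    apply LinearMap.ext
    intro w
    rw [LinearMap.sum_apply]
    simp only [LinearMap.sum_apply]
    change y * w = ∑ i, ∑ j, (M i j * b.repr w j) • b i
    conv_lhs => rw [← b.sum_repr (y * w)]
    refine Finset.sum_congr rfl fun i _ => ?_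
    rw [← Finset.sum_smul]
    congr 1
    rw [← Algebra.leftMulMatrix_mulVec_repr b y w]
    rfl
  have hunit : ∀ i j, g ∈ EE A ∧ res A (inc i ∘ₗ mulK k (M i j) ∘ₗ pr j) g =
      if i = j then res A₁ (mulK k (M i j)) (mulK k x) else 0 := fun i j =>
    res_matrix_unit inc pr hpi hsum A₁ A hA' (hE (M i j)) (hE x) (mulK_comm _ _) hgi hgp i j
  have hNE : ∀ i j, (inc i ∘ₗ mulK k (M i j) ∘ₗ pr j : Module.End k K') ∈ EE A := fun i j =>
    mem_EE_matrix_unit inc pr hpi A₁ A hA' (hE (M i j)) i j
  have hNcomm : ∀ i j, (inc i ∘ₗ mulK k (M i j) ∘ₗ pr j : Module.End k K') * g =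
      g * (inc i ∘ₗ mulK k (M i j) ∘ₗ pr j) := by
    intro i j
    apply LinearMap.ext
    intro v
    change inc i (mulK k (M i j) (pr j (g v))) = g (inc i (mulK k (M i j) (pr j v)))
    rw [hgp, hgi]
    congr 1
    simp only [mulK_apply]
    ring
  obtain ⟨i₀⟩ : Nonempty ι := by
    by_contra h
    rw [not_nonempty_iff] at h
    have : (1 : K') = 0 := by
      rw [← b.sum_repr 1]
      exact Finset.sum_of_isEmpty _
    exact one_ne_zero this
  have hgE : g ∈ EE A := (hunit i₀ i₀).1
  have hyE : mulK k y ∈ EE A := by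
    rw [hydec]
    exact (EE A).sum_mem fun i _ => (EE A).sum_mem fun j _ => hNE i j
  refine ⟨hyE, hgE, ?_⟩
  conv_lhs => rw [hydec]
  rw [res_sum_left Finset.univ _ (fun i _ => (EE A).sum_mem fun j _ => hNE i j) hgE
    (fun i _ => by
      rw [Finset.sum_mul, Finset.mul_sum]
      exact Finset.sum_congr rfl fun j _ => hNcomm i j)]
  have h1 : ∀ i, res A (∑ j, (inc i ∘ₗ mulK k (M i j) ∘ₗ pr j : Module.End k K')) g =
      res A₁ (mulK k (M i i)) (mulK k x) := by
    intro i
    rw [res_sum_left Finset.univ _ (fun j _ => hNE i j) hgE (fun j _ => hNcomm i j)]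
    simp only [(hunit i _).2]
    rw [Finset.sum_ite_eq Finset.univ i, if_pos (Finset.mem_univ i)]
  simp only [h1]
  rw [Algebra.trace_eq_matrix_trace b y, Matrix.trace, mulK_sum,
    res_sum_left Finset.univ _ (fun i _ => hE _) (hE x) (fun i _ => mulK_comm _ _)]
  rfl

end Basis

end Groth.Agent.Lib.Helper2.Tate
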