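import Mathlib
import Groth.Agent.Lib.Helper2.Tate.T9
import Groth.Agent.Lib.Helper2.FunFld.WeakApprox

set_option autoImplicit false
open LinearMap FunFld
open Groth.Agent.Lib.Helper2.FF

namespace Groth.Agent.Lib.Helper2.Tate

section Semilocal

variable {k K' : Type*} [Field k] [Field K'] [Algebra k K']

/-- the semilocal ring of a finite set of places, as a `k`-submodule -/
def OPs (Qs : Finset (Place k K')) : Submodule k K' where
  carrier := {w | ∀ Q ∈ Qs, Q.1 w ≤ 1}
  add_mem' {x y} hx hy Q hQ := (OP Q).add_mem (hx Q hQ) (hy Q hQ)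
  zero_mem' Q _ := (OP Q).zero_mem
  smul_mem' c x hx Q hQ := (OP Q).smul_mem c (hx Q hQ)

theorem mem_OPs {Qs : Finset (Place k K')} {w : K'} : w ∈ OPs Qs ↔ ∀ Q ∈ Qs, Q.1 w ≤ 1 := Iff.rfl

theorem res_semilocal (Qs : Finset (Place k K'))
    (hE : ∀ Q ∈ Qs, ∀ z : K', mulK k z ∈ EE (OP Q)) (y x : K') :
    mulK k y ∈ EE (OPs Qs) ∧ mulK k x ∈ EE (OPs Qs) ∧
    res (OPs Qs) (mulK k y) (mulK k x) = ∑ Q ∈ Qs, res (OP Q) (mulK k y) (mulK k x) := by
  classical
  rcases Qs.eq_empty_or_nonempty with hemp | ⟨Q₀, hQ₀⟩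
  · subst hemp
    have hstab : ∀ z : K', ∀ a ∈ OPs (∅ : Finset (Place k K')),
        mulK k z a ∈ OPs (∅ : Finset (Place k K')) :=
      fun z a _ Q hQ => absurd hQ (Finset.notMem_empty Q)
    refine ⟨mem_EE_of_stable (hstab y), mem_EE_of_stable (hstab x), ?_⟩
    rw [Finset.sum_empty]
    exact res_eq_zero_of_stable (hstab y) (hstab x) (mulK_comm y x)
  set I := {Q : Place k K' // Q ∈ Qs} with hI
  set Vs : Submodule k (I → K') := ⊤ with hVs
  have hsingle : ∀ (i : I) (v : K'), Pi.single i v ∈ Vs := fun _ _ => Submodule.mem_top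
  have htop : ∀ z : K', ∀ a ∈ Vs, (fun i : I => mulK k z (a i)) ∈ Vs := fun _ _ _ => Submodule.mem_top
  obtain ⟨hfE, hgE, hres⟩ := res_cw Vs hsingle (fun Q : I => OP Q.1)
    (fun _ => mulK k y) (fun _ => mulK k x) (htop y) (htop x) (fun _ => mulK_comm y x)
    (fun Q => hE Q.1 Q.2 y) (fun Q => hE Q.1 Q.2 x) Finset.univ
    (fun Q hQ => absurd (Finset.mem_univ Q) hQ) (fun Q hQ => absurd (Finset.mem_univ Q) hQ)
  set ι' : K' →ₗ[k] Vs := (LinearMap.pi (fun _ : I => LinearMap.id)).codRestrict Vs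
    (fun _ => Submodule.mem_top) with hι'
  have hι'app : ∀ (w : K') (Q : I), (ι' w).1 Q = w := fun _ _ => rfl
  have hinj : Function.Injective ι' := by
    intro a b hab
    have := congrArg (fun z : Vs => z.1 ⟨Q₀, hQ₀⟩) hab
    simpa [hι'app] using this
  set AVs := AV Vs (fun Q : I => OP Q.1) with hAVs
  have hcomap : AVs.comap ι' = OPs Qs := by
    ext w
    rw [Submodule.mem_comap, mem_OPs]
    constructor
    · intro h Q hQ
      exact h ⟨Q, hQ⟩
    · intro h Q
      exact h Q.1 Q.2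
  have hsup : range ι' ⊔ AVs = ⊤ := by
    rw [eq_top_iff]
    intro z _
    obtain ⟨w, hw⟩ := weak_approx (fun Q : I => Q.1) Subtype.val_injective z.1 (fun _ => 0)
    have : z = ι' w + (z - ι' w) := by abel
    rw [this]
    refine Submodule.add_mem_sup ⟨w, rfl⟩ ?_
    intro Q
    change Q.1.1 (z.1 Q - w) ≤ 1
    rw [Valuation.map_sub_swap]
    have := hw Q
    rw [WithZero.exp_zero] at this
    exact this.le
  have hint : ∀ (z w : K'), ι' (mulK k z w) = cw Vs (fun _ => mulK k z) (htop z) (ι' w) := by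
    intro z w
    apply Subtype.ext
    funext Q
    rfl
  have hcomm : cw Vs (fun _ => mulK k y) (htop y) * cw Vs (fun _ => mulK k x) (htop x) =
      cw Vs (fun _ => mulK k x) (htop x) * cw Vs (fun _ => mulK k y) (htop y) := by
    apply LinearMap.ext
    intro a
    apply Subtype.ext
    funext Q
    change y * (x * a.1 Q) = x * (y * a.1 Q)
    ring
  rw [← hcomap]
  refine ⟨mem_EE_comap ι' AVs hsup (hint y) hfE, mem_EE_comap ι' AVs hsup (hint x) hgE, ?_⟩
  rw [res_comap ι' hinj AVs hsup (hint y) (hint x) hfE hgE hcomm, hres]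
  exact Finset.sum_coe_sort Qs (fun Q => res (OP Q) (mulK k y) (mulK k x))

end Semilocal

end Groth.Agent.Lib.Helper2.Tate
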