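import Mathlib
import Groth.Prelude.Def_LocRes
import Groth.Agent.Lib.Helper2.Tate.T10c
import Groth.Agent.Lib.Helper2.Tate.T10b
import Groth.Agent.Lib.Helper2.Tate.T8
import Groth.Agent.Lib.Helper2.FunFld.Filtration
import Groth.Agent.Lib.Helper2.FunFld.IntCl

set_option autoImplicit false
open LaurentSeries HahnSeries KaehlerDifferential FunFld
open Groth.Agent.Lib.Helper2.FF Groth.Agent.Lib.Helper2.RelDim

namespace Groth.Agent.Lib.Helper2.Tate

universe u v w

section Gen

variable {k : Type*} [Field k] {V : Type*} [AddCommGroup V] [Module k V]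

/-- finite relative index gives `≺` -/
theorem almostLE_of_finIdx {A B : Submodule k V} (h : FinIdx A B) : AlmostLE B A := by
  haveI : Module.Finite k (RQ A B) := h
  obtain ⟨s, hs⟩ := (Module.finite_def (R := k) (M := RQ A B)).1 inferInstance
  have hsurj := Submodule.mkQ_surjective (A.submoduleOf B)
  choose g hg using hsurj
  classical
  set t : Finset B := s.image g with ht
  set W : Submodule k V := (Submodule.span k (t : Set B)).map B.subtype with hW
  refine ⟨W, ?_, ?_⟩
  · rw [hW]
    haveI : FiniteDimensional k (Submodule.span k (t : Set B)) :=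
      FiniteDimensional.span_finset k t
    infer_instance
  · intro b hb
    have h1 : (Submodule.span k (t : Set B)).map (A.submoduleOf B).mkQ = ⊤ := by
      rw [Submodule.map_span, eq_top_iff, ← hs, Submodule.span_le]
      intro q hq
      apply Submodule.subset_span
      refine ⟨g q, ?_, hg q⟩
      rw [ht, Finset.coe_image]
      exact ⟨q, hq, rfl⟩
    have h2 : A.submoduleOf B ⊔ Submodule.span k (t : Set B) = ⊤ :=
      (Submodule.map_mkQ_eq_top _ _).1 h1
    have h3 : (⟨b, hb⟩ : B) ∈ A.submoduleOf B ⊔ Submodule.span k (t : Set B) := by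
      rw [h2]; trivial
    obtain ⟨a, ha, w, hw, hsum⟩ := Submodule.mem_sup.1 h3
    have : b = (a : V) + (w : V) := by
      have := congrArg Subtype.val hsum
      simpa using this.symm
    rw [this]
    exact Submodule.add_mem_sup ha ⟨w, hw, rfl⟩

end Gen

section Places

variable {k K : Type*} [Field k] [Field K] [Algebra k K]

theorem OP_eq_ball (P : Place k K) : OP P = ball P 0 := by
  ext z
  rw [mem_OP, mem_ball, WithZero.exp_zero]

/-- every multiplication is in the `E`-space of the valuation ring of a place with finite residue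
field -/
theorem mulK_mem_EE_OP (P : Place k K) [FiniteDimensional k (IsLocalRing.ResidueField P.O)] (z : K) :
    mulK k z ∈ EE (OP P) := by
  rw [mem_EE]
  by_cases hz : z = 0
  · subst hz
    refine AlmostLE.of_le ?_
    rintro _ ⟨a, -, rfl⟩
    simp
  have hz0 : P.1 z ≠ 0 := (Valuation.ne_zero_iff _).2 hz
  set m : ℤ := max 0 (WithZero.log (P.1 z)) with hm
  have h1 : (OP P).map (mulK k z) ≤ ball P m := by
    rintro _ ⟨a, ha, rfl⟩
    rw [mem_ball, mulK_apply]
    change P.1 (z * a) ≤ _
    rw [map_mul]
    have ha' : P.1 a ≤ 1 := ha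
    calc P.1 z * P.1 a ≤ P.1 z * 1 := mul_le_mul' le_rfl ha'
      _ = P.1 z := mul_one _
      _ = WithZero.exp (WithZero.log (P.1 z)) := (WithZero.exp_log hz0).symm
      _ ≤ WithZero.exp m := WithZero.exp_le_exp.2 (le_max_right _ _)
  refine AlmostLE.mono_left h1 ?_
  rw [OP_eq_ball]
  exact almostLE_of_finIdx (finIdx_ball P (le_max_left _ _))

end Places

section Trace

variable {k K K' : Type*} [Field k] [Field K] [Field K'] [Algebra k K] [Algebra K K']
  [Algebra k K'] [IsScalarTower k K K']

/-- the trace formula for abstract residues at the places over `P` (no expansions needed) -/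
theorem res_trace_places [FiniteDimensional K K'] (hK : IsFunctionField k K) (P : Place k K)
    (Qs : Finset (Place k K')) (hQs : ∀ Q, Q ∈ Qs ↔ IsOver Q P) (y : K') (x : K) :
    res (OP P) (mulK k (Algebra.trace K K' y)) (mulK k x) =
      ∑ Q ∈ Qs, res (OP Q) (mulK k y) (mulK k (algebraMap K K' x)) := by
  classical
  haveI := finiteDimensional_residueField P hK
  have hE₁ : ∀ z : K, mulK k z ∈ EE (OP P) := fun z => mulK_mem_EE_OP P z
  have hE₂ : ∀ Q ∈ Qs, ∀ z : K', mulK k z ∈ EE (OP Q) := by
    intro Q _ z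
    haveI := finiteDimensional_residueField_w (isFFw_of_finite (K' := K') hK) Q
    exact mulK_mem_EE_OP Q z
  obtain ⟨z, hli, hzint, hrepr, -⟩ := exists_integral_basis (K' := K') P hK
  haveI : Nonempty (Fin (Module.finrank K K')) := ⟨⟨0, Module.finrank_pos⟩⟩
  set b : Module.Basis (Fin (Module.finrank K K')) K K' :=
    basisOfLinearIndependentOfCardEqFinrank hli (by simp) with hb
  have hbz : ∀ i, b i = z i := fun i => by
    rw [hb, coe_basisOfLinearIndependentOfCardEqFinrank]
  have hover : ∀ Q ∈ Qs, ∀ a : K, P.1 a ≤ 1 → Q.1 (algebraMap K K' a) ≤ 1 := by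
    intro Q hQ a ha
    obtain ⟨e, he⟩ := (hQs Q).1 hQ
    rw [he]
    exact pow_le_one' ha e
  have hA : ∀ w, w ∈ OPs Qs ↔ ∀ i, b.repr w i ∈ OP P := by
    intro w
    constructor
    · intro hw
      have hw' : ∀ i : OverP K' P, v i.1 w ≤ 1 := fun i => hw i.1 ((hQs i.1).2 i.2)
      obtain ⟨a, ha, hwa⟩ := hrepr w hw'
      have : ∀ i, b.repr w i = a i := by
        intro i
        rw [hwa]
        have h1 : ∑ j, a j • z j = ∑ j, a j • b j := by
          refine Finset.sum_congr rfl fun j _ => ?_
          rw [hbz]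
        rw [h1, b.repr_sum_self]
      intro i
      rw [this]
      exact ha i
    · intro hw Q hQ
      rw [← b.sum_repr w]
      apply Valuation.map_sum_le
      intro i _
      rw [Algebra.smul_def, map_mul, hbz]
      have h1 := hover Q hQ _ (hw i)
      have h2 : Q.1 (z i) ≤ 1 := hzint i ⟨Q, (hQs Q).1 hQ⟩
      exact (mul_le_mul' h1 h2).trans_eq (one_mul _)
  obtain ⟨-, -, h5⟩ := res_trace_basis b (OP P) hE₁ (OPs Qs) hA y x
  obtain ⟨-, -, h6⟩ := res_semilocal Qs hE₂ y (algebraMap K K' x)
  rw [← h5, h6]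

end Trace

section Loc

variable {k : Type*} {K : Type*} {F : Type*} [Field k] [Field K] [Field F] [Algebra k K]
  [Algebra k F] [FiniteDimensional k F]

theorem res_OP_eq_locRes {P : Place k K} {φ : K →ₐ[k] F⸨X⸩} (hφ : LocRes.IsExpansionAt P.1 φ)
    (u v : K) : res (OP P) (mulK k u) (mulK k v) = LocRes.locRes φ u v := by
  have hOP : (Fil k (F := F) 0).comap (phiL φ) = OP P := by
    ext z
    rw [comap_phiL_Fil hφ]
    rfl
  rw [← hOP]
  exact (res_eq_locRes hφ u v).2

end Loc

end Groth.Agent.Lib.Helper2.Tate
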