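import Mathlib
import Groth.Prelude.Def_LocRes
import Groth.Agent.Lib.Helper2.Tate.TD1
import Groth.Agent.Lib.Helper2.Tate.RH2
import Groth.Agent.Lib.Helper2.Tate.DE2
import Groth.Agent.Lib.Helper2.Tate.GD2
import Groth.Agent.Lib.Helper2.FunFld.WeakApprox

set_option autoImplicit false
open LaurentSeries HahnSeries KaehlerDifferential FunFld
open Groth.Agent.Lib.Helper2.FF

namespace Groth.Agent.Lib.Helper2.Tate

universe u v v' w

section CoeffField'

variable {k : Type u} {K : Type v} {F : Type w} [Field k] [Field K] [Algebra k K] [Field F]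
  [Algebra k F]

theorem finiteDimensional_coeffField' {P : Place k K}
    [hfd : FiniteDimensional k (IsLocalRing.ResidueField P.O)]
    {φ : K →ₐ[k] F⸨X⸩} (hφ : LocRes.IsExpansionAt P.1 φ) : FiniteDimensional k F := by
  have hsurj : Function.Surjective (c0L P φ) := by
    intro a
    obtain ⟨f, hf, hfa⟩ := hφ.2.1 a
    exact ⟨⟨f, (mem_O_iff P f).2 hf⟩, hfa⟩
  have hker : LinearMap.ker (resAlg P).toLinearMap ≤ LinearMap.ker (c0L P φ) := by
    intro f hf
    rw [LinearMap.mem_ker] at hf ⊢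
    have h1 : v P (f : K) < 1 := (resAlg_eq_zero_iff P f).1 hf
    rw [c0L_apply]
    have h2 : Valued.v (φ (f : K)) ≤ WithZero.exp (-(1 : ℤ)) := by
      rw [hφ.1]
      have : v P (f : K) < WithZero.exp (0 : ℤ) := by rwa [WithZero.exp_zero]
      by_cases h0 : v P (f : K) = 0
      · change P.1 (f : K) = 0 at h0
        rw [h0]; exact zero_le'
      · change P.1 (f : K) ≠ 0 at h0
        change P.1 (f : K) < WithZero.exp (0 : ℤ) at this
        rw [← WithZero.exp_log h0, WithZero.exp_lt_exp] at this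
        rw [← WithZero.exp_log h0, WithZero.exp_le_exp]
        omega
    exact (mem_Fil_iff_val (k := k)).2 h2 0 (by norm_num)
  have e1 := (resAlg P).toLinearMap.quotKerEquivOfSurjective (resAlg_surjective P)
  haveI : FiniteDimensional k (P.O ⧸ LinearMap.ker (resAlg P).toLinearMap) :=
    @Module.Finite.equiv _ _ _ _ _ _ _ _ hfd e1.symm
  refine Module.Finite.of_surjective ((LinearMap.ker (resAlg P).toLinearMap).liftQ (c0L P φ) hker) ?_
  rw [← LinearMap.range_eq_top, Submodule.range_liftQ, LinearMap.range_eq_top]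
  exact hsurj

theorem ordDiff_eq_add {w : Valuation K (WithZero (Multiplicative ℤ))} {φ : K →ₐ[k] F⸨X⸩}
    (hφ : LocRes.IsExpansionAt w φ) {u v : K} (hu : u ≠ 0) (hv : LocRes.D F (φ v) ≠ 0) :
    LocRes.ordDiff φ u v = - WithZero.log (w u) + LocRes.ordDiff φ 1 v := by
  rw [ordDiff_one_eq]
  unfold LocRes.ordDiff LocRes.vDiff
  rw [map_mul, hφ.1, WithZero.log_mul ((Valuation.ne_zero_iff _).2 hu)
    ((Valuation.ne_zero_iff _).2 hv)]
  ring

theorem D_ne_zero_of_D_phi_ne_zero (φ : K →ₐ[k] F⸨X⸩) {v : K} (hv : LocRes.D F (φ v) ≠ 0) :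
    D k K v ≠ 0 := by
  intro h0
  apply hv
  have := D_phi_eq_mul φ (f := v) (s := 0) (c := 0) (by rw [h0, zero_smul])
  rw [this, map_zero, zero_mul]

end CoeffField'

section Dual

variable {k : Type u} {K : Type v} {K' : Type v'} {F F' : Type w} [Field k] [Field K] [Field K'] [Field F]
  [Field F'] [Algebra k K] [Algebra K K'] [Algebra k K'] [IsScalarTower k K K'] [Algebra k F]
  [Algebra k F'] [FiniteDimensional K K'] [FiniteDimensional k F] [FiniteDimensional k F']
variable {P : Place k K} {Q : Place k K'} {e : ℕ}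
variable {φ : K →ₐ[k] F⸨X⸩} {ψ : K' →ₐ[k] F'⸨X⸩}
variable (hK : IsFunctionField k K) (he : IsOverWith Q P e)
  (hφ : LocRes.IsExpansionAt P.1 φ) (hψ : LocRes.IsExpansionAt Q.1 ψ)
  (hfr : Module.finrank K (Ω[K⁄k]) = 1) (hfr' : Module.finrank K' (Ω[K'⁄k]) = 1)
  {t : K} (ht : P.1 t = WithZero.exp (-1)) (ht' : LocRes.D F' (ψ (algebraMap K K' t)) ≠ 0)

include hK he hφ hψ ht in
/-- residue of the trace at `P` is the residue at `Q` when the function is integral at the other
places over `P` -/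
theorem locRes_trace_eq (w : K') (hw : ∀ Q' : Place k K', IsOver Q' P → Q' ≠ Q → Q'.1 w ≤ 1) :
    LocRes.locRes φ (Algebra.trace K K' w) t = LocRes.locRes ψ w (algebraMap K K' t) := by
  classical
  set Qs := (finite_isOver (K' := K') hK P).toFinset with hQsdef
  have hQs : ∀ Q', Q' ∈ Qs ↔ IsOver Q' P := fun Q' => (finite_isOver hK P).mem_toFinset
  have h1 := res_trace_places hK P Qs hQs w t
  rw [res_OP_eq_locRes hφ] at h1
  rw [h1, Finset.sum_eq_single Q, res_OP_eq_locRes hψ]
  · intro Q' hQ' hne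
    have hov := (hQs Q').1 hQ'
    refine res_eq_zero_of_stable (mulK_stable (hw Q' hov hne)) (mulK_stable ?_) (mulK_comm _ _)
    obtain ⟨e', he'⟩ := hov
    rw [he', ht]
    exact pow_le_one' (by rw [← WithZero.exp_zero, WithZero.exp_le_exp]; norm_num) e'
  · intro hQ
    exact absurd ((hQs Q).2 ⟨e, he⟩) hQ

include hK he hφ hψ hfr hfr' ht ht' in
/-- elements of the trace dual of the integral closure have `v_Q ≤ exp d` -/
theorem trace_dual_le (y : K')
    (hy : ∀ z : K', (∀ Q' : Place k K', IsOver Q' P → Q'.1 z ≤ 1) →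
      P.1 (Algebra.trace K K' (y * z)) ≤ 1) :
    Q.1 y ≤ WithZero.exp (LocRes.ordDiff ψ 1 (algebraMap K K' t)) := by
  classical
  set t' := algebraMap K K' t with ht'def
  set d := LocRes.ordDiff ψ 1 t' with hd
  by_contra hlt
  push Not at hlt
  have hy0 : y ≠ 0 := by
    rintro rfl
    rw [map_zero] at hlt
    exact not_lt_of_ge zero_le' hlt
  have hDt' : D k K' t' ≠ 0 := D_ne_zero_of_D_phi_ne_zero ψ ht'
  obtain ⟨hDφt, hordt⟩ := ordDiff_uniformizer hφ ht
  have hDt : D k K t ≠ 0 := D_ne_zero_of_D_phi_ne_zero φ hDφt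
  set N := LocRes.ordDiff ψ y t' with hN
  have hNeq : N = - WithZero.log (Q.1 y) + d := ordDiff_eq_add hψ hy0 ht'
  have hQy0 : Q.1 y ≠ 0 := (Valuation.ne_zero_iff _).2 hy0
  have hNneg : N < 0 := by
    rw [← WithZero.exp_log hQy0, WithZero.exp_lt_exp] at hlt
    omega
  obtain ⟨z₀, hz₀, hres⟩ := exists_locRes_ne_zero_of_lt hfr' hψ hy0 hDt'
  haveI : Finite (OverP K' P) := finite_overP hK P
  obtain ⟨z, hz⟩ := weak_approx (fun i : OverP K' P => i.1) Subtype.val_injective
    (fun i => if i.1 = Q then z₀ else 0)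
    (fun i => if i.1 = Q then N else min 0 (- WithZero.log (i.1.1 y)))
  have hzQ : Q.1 (z - z₀) ≤ WithZero.exp N := by
    have := hz ⟨Q, ⟨e, he⟩⟩
    simp only [if_true] at this
    exact this.le
  have hzQ' : ∀ Q' : Place k K', IsOver Q' P → Q' ≠ Q → Q'.1 z ≤ 1 ∧ Q'.1 (y * z) ≤ 1 := by
    intro Q' hov hne
    have := hz ⟨Q', hov⟩
    simp only [if_neg hne, sub_zero] at this
    change Q'.1 z < _ at this
    have hQ'y0 : Q'.1 y ≠ 0 := (Valuation.ne_zero_iff _).2 hy0
    constructor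
    · exact (this.le.trans (WithZero.exp_le_exp.2 (min_le_left _ _))).trans_eq WithZero.exp_zero
    · rw [map_mul]
      calc Q'.1 y * Q'.1 z ≤ Q'.1 y * WithZero.exp (- WithZero.log (Q'.1 y)) :=
            mul_le_mul' le_rfl (this.le.trans (WithZero.exp_le_exp.2 (min_le_right _ _)))
        _ = 1 := by rw [WithZero.exp_neg, WithZero.exp_log hQ'y0, mul_inv_cancel₀ hQ'y0]
  have hzint : ∀ Q' : Place k K', IsOver Q' P → Q'.1 z ≤ 1 := by
    intro Q' hov
    by_cases hne : Q' = Q
    · subst hne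
      have h1 : z = (z - z₀) + z₀ := by ring
      rw [h1]
      refine (Valuation.map_add _ _ _).trans (max_le (hzQ.trans ?_) (hz₀.trans ?_))
      · rw [← WithZero.exp_zero, WithZero.exp_le_exp]; omega
      · rw [← WithZero.exp_zero, WithZero.exp_le_exp]; omega
    · exact (hzQ' Q' hov hne).1
  have h1 := hy z hzint
  have h2 : LocRes.locRes φ (Algebra.trace K K' (y * z)) t = 0 := by
    have := locRes_eq_zero_of_le hfr hφ (u := 1) (v := t) one_ne_zero hDt
      (b := Algebra.trace K K' (y * z)) (by rw [hordt, WithZero.exp_zero]; exact h1)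
    rwa [mul_one] at this
  rw [locRes_trace_eq hK he hφ hψ ht (y * z) (fun Q' hov hne => (hzQ' Q' hov hne).2)] at h2
  have h3 : y * z = (z - z₀) * y + z₀ * y := by ring
  rw [h3, locRes_add_left, locRes_eq_zero_of_le hfr' hψ hy0 hDt' hzQ, zero_add] at h2
  exact hres h2

include hK he hφ hψ hfr hfr' ht ht' in
/-- the bound `exp d` is attained on the trace dual of the integral closure -/
theorem exists_trace_dual_eq :
    ∃ y : K', (∀ z : K', (∀ Q' : Place k K', IsOver Q' P → Q'.1 z ≤ 1) →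
        P.1 (Algebra.trace K K' (y * z)) ≤ 1) ∧
      Q.1 y = WithZero.exp (LocRes.ordDiff ψ 1 (algebraMap K K' t)) := by
  classical
  set t' := algebraMap K K' t with ht'def
  set d := LocRes.ordDiff ψ 1 t' with hd
  haveI : Finite (OverP K' P) := finite_overP hK P
  obtain ⟨y, hy0, hyv⟩ := exists_ord_eq (fun i : OverP K' P => i.1) Subtype.val_injective
    (fun i => if i.1 = Q then d else 0)
  have hyQ : Q.1 y = WithZero.exp d := by
    have := hyv ⟨Q, ⟨e, he⟩⟩
    simp only [if_true] at this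
    exact this
  have hyQ' : ∀ Q' : Place k K', IsOver Q' P → Q' ≠ Q → Q'.1 y = 1 := by
    intro Q' hov hne
    have := hyv ⟨Q', hov⟩
    simp only [if_neg hne, WithZero.exp_zero] at this
    exact this
  refine ⟨y, ?_, hyQ⟩
  intro z hz
  by_contra hlt
  push Not at hlt
  set a := Algebra.trace K K' (y * z) with ha
  have ha0 : a ≠ 0 := by
    intro h0
    rw [h0, map_zero] at hlt
    exact not_lt_of_ge zero_le' hlt
  have hDt' : D k K' t' ≠ 0 := D_ne_zero_of_D_phi_ne_zero ψ ht'
  obtain ⟨hDφt, hordt⟩ := ordDiff_uniformizer hφ ht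
  have hDt : D k K t ≠ 0 := D_ne_zero_of_D_phi_ne_zero φ hDφt
  have hNeq : LocRes.ordDiff φ a t = - WithZero.log (P.1 a) + 0 := by
    rw [ordDiff_eq_add hφ ha0 hDφt, hordt]
  have hPa0 : P.1 a ≠ 0 := (Valuation.ne_zero_iff _).2 ha0
  have hNneg : LocRes.ordDiff φ a t < 0 := by
    have hlt' : WithZero.exp (0 : ℤ) < P.1 a := by rw [WithZero.exp_zero]; exact hlt
    rw [← WithZero.exp_log hPa0, WithZero.exp_lt_exp] at hlt'
    omega
  obtain ⟨b, hb, hres⟩ := exists_locRes_ne_zero_of_lt hfr hφ ha0 hDt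
  have hb1 : P.1 b ≤ 1 := hb.trans (by rw [← WithZero.exp_zero, WithZero.exp_le_exp]; omega)
  have hba : b * a = Algebra.trace K K' (y * (algebraMap K K' b * z)) := by
    rw [ha, ← smul_eq_mul b, ← map_smul, Algebra.smul_def]
    congr 1
    ring
  rw [hba] at hres
  have hb' : ∀ Q' : Place k K', IsOver Q' P → Q'.1 (algebraMap K K' b) ≤ 1 := by
    rintro Q' ⟨e', he'⟩
    rw [he']
    exact pow_le_one' hb1 e'
  have hstab : ∀ Q' : Place k K', IsOver Q' P → Q' ≠ Q →
      Q'.1 (y * (algebraMap K K' b * z)) ≤ 1 := by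
    intro Q' hov hne
    rw [map_mul, map_mul, hyQ' Q' hov hne, one_mul]
    exact (mul_le_mul' (hb' Q' hov) (hz Q' hov)).trans_eq (one_mul _)
  rw [locRes_trace_eq hK he hφ hψ ht _ hstab] at hres
  apply hres
  have h3 : y * (algebraMap K K' b * z) = (algebraMap K K' b * z) * y := by ring
  rw [h3]
  apply locRes_eq_zero_of_le hfr' hψ hy0 hDt'
  rw [ordDiff_eq_add hψ hy0 ht', hyQ, WithZero.log_exp, neg_add_cancel, WithZero.exp_zero, map_mul]
  exact (mul_le_mul' (hb' Q ⟨e, he⟩) (hz Q ⟨e, he⟩)).trans_eq (one_mul _)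

end Dual

end Groth.Agent.Lib.Helper2.Tate
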