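import Mathlib
import Groth.Prelude.Def_LocRes
import Groth.Agent.Lib.Helper2.Tate.TD2

set_option autoImplicit false
open LaurentSeries HahnSeries KaehlerDifferential FunFld Polynomial
open Groth.Agent.Lib.Helper2.FF

namespace Groth.Agent.Lib.Helper2.Tate

universe u v v' w

section PolyDeriv

variable {k : Type u} {K : Type v} {K' : Type v'} {F' : Type w} [Field k] [Field K] [Field K'] [Field F']
  [Algebra k K] [Algebra K K'] [Algebra k K'] [IsScalarTower k K K'] [Algebra k F']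

/-- the part of the derivative of `p(s)` coming from the coefficients -/
noncomputable def coeffD (ψ : K' →ₐ[k] F'⸨X⸩) (s : K') (p : K[X]) : F'⸨X⸩ :=
  p.sum fun i a => LocRes.D F' (ψ (algebraMap K K' a)) * ψ s ^ i

theorem coeffD_add (ψ : K' →ₐ[k] F'⸨X⸩) (s : K') (p q : K[X]) :
    coeffD ψ s (p + q) = coeffD ψ s p + coeffD ψ s q := by
  unfold coeffD
  rw [Polynomial.sum_add_index]
  · intro i
    rw [map_zero, map_zero, map_zero, zero_mul]
  · intro i a b
    rw [map_add, map_add, map_add, add_mul]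

theorem coeffD_monomial (ψ : K' →ₐ[k] F'⸨X⸩) (s : K') (n : ℕ) (a : K) :
    coeffD ψ s (monomial n a) = LocRes.D F' (ψ (algebraMap K K' a)) * ψ s ^ n := by
  unfold coeffD
  rw [Polynomial.sum_monomial_index]
  rw [map_zero, map_zero, map_zero, zero_mul]

theorem D_psi_aeval (ψ : K' →ₐ[k] F'⸨X⸩) (s : K') (p : K[X]) :
    LocRes.D F' (ψ (aeval s p)) =
      coeffD ψ s p + ψ (aeval s (derivative p)) * LocRes.D F' (ψ s) := by
  induction p using Polynomial.induction_on' with
  | add p q hp hq =>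
    rw [map_add, map_add, map_add, hp, hq, coeffD_add, map_add, map_add, map_add]
    ring
  | monomial n a =>
    rw [coeffD_monomial, aeval_monomial, map_mul, map_pow, Derivation.leibniz,
      Derivation.leibniz_pow, derivative_monomial, aeval_monomial, map_mul, map_pow, map_mul,
      map_natCast]
    simp only [smul_eq_mul, nsmul_eq_mul, map_mul, map_natCast]
    ring

end PolyDeriv

section Val

variable {k : Type u} {F : Type w} [Field k] [Field F] [Algebra k F]

theorem D_mem_Fil_zero {h : F⸨X⸩} (hh : h ∈ Fil k 0) : LocRes.D F h ∈ Fil k 0 := by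
  intro n hn
  rw [LocRes.D_coeff]
  by_cases h1 : n + 1 < 0
  · rw [hh (n + 1) h1, smul_zero]
  · have : n + 1 = 0 := by omega
    rw [this, zero_smul]

theorem val_eq_one_of_ordDiff_zero {K : Type v} [Field K] [Algebra k K] (φ : K →ₐ[k] F⸨X⸩) {a : K}
    (h0 : LocRes.D F (φ a) ≠ 0) (h1 : LocRes.ordDiff φ 1 a = 0) :
    Valued.v (LocRes.D F (φ a)) = 1 := by
  rw [ordDiff_one_eq] at h1
  have hv : Valued.v (LocRes.D F (φ a)) ≠ 0 := (Valuation.ne_zero_iff _).2 h0
  rw [← WithZero.exp_log hv, ← WithZero.exp_zero]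
  congr 1
  omega

end Val

section Core

variable {k : Type u} {K : Type v} {K' : Type v'} {F F' : Type w} [Field k] [Field K] [Field K'] [Field F]
  [Field F'] [Algebra k K] [Algebra K K'] [Algebra k K'] [IsScalarTower k K K'] [Algebra k F]
  [Algebra k F']
variable {P : Place k K} {Q : Place k K'} {e : ℕ}
variable {φ : K →ₐ[k] F⸨X⸩} {ψ : K' →ₐ[k] F'⸨X⸩}

/-- the valuation of `p'(s)` for an Eisenstein-like relation `p(s) = 0` -/
theorem val_aeval_derivative (he : IsOverWith Q P e)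
    (hφ : LocRes.IsExpansionAt P.1 φ) (hψ : LocRes.IsExpansionAt Q.1 ψ)
    (hfr : Module.finrank K (Ω[K⁄k]) = 1) {s : K'} (hs : Q.1 s = WithZero.exp (-1))
    {p : K[X]} (hp : aeval s p = 0) (hpc : ∀ i, P.1 (p.coeff i) ≤ 1)
    (hp0 : P.1 (p.coeff 0) = WithZero.exp (-1))
    (ha₀' : LocRes.D F' (ψ (algebraMap K K' (p.coeff 0))) ≠ 0) :
    Q.1 (aeval s (derivative p)) =
      Valued.v (LocRes.D F' (ψ (algebraMap K K' (p.coeff 0)))) := by
  classical
  set a₀ := p.coeff 0 with ha₀
  obtain ⟨hDφa₀, hord₀⟩ := ordDiff_uniformizer hφ hp0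
  have hv₀ : Valued.v (LocRes.D F (φ a₀)) = 1 := val_eq_one_of_ordDiff_zero φ hDφa₀ hord₀
  have hDa₀ : D k K a₀ ≠ 0 := D_ne_zero_of_D_phi_ne_zero φ hDφa₀
  set V₀ := Valued.v (LocRes.D F' (ψ (algebraMap K K' a₀))) with hV₀
  have hV₀0 : V₀ ≠ 0 := (Valuation.ne_zero_iff _).2 ha₀'
  -- each coefficient
  have hcoef : ∀ i, Valued.v (LocRes.D F' (ψ (algebraMap K K' (p.coeff i)))) ≤ V₀ := by
    intro i
    obtain ⟨c, hc⟩ := (finrank_eq_one_iff_of_nonzero' (D k K a₀) hDa₀).mp hfr (D k K (p.coeff i))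
    have h1 : LocRes.D F (φ (p.coeff i)) = φ c * LocRes.D F (φ a₀) := D_phi_eq_mul φ hc.symm
    have h2 : LocRes.D F' (resAlgHom ψ (p.coeff i)) =
        resAlgHom ψ c * LocRes.D F' (resAlgHom ψ a₀) := D_phi_eq_mul (resAlgHom ψ) hc.symm
    have h2' : LocRes.D F' (ψ (algebraMap K K' (p.coeff i))) =
        ψ (algebraMap K K' c) * LocRes.D F' (ψ (algebraMap K K' a₀)) := h2
    have h3 : P.1 c ≤ 1 := by
      have hmem : φ (p.coeff i) ∈ Fil k (F := F) 0 := by
        rw [mem_Fil_iff_val, hφ.1, neg_zero, WithZero.exp_zero]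
        exact hpc i
      have h4 := val_le_of_mem_Fil (D_mem_Fil_zero hmem)
      rw [h1, map_mul, hv₀, mul_one, hφ.1, neg_zero, WithZero.exp_zero] at h4
      exact h4
    rw [h2', map_mul, hψ.1, he c]
    exact (mul_le_mul' (pow_le_one' h3 e) le_rfl).trans_eq (one_mul _)
  have hψs : Valued.v (ψ s) = WithZero.exp (-1) := by rw [hψ.1, hs]
  -- the coefficient part has valuation `V₀`
  have hsum : Valued.v (coeffD ψ s p) = V₀ := by
    have h0mem : 0 ∈ p.support := by
      rw [Polynomial.mem_support_iff]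
      intro h0
      rw [← ha₀] at h0
      rw [h0, map_zero] at hp0
      exact WithZero.exp_ne_zero hp0.symm
    unfold coeffD
    rw [Polynomial.sum_def, ← Finset.add_sum_erase _ _ h0mem, pow_zero, mul_one]
    apply Valuation.map_add_eq_of_lt_left
    apply Valuation.map_sum_lt _ hV₀0
    intro i hi
    have hi0 : i ≠ 0 := (Finset.mem_erase.1 hi).1
    rw [map_mul, map_pow, hψs]
    have h5 : (WithZero.exp (-1 : ℤ)) ^ i < 1 := by
      apply pow_lt_one' _ hi0
      rw [← WithZero.exp_zero, WithZero.exp_lt_exp]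
      norm_num
    calc Valued.v (LocRes.D F' (ψ (algebraMap K K' (p.coeff i)))) * WithZero.exp (-1 : ℤ) ^ i
        ≤ V₀ * WithZero.exp (-1 : ℤ) ^ i := mul_le_mul' (hcoef i) le_rfl
      _ < V₀ * 1 := by
          apply mul_lt_mul_of_pos_left h5
          exact zero_lt_iff.2 hV₀0
      _ = V₀ := mul_one _
  obtain ⟨hDψs, hords⟩ := ordDiff_uniformizer hψ hs
  have hvs : Valued.v (LocRes.D F' (ψ s)) = 1 := val_eq_one_of_ordDiff_zero ψ hDψs hords
  have hmain := D_psi_aeval (K := K) ψ s p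
  rw [hp, map_zero, map_zero] at hmain
  have h6 : ψ (aeval s (derivative p)) * LocRes.D F' (ψ s) = - coeffD ψ s p :=
    eq_neg_of_add_eq_zero_right hmain.symm
  have h7 := congrArg (Valued.v (R := F'⸨X⸩)) h6
  rw [map_mul, hvs, mul_one, Valuation.map_neg, hsum, hψ.1] at h7
  exact h7

end Core

end Groth.Agent.Lib.Helper2.Tate
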