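import Mathlib
import Groth.Prelude.Def_LocRes
import Groth.Agent.Lib.Helper2.Tate.DM1
import Groth.Agent.Lib.Helper2.FunFld.IntCl3
import Groth.Agent.Lib.Helper2.FunFld.IntCl2

set_option autoImplicit false
open LaurentSeries HahnSeries KaehlerDifferential FunFld Polynomial IntermediateField
open Groth.Agent.Lib.Helper2.FF

namespace Groth.Agent.Lib.Helper2.Tate

universe u v v' w

section Norm

variable {k : Type u} {K : Type v} {K' : Type v'} [Field k] [Field K] [Field K']
  [Algebra k K] [Algebra K K'] [Algebra k K'] [IsScalarTower k K K'] [FiniteDimensional K K']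
variable {P : Place k K} {Q : Place k K'} {e : ℕ}

/-- the minimal polynomial of a local parameter at `Q` that is a unit at the other places over
`P`, when `deg Q = deg P`: it generates, has integral coefficients and a uniformizing constant
term -/
theorem minpoly_of_unif (hK : IsFunctionField k K) (he : IsOverWith Q P e) (hdeg : Q.deg = P.deg)
    {s : K'} (hs : Q.1 s = WithZero.exp (-1))
    (hs' : ∀ Q' : Place k K', IsOver Q' P → Q' ≠ Q → Q'.1 s = 1) :
    K⟮s⟯ = ⊤ ∧ (∀ i, P.1 ((minpoly K s).coeff i) ≤ 1) ∧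
      P.1 ((minpoly K s).coeff 0) = WithZero.exp (-1) := by
  classical
  letI : Algebra P.O K' := ((algebraMap K K').comp P.O.subtype).toAlgebra
  haveI : IsScalarTower P.O K K' := IsScalarTower.of_algebraMap_eq (fun _ => rfl)
  have hsv : ∀ Q' : Place k K', IsOver Q' P → Q'.1 s ≤ 1 := by
    intro Q' hov
    by_cases hne : Q' = Q
    · rw [hne, hs, ← WithZero.exp_zero, WithZero.exp_le_exp]; norm_num
    · exact (hs' Q' hov hne).le
  have hsint : IsIntegral P.O s := by
    have hB := integralClosure_eq_BP (K' := K') P hK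
    have : s ∈ integralClosure P.O K' := by rw [hB]; exact fun i => hsv i.1 i.2
    exact this
  have hmp := minpoly.isIntegrallyClosed_eq_field_fractions' K hsint
  have hcoef : ∀ i, P.1 ((minpoly K s).coeff i) ≤ 1 := by
    intro i
    rw [hmp, coeff_map]
    exact (mem_O_iff P _).1 (Subtype.mem _)
  have hs0 : s ≠ 0 := by
    rintro rfl
    rw [map_zero] at hs
    exact WithZero.exp_ne_zero hs.symm
  -- the norm has order one
  set Qs := (finite_isOver (K' := K') hK P).toFinset with hQsdef
  have hQs : ∀ Q', Q' ∈ Qs ↔ IsOver Q' P := fun Q' => (finite_isOver hK P).mem_toFinset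
  have hnorm := deg_mul_ord_norm P hK s Qs hQs
  rw [Finset.sum_eq_single Q] at hnorm
  rotate_left
  · intro Q' hQ' hne
    have : Q'.ord s = 0 := by
      rw [ord_def]
      change - WithZero.log (Q'.1 s) = 0
      rw [hs' Q' ((hQs Q').1 hQ') hne, WithZero.log_one, neg_zero]
    rw [this, mul_zero]
  · intro hQ
    exact absurd ((hQs Q).2 ⟨e, he⟩) hQ
  have hordQ : Q.ord s = 1 := by
    rw [ord_def]
    change - WithZero.log (Q.1 s) = 1
    rw [hs, WithZero.log_exp, neg_neg]
  rw [hordQ, mul_one, hdeg] at hnorm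
  have hdegpos : (0 : ℤ) < P.deg := by exact_mod_cast deg_pos P hK
  have hordN : P.ord (Algebra.norm K s) = 1 := by
    have : (P.deg : ℤ) * P.ord (Algebra.norm K s) = (P.deg : ℤ) * 1 := by rw [hnorm, mul_one]
    exact mul_left_cancel₀ (ne_of_gt hdegpos) this
  have hN0 : Algebra.norm K s ≠ 0 := Algebra.norm_ne_zero_iff.2 hs0
  have hvN : P.1 (Algebra.norm K s) = WithZero.exp (-1) := by
    have := (ord_eq_iff P hN0 1).1 hordN
    exact this
  -- express the norm through the constant coefficient
  have hsK : IsIntegral K s := Algebra.IsIntegral.isIntegral s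
  have h1 := Algebra.norm_eq_norm_adjoin K s
  have h2 := Algebra.PowerBasis.norm_gen_eq_coeff_zero_minpoly (adjoin.powerBasis hsK)
  rw [adjoin.powerBasis_gen hsK, minpoly_gen] at h2
  set a₀ := (minpoly K s).coeff 0 with ha₀
  set m := Module.finrank K⟮s⟯ K' with hm
  have hva : P.1 (Algebra.norm K s) = P.1 a₀ ^ m := by
    rw [h1, map_pow, h2, map_mul, map_pow, Valuation.map_neg, map_one, one_pow, one_mul]
  rw [hvN] at hva
  have ha₀0 : P.1 a₀ ≠ 0 := by
    intro h0
    rw [h0] at hva
    have hm0 : m ≠ 0 := by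
      rw [hm]
      exact (Module.finrank_pos).ne'
    rw [zero_pow hm0] at hva
    exact WithZero.exp_ne_zero hva
  rw [← WithZero.exp_log ha₀0, ← WithZero.exp_nsmul, WithZero.exp_inj, nsmul_eq_mul] at hva
  have hm1 : m = 1 := by
    have hdvd : (m : ℤ) ∣ 1 := ⟨-(WithZero.log (P.1 a₀)), by linarith⟩
    have := Int.natAbs_dvd_natAbs.2 hdvd
    simpa using this
  refine ⟨finrank_eq_one_iff_eq_top.1 hm1, hcoef, ?_⟩
  rw [hm1] at hva
  rw [← WithZero.exp_log ha₀0]
  congr 1
  push_cast at hva
  linarith

end Norm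

end Groth.Agent.Lib.Helper2.Tate
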