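import Mathlib
import Groth.Prelude.Def_LocRes
import Groth.Agent.Lib.Helper2.Tate.DM2
import Groth.Agent.Lib.Helper2.FunFld.CEG1
import Groth.Agent.Lib.Helper2.FunFld.Inertia2

set_option autoImplicit false
open LaurentSeries HahnSeries KaehlerDifferential FunFld Polynomial IntermediateField
open Groth.Agent.Lib.Helper2.FF

namespace Groth.Agent.Lib.Helper2.Tate

universe u v v' w

section Deg

variable {k : Type u} {K : Type v} {K' : Type v'} [Field k] [Field K] [Field K']
  [Algebra k K] [Algebra K K'] [Algebra k K'] [IsScalarTower k K K']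
variable {P : Place k K} {Q : Place k K'} {e : ℕ}

/-- residue degree one, in the `HasExtension` form, gives equal degrees -/
theorem deg_eq_of_residue_surjective [P.1.HasExtension Q.1]
    (hf : Function.Surjective
      (algebraMap (IsLocalRing.ResidueField P.O) (IsLocalRing.ResidueField Q.O))) :
    Q.deg = P.deg := by
  set g := algebraMap (IsLocalRing.ResidueField P.O) (IsLocalRing.ResidueField Q.O) with hg
  let f : IsLocalRing.ResidueField P.O →ₗ[k] IsLocalRing.ResidueField Q.O :=
    { toFun := g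
      map_add' := map_add g
      map_smul' := fun c x => by
        obtain ⟨a, rfl⟩ := IsLocalRing.residue_surjective x
        change g (IsLocalRing.residue P.O (c • a)) = c • g (IsLocalRing.residue P.O a)
        rw [hg, Valuation.HasExtension.algebraMap_residue_eq_residue_algebraMap,
          Valuation.HasExtension.algebraMap_residue_eq_residue_algebraMap]
        change _ = IsLocalRing.residue Q.O (c • algebraMap P.O Q.O a)
        congr 1
        apply Subtype.ext
        rw [coe_smul_O Q c]
        erw [Valuation.HasExtension.coe_algebraMap_valuationSubring_eq,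
          Valuation.HasExtension.coe_algebraMap_valuationSubring_eq]
        rw [coe_smul_O P c, Algebra.smul_def, Algebra.smul_def, map_mul,
          ← IsScalarTower.algebraMap_apply] }
  have hbij : Function.Bijective f := ⟨g.injective, hf⟩
  exact (LinearEquiv.ofBijective f hbij).finrank_eq.symm

/-- total ramification: `Q` is the only place over `P` and has the same degree -/
theorem deg_eq_of_totally_ramified [FiniteDimensional K K'] (hK : IsFunctionField k K)
    (he : IsOverWith Q P e) (hn : e = Module.finrank K K') :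
    Q.deg = P.deg ∧ ∀ Q' : Place k K', IsOver Q' P → Q' = Q := by
  classical
  obtain ⟨hfin, hsum⟩ := sum_ramIdx_mul_deg (K' := K') hK P
  set Qs := hfin.toFinset with hQsdef
  have hQs : ∀ Q', Q' ∈ Qs ↔ IsOver Q' P := fun Q' => hfin.mem_toFinset
  have h1 := hsum Qs hQs
  have hQmem : Q ∈ Qs := (hQs Q).2 ⟨e, he⟩
  rw [← Finset.add_sum_erase _ _ hQmem, ramIdx_eq he, hn] at h1
  have hnpos : 0 < Module.finrank K K' := Module.finrank_pos
  have hQpos : 0 < Q.deg := deg_pos_of_finite' (K' := K') hK Q
  have hdvd : P.deg ∣ Q.deg := deg_dvd_deg_of_isOverWith he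
  have hle : P.deg ≤ Q.deg := Nat.le_of_dvd hQpos hdvd
  have hle2 : Module.finrank K K' * Q.deg ≤ Module.finrank K K' * P.deg := by
    rw [← h1]; exact Nat.le_add_right _ _
  have hle3 : Q.deg ≤ P.deg := Nat.le_of_mul_le_mul_left hle2 hnpos
  have hdeg : Q.deg = P.deg := le_antisymm hle3 hle
  refine ⟨hdeg, fun Q' hov => ?_⟩
  by_contra hne
  rw [hdeg] at h1
  have h2 : ∑ Q'' ∈ Qs.erase Q, ramIdx Q'' P * Q''.deg = 0 := by omega
  have hmem : Q' ∈ Qs.erase Q := Finset.mem_erase.2 ⟨hne, (hQs Q').2 hov⟩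
  have h3 := (Finset.sum_eq_zero_iff.1 h2) Q' hmem
  have h4 : 1 ≤ ramIdx Q' P := isOverWith_one_le (isOverWith_ramIdx hov)
  have h5 : 0 < Q'.deg := deg_pos_of_finite' (K' := K') hK Q'
  have : 0 < ramIdx Q' P * Q'.deg := Nat.mul_pos h4 h5
  omega

end Deg

section Main

variable {k : Type u} {K : Type v} {K' : Type v'} {F F' : Type w} [Field k] [Field K] [Field K'] [Field F]
  [Field F'] [Algebra k K] [Algebra K K'] [Algebra k K'] [IsScalarTower k K K'] [Algebra k F]
  [Algebra k F'] [FiniteDimensional K K']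
variable {P : Place k K} {Q : Place k K'} {e : ℕ}
variable {φ : K →ₐ[k] F⸨X⸩} {ψ : K' →ₐ[k] F'⸨X⸩}

/-- `v_Q(f'(s)) = d(Q|P)` for the minimal polynomial `f` of a local parameter `s` at `Q` which is
a unit at the other places over `P`, when `deg Q = deg P` -/
theorem ord_aeval_derivative_minpoly (hK : IsFunctionField k K) (he : IsOverWith Q P e)
    (hφ : LocRes.IsExpansionAt P.1 φ) (hψ : LocRes.IsExpansionAt Q.1 ψ)
    (hfr : Module.finrank K (Ω[K⁄k]) = 1) (hdeg : Q.deg = P.deg)
    {x : K} (hx : LocRes.D F (φ x) ≠ 0) (hx' : LocRes.D F' (ψ (algebraMap K K' x)) ≠ 0)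
    {s : K'} (hs : Q.1 s = WithZero.exp (-1))
    (hs' : ∀ Q' : Place k K', IsOver Q' P → Q' ≠ Q → Q'.1 s = 1) :
    K⟮s⟯ = ⊤ ∧
      Q.ord (aeval s (derivative (minpoly K s))) = LocRes.diffExp φ ψ e x := by
  obtain ⟨htop, hcoef, hc0⟩ := minpoly_of_unif hK he hdeg hs hs'
  refine ⟨htop, ?_⟩
  obtain ⟨hDφa₀, hord₀⟩ := ordDiff_uniformizer hφ hc0
  obtain ⟨ha₀', hd⟩ := diffExp_indep he hφ hψ hfr hx hx' hDφa₀
  have h1 := val_aeval_derivative he hφ hψ hfr hs (minpoly.aeval K s) hcoef hc0 ha₀'
  rw [hd]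
  unfold LocRes.diffExp
  rw [hord₀, mul_zero, sub_zero, ordDiff_one_eq, ← h1]
  rfl

end Main

end Groth.Agent.Lib.Helper2.Tate
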