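import Mathlib
import Groth.Prelude.Def_LocRes

set_option autoImplicit false
open LaurentSeries HahnSeries

namespace Groth.Agent.Lib.Helper2.Tate

universe w

section HD

variable {F : Type w} [Field F]

theorem exists_lower (f : F⸨X⸩) : ∃ A : ℤ, ∀ i < A, f.coeff i = 0 := by
  by_cases h : f = 0
  · exact ⟨0, fun i _ => by rw [h, HahnSeries.coeff_zero]⟩
  · exact ⟨f.order, fun i hi => HahnSeries.coeff_eq_zero_of_lt_order hi⟩

theorem coeff_mul_Icc (f g : F⸨X⸩) (A B : ℤ) (hf : ∀ i < A, f.coeff i = 0)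
    (hg : ∀ j < B, g.coeff j = 0) (m : ℤ) :
    (f * g).coeff m = ∑ i ∈ Finset.Icc A (m - B), f.coeff i * g.coeff (m - i) := by
  rw [HahnSeries.coeff_mul]
  have hinj : Function.Injective (fun i : ℤ => (i, m - i)) := fun a b h => (Prod.ext_iff.1 h).1
  have : ∑ i ∈ Finset.Icc A (m - B), f.coeff i * g.coeff (m - i)
      = ∑ ij ∈ (Finset.Icc A (m - B)).map ⟨fun i => (i, m - i), hinj⟩,
          f.coeff ij.1 * g.coeff ij.2 := by
    rw [Finset.sum_map]
    rfl
  rw [this]
  apply Finset.sum_subset
  · intro ij hij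
    rw [Finset.mem_addAntidiagonal] at hij
    obtain ⟨h1, h2, h3⟩ := hij
    rw [Finset.mem_map]
    refine ⟨ij.1, ?_, ?_⟩
    · rw [Finset.mem_Icc]
      constructor
      · by_contra hlt
        exact h1 (hf _ (not_le.1 hlt))
      · by_contra hlt
        apply h2
        apply hg
        omega
    · apply Prod.ext
      · rfl
      · simp only [Function.Embedding.coeFn_mk]
        omega
  · intro ij hij hnot
    rw [Finset.mem_map] at hij
    obtain ⟨i, -, rfl⟩ := hij
    simp only [Function.Embedding.coeFn_mk] at hnot ⊢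
    rw [Finset.mem_addAntidiagonal] at hnot
    by_contra hne
    apply hnot
    refine ⟨?_, ?_, by simp⟩
    · intro h0
      apply hne
      rw [h0, zero_mul]
    · intro h0
      apply hne
      rw [h0, mul_zero]

theorem hasseDeriv_lower (a : ℕ) (f : F⸨X⸩) (A : ℤ) (hf : ∀ i < A, f.coeff i = 0) :
    ∀ i < A - a, (LaurentSeries.hasseDeriv F a f).coeff i = 0 := by
  intro i hi
  rw [LaurentSeries.hasseDeriv_coeff, hf _ (by omega), smul_zero]

theorem hasseDeriv_mul (n : ℕ) (f g : F⸨X⸩) :
    LaurentSeries.hasseDeriv F n (f * g) = ∑ ab ∈ Finset.HasAntidiagonal.antidiagonal n,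
      LaurentSeries.hasseDeriv F ab.1 f * LaurentSeries.hasseDeriv F ab.2 g := by
  obtain ⟨A, hA⟩ := exists_lower f
  obtain ⟨B, hB⟩ := exists_lower g
  ext m
  rw [LaurentSeries.hasseDeriv_coeff, coeff_mul_Icc f g A B hA hB, HahnSeries.coeff_sum]
  have h1 : ∀ ab ∈ Finset.HasAntidiagonal.antidiagonal n,
      (LaurentSeries.hasseDeriv F ab.1 f * LaurentSeries.hasseDeriv F ab.2 g).coeff m
      = ∑ i ∈ Finset.Icc A (m + n - B), ((Ring.choose i ab.1 * Ring.choose (m + n - i) ab.2 : ℤ) : F)
          * (f.coeff i * g.coeff (m + n - i)) := by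
    intro ab hab
    rw [Finset.HasAntidiagonal.mem_antidiagonal] at hab
    rw [coeff_mul_Icc _ _ (A - ab.1) (B - ab.2) (hasseDeriv_lower _ f A hA)
      (hasseDeriv_lower _ g B hB)]
    refine Finset.sum_nbij' (fun i => i + ab.1) (fun i => i - ab.1) ?_ ?_ ?_ ?_ ?_
    · intro i hi
      rw [Finset.mem_Icc] at hi ⊢
      omega
    · intro i hi
      rw [Finset.mem_Icc] at hi ⊢
      omega
    · intro i _
      ring
    · intro i _
      ring
    · intro i _
      rw [LaurentSeries.hasseDeriv_coeff, LaurentSeries.hasseDeriv_coeff]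
      have e : m - i + (ab.2 : ℤ) = m + n - (i + ab.1) := by
        rw [← hab]; push_cast; ring
      rw [e, zsmul_eq_mul, zsmul_eq_mul]
      push_cast
      ring
  rw [Finset.sum_congr rfl h1, Finset.sum_comm, Finset.smul_sum]
  refine Finset.sum_congr rfl ?_
  intro i _
  rw [← Finset.sum_mul, zsmul_eq_mul]
  congr 1
  have hv := Ring.add_choose_eq (r := i) (s := m + n - i) n (Commute.all _ _)
  rw [show i + (m + n - i) = m + n by ring] at hv
  rw [hv]
  push_cast
  rfl

/-- the Taylor homomorphism `f ↦ ∑ₙ (hasseDeriv n f) Yⁿ` -/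
noncomputable def taylorHom : F⸨X⸩ →+* PowerSeries F⸨X⸩ where
  toFun f := PowerSeries.mk fun n => LaurentSeries.hasseDeriv F n f
  map_one' := by
    ext n : 1
    rw [PowerSeries.coeff_mk, PowerSeries.coeff_one]
    have : (1 : F⸨X⸩) = HahnSeries.single 0 1 := rfl
    rw [this, LaurentSeries.hasseDeriv_single]
    split_ifs with h
    · subst h
      rw [Ring.choose_zero_right, one_smul]
      simp
    · rw [Ring.choose_zero_pos ℤ (Nat.pos_of_ne_zero h), zero_smul, HahnSeries.single_eq_zero]
  map_mul' f g := by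
    ext n : 1
    rw [PowerSeries.coeff_mk, PowerSeries.coeff_mul, hasseDeriv_mul]
    refine Finset.sum_congr rfl ?_
    intro ab _
    rw [PowerSeries.coeff_mk, PowerSeries.coeff_mk]
  map_zero' := by
    ext n : 1
    rw [PowerSeries.coeff_mk, map_zero, map_zero]
  map_add' f g := by
    ext n : 1
    rw [PowerSeries.coeff_mk, map_add, map_add, PowerSeries.coeff_mk, PowerSeries.coeff_mk]

theorem coeff_taylorHom (n : ℕ) (f : F⸨X⸩) :
    PowerSeries.coeff n (taylorHom f) = LaurentSeries.hasseDeriv F n f := by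
  change PowerSeries.coeff n (PowerSeries.mk fun n => LaurentSeries.hasseDeriv F n f) = _
  rw [PowerSeries.coeff_mk]

end HD

section Uniq

open scoped IntermediateField

variable {k K L : Type*} [Field k] [Field K] [Algebra k K] [Field L]

/-- the equalizer of two ring homomorphisms agreeing on `k` is an intermediate field -/
def eqField' (h h' : K →+* PowerSeries L)
    (hk : ∀ c : k, h (algebraMap k K c) = h' (algebraMap k K c)) : IntermediateField k K where
  carrier := {z | h z = h' z}
  mul_mem' {a b} ha hb := by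
    simp only [Set.mem_ofPred_eq] at ha hb ⊢
    rw [map_mul, map_mul, ha, hb]
  one_mem' := by simp
  add_mem' {a b} ha hb := by
    simp only [Set.mem_ofPred_eq] at ha hb ⊢
    rw [map_add, map_add, ha, hb]
  zero_mem' := by simp
  algebraMap_mem' c := hk c
  inv_mem' a ha := by
    simp only [Set.mem_ofPred_eq] at ha ⊢
    by_cases h0 : a = 0
    · rw [h0, inv_zero, map_zero, map_zero]
    · have h1 : h a⁻¹ * h a = 1 := by rw [← map_mul, inv_mul_cancel₀ h0, map_one]
      have h2 : h a * h' a⁻¹ = 1 := by rw [ha, ← map_mul, mul_inv_cancel₀ h0, map_one]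
      exact left_inv_eq_right_inv h1 h2

/-- uniqueness of lifts to power series over a separating element -/
theorem ringHom_ext_of_separable (s : K) [Algebra.IsSeparable k⟮s⟯ K] (φ : K →+* L)
    (H H' : K →+* PowerSeries L)
    (hc : ∀ y, PowerSeries.constantCoeff (H y) = φ y)
    (hc' : ∀ y, PowerSeries.constantCoeff (H' y) = φ y)
    (hk : ∀ c : k, H (algebraMap k K c) = H' (algebraMap k K c)) (hs : H s = H' s) : H = H' := by
  have hle : k⟮s⟯ ≤ eqField' H H' hk := by
    rw [IntermediateField.adjoin_simple_le_iff]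
    exact hs
  ext1 z
  have hsep : (minpoly k⟮s⟯ z).Separable := Algebra.IsSeparable.isSeparable k⟮s⟯ z
  obtain ⟨f, hf⟩ : ∃ f, f = minpoly k⟮s⟯ z := ⟨_, rfl⟩
  rw [← hf] at hsep
  obtain ⟨h, hh⟩ : ∃ h : k⟮s⟯ →+* PowerSeries L, h = H.comp (algebraMap k⟮s⟯ K) := ⟨_, rfl⟩
  have hh' : h = H'.comp (algebraMap k⟮s⟯ K) := by
    rw [hh]
    ext1 x
    exact hle x.2
  have hfz : Polynomial.eval₂ (algebraMap k⟮s⟯ K) z f = 0 := by
    rw [hf]; exact minpoly.aeval k⟮s⟯ z
  have ha : Polynomial.eval₂ h (H z) f = 0 := by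
    rw [hh]
    have := Polynomial.hom_eval₂ f (algebraMap k⟮s⟯ K) H z
    rw [← this, hfz, map_zero]
  have hb : Polynomial.eval₂ h (H' z) f = 0 := by
    rw [hh']
    have := Polynomial.hom_eval₂ f (algebraMap k⟮s⟯ K) H' z
    rw [← this, hfz, map_zero]
  obtain ⟨G, hG⟩ : ∃ G : Polynomial (PowerSeries L), G = f.map h := ⟨_, rfl⟩
  rw [← Polynomial.eval_map, ← hG] at ha hb
  obtain ⟨c, hcG⟩ := Polynomial.binomExpansion G (H z) (H' z - H z)
  rw [add_sub_cancel, ha, hb, zero_add] at hcG
  have hfac : (H' z - H z) * (G.derivative.eval (H z) + c * (H' z - H z)) = 0 := by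
    rw [hcG]; ring
  have hunit : G.derivative.eval (H z) + c * (H' z - H z) ≠ 0 := by
    intro h0
    have h1 := congrArg PowerSeries.constantCoeff h0
    rw [map_add, map_mul, map_sub, hc, hc', sub_self, mul_zero, add_zero, map_zero, hG,
      Polynomial.derivative_map, Polynomial.eval_map,
      Polynomial.hom_eval₂ _ h (PowerSeries.constantCoeff (R := L)) (H z), hc] at h1
    have h2 : (PowerSeries.constantCoeff (R := L)).comp h = φ.comp (algebraMap k⟮s⟯ K) := by
      rw [hh]
      ext1 x
      simp only [RingHom.coe_comp, Function.comp_apply]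
      exact hc _
    rw [h2, ← Polynomial.hom_eval₂] at h1
    have h3 := φ.injective (h1.trans (map_zero φ).symm)
    exact hsep.eval₂_derivative_ne_zero _ hfz h3
  rcases mul_eq_zero.1 hfac with h | h
  · exact (sub_eq_zero.1 h).symm
  · exact absurd h hunit

end Uniq

end Groth.Agent.Lib.Helper2.Tate
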